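import Groth.Agent.RelCube.PicProduct
import Groth.Agent.S4406
import Groth.Agent.S10960
import Groth.Agent.S0023
import Groth.Agent.H9Existence.ProjLift
import Groth.Agent.H23.PnChart
import Groth.Agent.KRRReg.Section
import Groth.Agent.TwistFlat.Base

/-!
The Picard group of projective space over a connected scheme.
-/

set_option autoImplicit false
set_option linter.style.haveILetI false
set_option linter.unusedSectionVars false
set_option backward.isDefEq.respectTransparency false
set_option backward.isDefEq.respectTransparency.types false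
set_option synthInstance.maxHeartbeats 400000
set_option maxHeartbeats 1000000

universe u

open CategoryTheory CategoryTheory.Limits AlgebraicGeometry
open Groth.Agent.H23 Groth.Agent.H23.TrivBasic Groth.Agent.H23.SeesawGlobal

open scoped Groth.Agent.H23.PicMul

attribute [-instance] CategoryTheory.catToReflQuiver

namespace Groth.Agent.RelCube

open Groth.Agent

attribute [local instance] MvPolynomial.algebraMvPolynomial

/-- Projective space over a field, over projective space over the integers, with its twists. -/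
theorem exists_baseChange_twist (n : ℕ) (R : Type u) [CommRing R] [Algebra (ULift.{u} ℤ) R] :
    ∃ b : CohB1.ProjSpace n R ⟶ CohB1.ProjSpace n (ULift.{u} ℤ),
      IsPullback b (CohB1.ProjSpace.toSpec n R) (CohB1.ProjSpace.toSpec n (ULift.{u} ℤ))
          (Spec.map (CommRingCat.ofHom (algebraMap (ULift.{u} ℤ) R))) ∧
        ∀ d : ℤ, Nonempty ((Scheme.Modules.pullback b).obj (Twist.twistProjSpace n (ULift.{u} ℤ) d) ≅
          Twist.twistProjSpace n R d) := by
  let φ : CohB1.polyGrading n (ULift.{u} ℤ) →+*ᵍ CohB1.polyGrading n R :=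
    { MvPolynomial.map (algebraMap (ULift.{u} ℤ) R) with
      map_mem := fun {i x} hx => by
        rw [MvPolynomial.mem_homogeneousSubmodule] at hx ⊢
        exact hx.map _ }
  have hφA : ∀ b, φ b = algebraMap (MvPolynomial (Fin (n + 1)) (ULift.{u} ℤ)) (MvPolynomial (Fin (n + 1)) R) b :=
    fun _ => rfl
  have hφ : HomogeneousIdeal.irrelevant (CohB1.polyGrading n R) ≤
      (HomogeneousIdeal.irrelevant (CohB1.polyGrading n (ULift.{u} ℤ))).map φ := by
    intro a ha
    have h1 := SegreX.irrelevant_le_span n R ha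
    refine (Ideal.span_le.2 ?_ : Ideal.span _ ≤ ((HomogeneousIdeal.irrelevant (CohB1.polyGrading n (ULift.{u} ℤ))).map φ).toIdeal) h1
    rintro _ ⟨i, rfl⟩
    have hX : (MvPolynomial.X i : MvPolynomial (Fin (n + 1)) (ULift.{u} ℤ)) ∈
        HomogeneousIdeal.irrelevant (CohB1.polyGrading n (ULift.{u} ℤ)) :=
      HomogeneousIdeal.mem_irrelevant_of_mem _ one_pos (MvPolynomial.isHomogeneous_X _ i)
    have h2 := Ideal.mem_map_of_mem (φ : MvPolynomial (Fin (n + 1)) (ULift.{u} ℤ) →+* MvPolynomial (Fin (n + 1)) R) hX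
    rw [show (φ : MvPolynomial (Fin (n + 1)) (ULift.{u} ℤ) →+* MvPolynomial (Fin (n + 1)) R) (MvPolynomial.X i) =
      MvPolynomial.X i from MvPolynomial.map_X _ i] at h2
    exact h2
  exact ⟨_, Proj16.BaseChange.isPullback_map φ hφA hφ,
    fun d => S4406.result (CohB1.polyGrading n (ULift.{u} ℤ)) (CohB1.polyGrading n R) φ hφA hφ d⟩

/-- A field point gives a fibre which is projective space over that field. -/
theorem exists_fibre_iso (r : ℕ) (S : Scheme.{u}) {K : Type u} [Field K] (k : Spec (CommRingCat.of K) ⟶ S) :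
    ∃ e : pullback (CohB1.ProjSpaceOver.toBase r S) k ≅ CohB1.ProjSpace r K,
      e.hom ≫ CohB1.ProjSpace.toSpec r K = pullback.snd _ k ∧
      ∀ d : ℤ, Nonempty ((Scheme.Modules.pullback (pullback.fst (CohB1.ProjSpaceOver.toBase r S) k)).obj
        (Twist.twistOver r S d) ≅ (Scheme.Modules.pullback e.hom).obj (Twist.twistProjSpace r K d)) := by
  letI : Algebra (ULift.{u} ℤ) K := ((Int.castRingHom K).comp ULift.ringEquiv.toRingHom).toAlgebra
  obtain ⟨b, hb, htw⟩ := exists_baseChange_twist r K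
  have hk : k ≫ specULiftZIsTerminal.from S = Spec.map (CommRingCat.ofHom (algebraMap (ULift.{u} ℤ) K)) :=
    specULiftZIsTerminal.hom_ext _ _
  have sq : IsPullback (pullback.fst (CohB1.ProjSpaceOver.toBase r S) k ≫ pullback.fst _ _)
      (pullback.snd (CohB1.ProjSpaceOver.toBase r S) k) (CohB1.ProjSpace.toSpec r (ULift.{u} ℤ))
      (Spec.map (CommRingCat.ofHom (algebraMap (ULift.{u} ℤ) K))) := by
    rw [← hk]
    exact (IsPullback.of_hasPullback (CohB1.ProjSpaceOver.toBase r S) k).paste_horiz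
      (IsPullback.of_hasPullback (CohB1.ProjSpace.toSpec r (ULift.{u} ℤ)) (specULiftZIsTerminal.from S))
  refine ⟨sq.isoIsPullback _ _ hb, sq.isoIsPullback_hom_snd _ _ hb, fun d => ?_⟩
  obtain ⟨τ⟩ := htw d
  exact ⟨(Scheme.Modules.pullbackComp _ _).app _ ≪≫
    (Scheme.Modules.pullbackCongr (sq.isoIsPullback_hom_fst _ _ hb).symm).app _ ≪≫
    ((Scheme.Modules.pullbackComp _ _).app _).symm ≪≫ (Scheme.Modules.pullback _).mapIso τ⟩

instance flat_toBase' (r : ℕ) (S : Scheme.{u}) : Flat (CohB1.ProjSpaceOver.toBase r S) := by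
  haveI : Smooth (CohB1.ProjSpace.toSpec r (ULift.{u} ℤ)) := KRRReg.smooth_toSpec r _
  unfold CohB1.ProjSpaceOver.toBase CohB1.ProjSpaceOver
  infer_instance

instance lfp_toBase' (r : ℕ) (S : Scheme.{u}) : LocallyOfFinitePresentation (CohB1.ProjSpaceOver.toBase r S) := by
  haveI : Smooth (CohB1.ProjSpace.toSpec r (ULift.{u} ℤ)) := KRRReg.smooth_toSpec r _
  unfold CohB1.ProjSpaceOver.toBase CohB1.ProjSpaceOver
  infer_instance

instance proper_toBase' (r : ℕ) (S : Scheme.{u}) : IsProper (CohB1.ProjSpaceOver.toBase r S) :=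
  TwistFlat.isProper_toBase r

instance gi_toBase' (r : ℕ) (S : Scheme.{u}) : GeometricallyIntegral (CohB1.ProjSpaceOver.toBase r S) := by
  refine ⟨fun {K} _ y Y' fst snd h => ?_⟩
  obtain ⟨e, -, -⟩ := exists_fibre_iso r S y
  haveI := H23.PnChart.isIntegral_projSpace r K
  exact IsIntegral.of_isIso (e.inv ≫ (h.isoIsPullback _ _ (IsPullback.of_hasPullback _ y)).inv)

theorem noH1_toBase (r : ℕ) (S : Scheme.{u}) (v : S) :
    NoH1 (CohB1.ProjSpaceOver.toBase r S) (S.fromSpecResidueField v) := by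
  obtain ⟨e, -, -⟩ := exists_fibre_iso r S (S.fromSpecResidueField v)
  haveI : IsProper (CohB1.ProjSpace.toSpec r (S.residueField v)) := PnCoh.Chow.isProper_toSpec r _
  exact subsingleton_HH_structure_iso (CohB1.ProjSpace.toSpec r (S.residueField v)) e.hom
    (S0023.result r _ 1 one_pos)

theorem isInvertible_twistOver (r : ℕ) (S : Scheme.{u}) (d : ℤ) : PicF.IsInvertible (Twist.twistOver r S d) :=
  PicClLib.isInvertible_pullback _ (TwistFlat.isInvertible_twistProjSpace r d)

/-- Invertible modules on projective space over a connected base are twists of modules from the base. -/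
theorem exists_twist_decomp (S : Scheme.{u}) [ConnectedSpace S] (r : ℕ) (hr : 1 ≤ r)
    {c : PicF.Cl (CohB1.ProjSpaceOver r S)} (hc : PicF.IsInvertibleCl c) :
    ∃ (a : PicF.Cl S) (d : ℤ), PicF.IsInvertibleCl a ∧
      c = PicMul.pullHom (CohB1.ProjSpaceOver.toBase r S) a * PicF.cl (Twist.twistOver r S d) := by
  obtain ⟨z⟩ := (inferInstance : Nonempty S)
  let k := S.fromSpecResidueField z
  let g := pullback.fst (CohB1.ProjSpaceOver.toBase r S) k
  obtain ⟨e, -, htw⟩ := exists_fibre_iso r S k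
  obtain ⟨N, rfl, hN⟩ := hc
  obtain ⟨d, ⟨θ⟩, -⟩ := S10960.result (S.residueField z) r hr
    ((Scheme.Modules.pullback e.inv).obj ((Scheme.Modules.pullback g).obj N))
    (PicClLib.isInvertible_pullback _ (PicClLib.isInvertible_pullback _ hN))
  obtain ⟨τ⟩ := htw d
  have hfib : PicMul.pullHom g (PicF.cl N) = PicMul.pullHom g (PicF.cl (Twist.twistOver r S d)) := by
    refine PicMul.cl_eq_iff.2 ⟨?_⟩
    exact ((Scheme.Modules.pullbackId _).app _).symm ≪≫ (Scheme.Modules.pullbackCongr e.hom_inv_id.symm).app _ ≪≫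
      ((Scheme.Modules.pullbackComp _ _).app _).symm ≪≫ (Scheme.Modules.pullback e.hom).mapIso θ ≪≫ τ.symm
  have hT : PicF.IsInvertibleCl (PicF.cl (Twist.twistOver r S d)) := ⟨_, rfl, isInvertible_twistOver r S d⟩
  obtain ⟨t, ht, htd⟩ := exists_mul_eq_one hT
  obtain ⟨L, hLcl, hL⟩ := PicMul.isInvertibleCl_mul ⟨N, rfl, hN⟩ ht
  have htriv : Triv ((Scheme.Modules.pullback g).obj L) := by
    rw [← CubeAb.cl_eq_one_iff]
    show PicMul.pullHom g (PicF.cl L) = 1
    rw [hLcl, map_mul, hfib, ← map_mul, htd, map_one]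
  obtain ⟨M, hM, ⟨i⟩⟩ := exists_iso_pullback (CohB1.ProjSpaceOver.toBase r S) L hL (noH1_toBase r S) z k
    (Scheme.fromSpecResidueField_apply _ _) htriv
  refine ⟨PicF.cl M, d, ⟨M, rfl, hM⟩, ?_⟩
  show PicF.cl N = PicF.cl ((Scheme.Modules.pullback (CohB1.ProjSpaceOver.toBase r S)).obj M) * _
  rw [← PicMul.cl_eq_iff.2 ⟨i⟩, hLcl, _root_.mul_assoc, mul_comm t, htd, _root_.mul_one]

theorem twist_decomp_unique (S : Scheme.{u}) [Nonempty S] (r : ℕ) (hr : 1 ≤ r) {a a' : PicF.Cl S} {d d' : ℤ}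
    (ha : PicF.IsInvertibleCl a) (ha' : PicF.IsInvertibleCl a')
    (h : PicMul.pullHom (CohB1.ProjSpaceOver.toBase r S) a * PicF.cl (Twist.twistOver r S d) =
      PicMul.pullHom (CohB1.ProjSpaceOver.toBase r S) a' * PicF.cl (Twist.twistOver r S d')) :
    d = d' ∧ a = a' := by
  obtain ⟨z⟩ := (inferInstance : Nonempty S)
  let K := S.residueField z
  let k := S.fromSpecResidueField z
  let g := pullback.fst (CohB1.ProjSpaceOver.toBase r S) k
  obtain ⟨e, -, htw⟩ := exists_fibre_iso r S k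
  have hone : ∀ {x : PicF.Cl S}, PicF.IsInvertibleCl x →
      PicMul.pullHom g (PicMul.pullHom (CohB1.ProjSpaceOver.toBase r S) x) = 1 := by
    intro x hx
    obtain ⟨R, rfl, hR⟩ := hx
    show PicF.pullCl g (PicF.pullCl _ (PicF.cl R)) = 1
    rw [PicClLib.pullCl_comp g _ (PicF.cl R), pullback.condition, ← PicClLib.pullCl_comp]
    have h1 : PicF.pullCl k (PicF.cl R) = 1 :=
      (CubeAb.cl_eq_one_iff _).2 (triv_of_subsingleton (PicClLib.isInvertible_pullback _ hR))
    rw [h1]
    exact map_one (PicMul.pullHom _)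
  have h' := congrArg (PicMul.pullHom g) h
  rw [map_mul, map_mul, hone ha, hone ha', _root_.one_mul, _root_.one_mul] at h'
  obtain ⟨τ⟩ := htw d
  obtain ⟨τ'⟩ := htw d'
  obtain ⟨w⟩ := PicMul.cl_eq_iff.1 h'
  have hiso : Nonempty (Twist.twistProjSpace r K d ≅ Twist.twistProjSpace r K d') :=
    ⟨((Scheme.Modules.pullbackId _).app _).symm ≪≫ (Scheme.Modules.pullbackCongr e.inv_hom_id.symm).app _ ≪≫
      ((Scheme.Modules.pullbackComp _ _).app _).symm ≪≫
      (Scheme.Modules.pullback e.inv).mapIso (τ.symm ≪≫ w ≪≫ τ') ≪≫ (Scheme.Modules.pullbackComp _ _).app _ ≪≫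
      (Scheme.Modules.pullbackCongr e.inv_hom_id).app _ ≪≫ (Scheme.Modules.pullbackId _).app _⟩
  have hdd : d = d' := PicPnLib.twist_inj hr hiso.some
  subst hdd
  exact ⟨rfl, pullHom_injective (CohB1.ProjSpaceOver.toBase r S) ha ha'
    (cancel ⟨_, rfl, isInvertible_twistOver r S d⟩ h)⟩

end Groth.Agent.RelCube
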