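import Groth.Agent.RelCube.Step

/-!
Modules trivial on both slices and on the special fibre are trivial over an Artinian local base.
-/

set_option linter.style.haveILetI false
set_option linter.unusedSectionVars false
set_option maxHeartbeats 1000000

universe u

open CategoryTheory CategoryTheory.Limits AlgebraicGeometry TopologicalSpace Opposite

namespace Groth.Agent.RelCube

open Groth.Agent.H23 TrivBasic

variable {B K : Type u} [CommRing B] [IsLocalRing B] [IsNoetherianRing B] [Field K]
  (φ : B →+* K) (hφ : Function.Surjective φ) {X Y : Scheme.{u}} (pX : X ⟶ Spec (CommRingCat.of B))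
  (pY : Y ⟶ Spec (CommRingCat.of B)) [IsProper pX] [IsProper pY] [Flat pX] [Flat pY]
  (x : Spec (CommRingCat.of B) ⟶ X) (hx : x ≫ pX = 𝟙 _)
  (y : Spec (CommRingCat.of B) ⟶ Y) (hy : y ≫ pY = 𝟙 _)

local notation "t[" f "]" => Spec.map (CommRingCat.ofHom f)

include hφ in
/-- The step of the dévissage from `J'` to `J`. -/
theorem triv_devissage_step (hm : IsNilpotent (IsLocalRing.maximalIdeal B))
    (hX : Function.Bijective (pullback.snd pX t[φ]).appTop)
    (hY : Function.Bijective (pullback.snd pY t[φ]).appTop)
    (L : (pullback pX pY).Modules) (hL : PicF.IsInvertible L)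
    (h₁ : Triv ((Scheme.Modules.pullback (sliceSnd pX pY x hx)).obj L))
    (h₂ : Triv ((Scheme.Modules.pullback (sliceFst pX pY y hy)).obj L))
    (J : Ideal B) (hJ : J ≤ IsLocalRing.maximalIdeal B) (ε : B) (hεJ : ε ∉ J)
    (hεm : ∀ a ∈ IsLocalRing.maximalIdeal B, a * ε ∈ J) (hε : ε ∈ IsLocalRing.maximalIdeal B)
    (h' : Triv ((Scheme.Modules.pullback
      (pullback.fst (pullback.fst pX pY ≫ pX) t[Ideal.Quotient.mk (J ⊔ Ideal.span {ε})])).obj L)) :
    Triv ((Scheme.Modules.pullback
      (pullback.fst (pullback.fst pX pY ≫ pX) t[Ideal.Quotient.mk J])).obj L) := by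
  let J' := J ⊔ Ideal.span {ε}
  let π := Ideal.Quotient.mk J
  let R := B ⧸ J
  haveI : Nontrivial R := Ideal.Quotient.nontrivial_iff.2 fun h =>
    (IsLocalRing.maximalIdeal.isMaximal B).ne_top (top_le_iff.1 (h.ge.trans hJ))
  haveI : IsLocalRing R := IsLocalRing.of_surjective' π Ideal.Quotient.mk_surjective
  haveI : IsNoetherianRing R := isNoetherianRing_of_surjective B R π Ideal.Quotient.mk_surjective
  have hmR : IsLocalRing.maximalIdeal R = (IsLocalRing.maximalIdeal B).map π :=
    (IsLocalRing.map_maximalIdeal_of_surjective π Ideal.Quotient.mk_surjective).symm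
  have hkφ : J ≤ RingHom.ker φ := by rw [RigidInf.ker_eq_maximalIdeal φ hφ]; exact hJ
  let φR : R →+* K := Ideal.Quotient.lift J φ fun a ha => hkφ ha
  let q : R →+* B ⧸ J' := Ideal.Quotient.factor le_sup_left
  have hφR : Function.Surjective φR := fun c => by
    obtain ⟨a, rfl⟩ := hφ c
    exact ⟨π a, rfl⟩
  have htφ : t[φR] ≫ t[π] = t[φ] := by rw [← Spec.map_comp, ← CommRingCat.ofHom_comp]; rfl
  have htq : t[q] ≫ t[π] = t[Ideal.Quotient.mk J'] := by rw [← Spec.map_comp, ← CommRingCat.ofHom_comp]; rfl
  let qX := pullback.snd pX t[π]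
  let qY := pullback.snd pY t[π]
  let g : pullback qX qY ⟶ pullback pX pY :=
    pullback.map qX qY pX pY (pullback.fst pX t[π]) (pullback.fst pY t[π]) t[π]
      pullback.condition.symm pullback.condition.symm
  have hgp : g ≫ pullback.fst pX pY ≫ pX = (pullback.fst qX qY ≫ qX) ≫ t[π] := by
    rw [pullback.lift_fst_assoc, Category.assoc, pullback.condition, Category.assoc]
  let xR : Spec (CommRingCat.of R) ⟶ pullback pX t[π] := pullback.lift (t[π] ≫ x) (𝟙 _)
    (by rw [Category.assoc, hx, Category.comp_id, Category.id_comp])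
  let yR : Spec (CommRingCat.of R) ⟶ pullback pY t[π] := pullback.lift (t[π] ≫ y) (𝟙 _)
    (by rw [Category.assoc, hy, Category.comp_id, Category.id_comp])
  have hxR : xR ≫ qX = 𝟙 _ := pullback.lift_snd _ _ _
  have hyR : yR ≫ qY = 𝟙 _ := pullback.lift_snd _ _ _
  have key : Triv ((Scheme.Modules.pullback g).obj L) := by
    refine triv_step_prod φR hφR q (Ideal.Quotient.factor_surjective le_sup_left) (π ε) ?_ ?_ ?_ ?_ qX qY
      xR hxR yR hyR ?_ (bijective_snd_comp pX _ _ _ htφ hX) (bijective_snd_comp pY _ _ _ htφ hY) _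
      (PicClLib.isInvertible_pullback _ hL) ?_ ?_ ?_
    · rw [Ideal.Quotient.factor_ker, Ideal.map_sup, Ideal.map_quotient_self, bot_sup_eq, Ideal.map_span,
        Set.image_singleton]
    · exact fun h => hεJ (Ideal.Quotient.eq_zero_iff_mem.1 h)
    · intro a ha
      rw [hmR] at ha
      obtain ⟨a, ha', rfl⟩ := (Ideal.mem_map_iff_of_surjective π Ideal.Quotient.mk_surjective).1 ha
      rw [← map_mul]
      exact Ideal.Quotient.eq_zero_iff_mem.2 (hεm a ha')
    · rw [hmR]; exact Ideal.mem_map_of_mem π hε
    · obtain ⟨n, hn⟩ := hm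
      exact ⟨n, by rw [hmR, ← Ideal.map_pow, hn]; simp⟩
    · refine (triv_comp_iff _ _).2 (SeesawGlobal.triv_of_factor (pullback.lift
        (pullback.fst _ _ ≫ g) (pullback.snd _ _) ?_) (pullback.lift_fst _ _ _) h')
      rw [Category.assoc, hgp, ← htq]
      exact (Category.assoc _ _ _).symm.trans ((congrArg (· ≫ t[π]) pullback.condition).trans (Category.assoc _ _ _))
    · refine (triv_comp_iff _ _).2 (SeesawGlobal.triv_of_factor (pullback.fst pY t[π]) ?_ h₁)
      refine pullback.hom_ext ?_ ?_
      · simp only [Category.assoc, g, pullback.map, pullback.lift_fst, sliceSnd, pullback.lift_fst_assoc]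
        rw [show xR ≫ pullback.fst pX t[π] = t[π] ≫ x from pullback.lift_fst _ _ _, pullback.condition_assoc]
      · simp only [Category.assoc, g, pullback.map, pullback.lift_snd, sliceSnd, pullback.lift_snd_assoc,
          Category.comp_id, Category.id_comp]
    · refine (triv_comp_iff _ _).2 (SeesawGlobal.triv_of_factor (pullback.fst pX t[π]) ?_ h₂)
      refine pullback.hom_ext ?_ ?_
      · simp only [Category.assoc, g, pullback.map, pullback.lift_fst, sliceFst, pullback.lift_fst_assoc,
          Category.comp_id, Category.id_comp]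
      · simp only [Category.assoc, g, pullback.map, pullback.lift_snd, sliceFst, pullback.lift_snd_assoc]
        rw [show yR ≫ pullback.fst pY t[π] = t[π] ≫ y from pullback.lift_fst _ _ _, pullback.condition_assoc]
  let p := pullback.fst pX pY ≫ pX
  let a : pullback p t[π] ⟶ pullback qX qY := pullback.lift
    (pullback.lift (pullback.fst p t[π] ≫ pullback.fst pX pY) (pullback.snd p t[π])
      (by rw [Category.assoc]; exact pullback.condition))
    (pullback.lift (pullback.fst p t[π] ≫ pullback.snd pX pY) (pullback.snd p t[π])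
      (by rw [Category.assoc, ← pullback.condition (f := pX)]; exact pullback.condition))
    (by rw [pullback.lift_snd, pullback.lift_snd])
  refine SeesawGlobal.triv_of_factor a ?_ key
  refine pullback.hom_ext ?_ ?_ <;>
    simp only [a, g, pullback.map, Category.assoc, pullback.lift_fst, pullback.lift_snd, pullback.lift_fst_assoc,
      pullback.lift_snd_assoc, p]

include hφ in
/-- An invertible module on a product of two flat proper schemes with constant functions over an
Artinian local ring is trivial once it is trivial on both slices and on the special fibre. -/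
theorem triv_artin (hm : IsNilpotent (IsLocalRing.maximalIdeal B))
    (hX : Function.Bijective (pullback.snd pX t[φ]).appTop)
    (hY : Function.Bijective (pullback.snd pY t[φ]).appTop)
    (L : (pullback pX pY).Modules) (hL : PicF.IsInvertible L)
    (h₀ : Triv ((Scheme.Modules.pullback (pullback.fst (pullback.fst pX pY ≫ pX) t[φ])).obj L))
    (h₁ : Triv ((Scheme.Modules.pullback (sliceSnd pX pY x hx)).obj L))
    (h₂ : Triv ((Scheme.Modules.pullback (sliceFst pX pY y hy)).obj L)) : Triv L := by
  let p := pullback.fst pX pY ≫ pX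
  have main : ∀ J : Ideal B, J ≤ IsLocalRing.maximalIdeal B →
      Triv ((Scheme.Modules.pullback (pullback.fst p t[Ideal.Quotient.mk J])).obj L) := by
    intro J
    induction J using WellFoundedGT.induction with
    | _ J ih =>
    intro hJ
    by_cases hmJ : IsLocalRing.maximalIdeal B ≤ J
    · have hk : ∀ a, φ a = 0 → Ideal.Quotient.mk J a = 0 := fun a ha => by
        refine Ideal.Quotient.eq_zero_iff_mem.2 (hmJ ?_)
        rw [← RigidInf.ker_eq_maximalIdeal φ hφ]
        exact ha
      let e : K →+* B ⧸ J := RingHom.liftOfSurjective φ hφ ⟨Ideal.Quotient.mk J, fun a ha => hk a ha⟩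
      have he : t[e] ≫ t[φ] = t[Ideal.Quotient.mk J] := by
        rw [← Spec.map_comp, ← CommRingCat.ofHom_comp]
        exact congrArg _ (congrArg _ (RingHom.ext fun a => RingHom.liftOfSurjective_comp_apply φ hφ ⟨Ideal.Quotient.mk J, fun a ha => hk a ha⟩ a))
      refine SeesawGlobal.triv_of_factor (pullback.lift (pullback.fst _ _) (pullback.snd _ _ ≫ t[e]) ?_)
        (pullback.lift_fst _ _ _) h₀
      rw [pullback.condition, Category.assoc, he]
    · classical
      obtain ⟨N, hN⟩ := hm
      have hex : ∃ n, IsLocalRing.maximalIdeal B ^ n ≤ J := ⟨N, by rw [hN]; exact bot_le⟩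
      have h1 : 2 ≤ Nat.find hex := by
        by_contra h
        have h' := Nat.find_spec hex
        rcases (show Nat.find hex = 0 ∨ Nat.find hex = 1 by omega) with h0 | h0 <;>
          rw [h0] at h'
        · rw [pow_zero, Ideal.one_eq_top] at h'
          exact hmJ (le_top.trans h')
        · exact hmJ (by simpa using h')
      obtain ⟨ε, hε, hεJ⟩ := SetLike.not_le_iff_exists.mp
        (Nat.find_min hex (show Nat.find hex - 1 < Nat.find hex by omega))
      have hεm : ε ∈ IsLocalRing.maximalIdeal B := Ideal.pow_le_self (by omega) hε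
      have hJ' : J ⊔ Ideal.span {ε} ≤ IsLocalRing.maximalIdeal B :=
        sup_le hJ ((Ideal.span_singleton_le_iff_mem _).2 hεm)
      refine triv_devissage_step φ hφ pX pY x hx y hy ⟨N, hN⟩ hX hY L hL h₁ h₂ J hJ ε hεJ (fun a ha => ?_) hεm
        (ih _ (lt_of_le_not_ge le_sup_left fun hle =>
          hεJ (hle (Ideal.mem_sup_right (Ideal.mem_span_singleton_self ε)))) hJ')
      refine Nat.find_spec hex ?_
      rw [show Nat.find hex = (Nat.find hex - 1) + 1 by omega, pow_succ']
      exact Ideal.mul_mem_mul ha hε
  have h := main ⊥ bot_le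
  haveI : IsIso t[Ideal.Quotient.mk (⊥ : Ideal B)] := by
    haveI : IsIso (CommRingCat.ofHom (Ideal.Quotient.mk (⊥ : Ideal B))) :=
      (ConcreteCategory.isIso_iff_bijective _).2 ⟨fun a b hab => by
        simpa [sub_eq_zero] using Ideal.Quotient.eq.1 hab, Ideal.Quotient.mk_surjective⟩
    infer_instance
  exact TrivBasic.triv_of_isIso _ h

end Groth.Agent.RelCube
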