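import Groth.Agent.H23.KunnethH1
import Groth.Agent.FibVanQCohH4
import Groth.Agent.ProjUPX.Sections
import Groth.Agent.InvX.Tensor

/-!
Vanishing of the first cohomology of the structure sheaf splits cocycles of functions.
-/

set_option autoImplicit false
set_option linter.unusedSectionVars false
set_option maxHeartbeats 1000000
universe u

open CategoryTheory CategoryTheory.Limits AlgebraicGeometry TopologicalSpace Opposite

namespace Groth.Agent.RelCube

open Groth.Agent AModX H23.KunnethH1 QCoh FibVanQCohH4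

/-- On a separated scheme with `H¹(X, O) = 0` every cocycle of functions on an affine cover splits. -/
theorem isCobound_of_HH {X : Scheme.{u}} [X.IsSeparated] {I : Type u} (B : I → X.Opens)
    (hB : ∀ a, IsAffineOpen (B a)) (hcov : ∀ x, ∃ a, x ∈ B a)
    (h1 : Subsingleton (Coh.HH X (Coh.structureModule X) 1))
    (c : ∀ a b, Γ(X, B a ⊓ B b)) (hc : IsCocycle B c) : IsCobound B c := by
  have hU : ∀ {p : ℕ} (σ : Fin (p + 1) → I), IsAffineOpen (⨅ a, B (σ a)) := fun σ =>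
    IsAffineOpen.iInf fun a => hB (σ a)
  have hcov' : ⨆ a, B a = ⊤ := top_le_iff.1 fun x _ => by
    obtain ⟨a, ha⟩ := hcov x
    exact Opens.mem_iSup.2 ⟨a, ha⟩
  have hex := (subsingleton_HH_iff_exactAt hcov' hU
    (ProjUPX.isQCoh_of_isInvertible InvX.isInvertible_structureModule) 1).1 h1
  rw [exactAt_natCx_iff] at hex
  let P := (Coh.structureModule X).presheaf
  let c' : Ab.Cochain (X := X.toPresheafedSpace.carrier) P B 2 := fun σ W =>
    (resR (le_inf (W.2 0) (W.2 1)) (c (σ 0) (σ 1)) : Γ(X, W.1))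
  have hn : Ab.IsNatural c' := fun σ W W' h h' i => resR_resR _ _ _
  have hd : Ab.d c' = 0 := by
    funext σ W
    simp only [Ab.d]
    rw [Fin.sum_univ_three]
    have h := hc (σ 0) (σ 1) (σ 2) W.1 (le_inf (W.2 0) (W.2 1)) (le_inf (W.2 1) (W.2 2)) (le_inf (W.2 0) (W.2 2))
    show (-1 : ℤ) ^ 0 • (show Γ(X, W.1) from resR _ (c (σ 1) (σ 2))) +
      (-1 : ℤ) ^ 1 • (show Γ(X, W.1) from resR _ (c (σ 0) (σ 2))) +
      (-1 : ℤ) ^ 2 • (show Γ(X, W.1) from resR _ (c (σ 0) (σ 1))) = (0 : Γ(X, W.1))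
    simp only [pow_zero, pow_one, one_smul, neg_smul, even_two.neg_one_pow]
    rw [← h]
    abel
  obtain ⟨b, hb, hdb⟩ := hex c' hn hd
  let v : ∀ (τ : Fin 1 → I) (W : X.Opens), Ab.Le B τ W → Γ(X, W) := fun τ W hW => b τ ⟨W, hW⟩
  refine ⟨fun a => v (fun _ => a) (B a) fun _ => le_rfl, fun a₀ a₁ => ?_⟩
  have h := congrFun (congrFun hdb ![a₀, a₁]) ⟨B a₀ ⊓ B a₁, fun k => by
    fin_cases k
    · exact inf_le_left
    · exact inf_le_right⟩
  have e0 : (fun k : Fin 1 => ![a₀, a₁] ((0 : Fin 2).succAbove k)) = fun _ => a₁ := by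
    funext k; fin_cases k; rfl
  have e1 : (fun k : Fin 1 => ![a₀, a₁] ((1 : Fin 2).succAbove k)) = fun _ => a₀ := by
    funext k; fin_cases k; rfl
  have key : ∀ (τ : Fin 1 → I) (a : I) (_ : τ = fun _ => a) (W : X.Opens) (hW : Ab.Le B τ W) (hWa : W ≤ B a),
      v τ W hW = resR hWa (v (fun _ => a) (B a) fun _ => le_rfl) := by
    rintro τ a rfl W hW hWa
    exact (hb (fun _ => a) (B a) W (fun _ => le_rfl) hW (homOfLE hWa)).symm
  simp only [Ab.d] at h
  rw [Fin.sum_univ_two] at h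
  have hle₁ : Ab.Le B (fun j => ![a₀, a₁] ((0 : Fin 2).succAbove j)) (B a₀ ⊓ B a₁) :=
    fun j => le_trans inf_le_right (le_of_eq (congrArg B (congrFun e0 j).symm))
  have hle₀ : Ab.Le B (fun j => ![a₀, a₁] ((1 : Fin 2).succAbove j)) (B a₀ ⊓ B a₁) :=
    fun j => le_trans inf_le_left (le_of_eq (congrArg B (congrFun e1 j).symm))
  have h' : (-1 : ℤ) ^ 0 • v _ (B a₀ ⊓ B a₁) hle₁ + (-1 : ℤ) ^ 1 • v _ (B a₀ ⊓ B a₁) hle₀ = c a₀ a₁ :=
    h.trans (resR_self (X := X) (c a₀ a₁))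
  have k₁ := key _ a₁ e0 _ hle₁ inf_le_right
  have k₀ := key _ a₀ e1 _ hle₀ inf_le_left
  simp only [k₁, k₀] at h'
  simpa [sub_eq_add_neg] using h'.symm

end Groth.Agent.RelCube
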