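import Groth.Agent.RelCube.Artin
import Groth.Agent.AVTheta.SeesawDescend
import Mathlib.AlgebraicGeometry.Morphisms.UniversallyOpen

/-!
The theorem of the cube over a locally Noetherian base.
-/

set_option linter.style.haveILetI false
set_option linter.unusedSectionVars false
set_option maxHeartbeats 1000000

universe u

open CategoryTheory CategoryTheory.Limits AlgebraicGeometry TopologicalSpace Opposite

namespace Groth.Agent.RelCube

open Groth.Agent.H23 TrivBasic SeesawGlobal

variable {S : Scheme.{u}} {X Y : Scheme.{u}} (pX : X ⟶ S) (pY : Y ⟶ S)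

/-- The product of two geometrically integral flat morphisms is geometrically integral. -/
theorem geometricallyIntegral_prod [GeometricallyIntegral pX] [GeometricallyIntegral pY] [Flat pY]
    [UniversallyOpen pY] [LocallyOfFiniteType pX] : GeometricallyIntegral (pullback.fst pX pY ≫ pX) := by
  refine ⟨fun K _ t T q₁ q₂ h => ?_⟩
  haveI : IsLocallyNoetherian (pullback pX t) :=
    LocallyOfFiniteType.isLocallyNoetherian (pullback.snd pX t)
  haveI : IsIntegral (pullback pX t) :=
    GeometricallyIntegral.geometrically_isIntegral (f := pX) _ _ _ (.of_hasPullback _ _)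
  haveI : IsIntegral (pullback (pullback.fst pX pY) (pullback.fst pX t)) := inferInstance
  have h2 : IsPullback (pullback.fst (pullback.fst pX pY) (pullback.fst pX t))
      (pullback.snd (pullback.fst pX pY) (pullback.fst pX t) ≫ pullback.snd pX t)
      (pullback.fst pX pY ≫ pX) t :=
    (IsPullback.of_hasPullback (pullback.fst pX pY) (pullback.fst pX t)).paste_vert
      (IsPullback.of_hasPullback pX t)
  let e := IsPullback.isoIsPullback _ _ h2 h
  haveI : Nonempty T := ⟨e.hom Classical.ofNonempty⟩
  exact isIntegral_of_isOpenImmersion e.inv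

section BaseChange

variable {T : Scheme.{u}} (t : T ⟶ S)

/-- The map from the product of the base changes to the product. -/
noncomputable abbrev prodBC : pullback (pullback.snd pX t) (pullback.snd pY t) ⟶ pullback pX pY :=
  pullback.map _ _ pX pY (pullback.fst pX t) (pullback.fst pY t) t
    pullback.condition.symm pullback.condition.symm

theorem triv_of_prodBC {L : (pullback pX pY).Modules}
    (h : Triv ((Scheme.Modules.pullback (prodBC pX pY t)).obj L)) :
    Triv ((Scheme.Modules.pullback (pullback.fst (pullback.fst pX pY ≫ pX) t)).obj L) := by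
  let p := pullback.fst pX pY ≫ pX
  let a : pullback p t ⟶ pullback (pullback.snd pX t) (pullback.snd pY t) := pullback.lift
    (pullback.lift (pullback.fst p t ≫ pullback.fst pX pY) (pullback.snd p t)
      (by rw [Category.assoc]; exact pullback.condition))
    (pullback.lift (pullback.fst p t ≫ pullback.snd pX pY) (pullback.snd p t)
      (by rw [Category.assoc, ← pullback.condition (f := pX)]; exact pullback.condition))
    (by rw [pullback.lift_snd, pullback.lift_snd])
  refine SeesawGlobal.triv_of_factor a ?_ h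
  refine pullback.hom_ext ?_ ?_ <;>
    simp only [a, prodBC, pullback.map, Category.assoc, pullback.lift_fst, pullback.lift_snd,
      pullback.lift_fst_assoc, pullback.lift_snd_assoc, p]

theorem prodBC_condition : prodBC pX pY t ≫ pullback.fst pX pY ≫ pX =
    (pullback.fst (pullback.snd pX t) (pullback.snd pY t) ≫ pullback.snd pX t) ≫ t := by
  rw [pullback.lift_fst_assoc, Category.assoc, pullback.condition, Category.assoc]

end BaseChange

variable [IsLocallyNoetherian S] [IsProper pX] [IsProper pY] [Flat pX] [Flat pY]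
  [GeometricallyIntegral pX] [GeometricallyIntegral pY]
  (x : S ⟶ X) (hx : x ≫ pX = 𝟙 S) (y : S ⟶ Y) (hy : y ≫ pY = 𝟙 S)

/-- The slice along a section of the second factor. -/
noncomputable abbrev sliceFstS : X ⟶ pullback pX pY :=
  pullback.lift (𝟙 X) (pX ≫ y) (by rw [Category.id_comp, Category.assoc, hy, Category.comp_id])

/-- The slice along a section of the first factor. -/
noncomputable abbrev sliceSndS : Y ⟶ pullback pX pY :=
  pullback.lift (pY ≫ x) (𝟙 Y) (by rw [Category.id_comp, Category.assoc, hx, Category.comp_id])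

include hx hy in
/-- A module trivial on the slices and on one fibre is trivial near that fibre. -/
theorem exists_frame_near (L : (pullback pX pY).Modules) (hL : PicF.IsInvertible L)
    (h₁ : Triv ((Scheme.Modules.pullback (sliceSndS pX pY x hx)).obj L))
    (h₂ : Triv ((Scheme.Modules.pullback (sliceFstS pX pY y hy)).obj L))
    (z : S) (hT : FieldTriv (pullback.fst pX pY ≫ pX) L z) :
    ∃ V : S.Opens, z ∈ V ∧ ∃ s : Γ(L, (pullback.fst pX pY ≫ pX) ⁻¹ᵁ V), InvX.IsFrame s := by
  haveI : LocallyOfFinitePresentation pX := inferInstance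
  haveI : LocallyOfFinitePresentation pY := inferInstance
  let p := pullback.fst pX pY ≫ pX
  haveI : GeometricallyIntegral p := geometricallyIntegral_prod pX pY
  obtain ⟨A, _, _, g, _, a, rfl⟩ := exists_chart z
  haveI : (a : PrimeSpectrum A).asIdeal.IsPrime := PrimeSpectrum.isPrime a
  have h0 : FieldH0 p (g a) := fun K _ k' _ => Rigid.bijective_appTop (k := K) (pullback.snd p k')
  refine SeesawGlobal.exists_frame_of_thick p hL g a h0 hT fun n => ?_
  let B := SeesawMod.Thick a.asIdeal (n + 1)
  let m := IsLocalRing.maximalIdeal (Localization.AtPrime a.asIdeal)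
  haveI : IsNoetherianRing (Localization.AtPrime a.asIdeal) :=
    IsLocalization.isNoetherianRing a.asIdeal.primeCompl _ inferInstance
  haveI : Nontrivial B := Ideal.Quotient.nontrivial_iff.2 fun h =>
    (IsLocalRing.maximalIdeal.isMaximal (Localization.AtPrime a.asIdeal)).ne_top
      (top_le_iff.1 (h.ge.trans (Ideal.pow_le_self (Nat.succ_ne_zero n))))
  haveI : IsLocalRing B := IsLocalRing.of_surjective' (Ideal.Quotient.mk _) Ideal.Quotient.mk_surjective
  haveI : IsNoetherianRing B :=
    isNoetherianRing_of_surjective _ B (Ideal.Quotient.mk _) Ideal.Quotient.mk_surjective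
  have hm : IsNilpotent (IsLocalRing.maximalIdeal B) := by
    refine ⟨n + 1, ?_⟩
    rw [Submodule.zero_eq_bot, ← le_bot_iff,
      ← IsLocalRing.map_maximalIdeal_of_surjective (Ideal.Quotient.mk (m ^ (n + 1))) Ideal.Quotient.mk_surjective,
      ← Ideal.map_pow]
    exact (Ideal.map_quotient_self _).le
  let φ : B →+* IsLocalRing.ResidueField B := IsLocalRing.residue B
  have hφ : Function.Surjective φ := IsLocalRing.residue_surjective
  let t : Spec (CommRingCat.of B) ⟶ S := Seesaw.specAlg A B ≫ g
  let k : Spec (CommRingCat.of (IsLocalRing.ResidueField B)) ⟶ S := Spec.map (CommRingCat.ofHom φ) ≫ t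
  have hk : k (IsLocalRing.closedPoint (IsLocalRing.ResidueField B)) = g a := by
    show g (Spec.map (CommRingCat.ofHom (algebraMap A B)) (Spec.map (CommRingCat.ofHom φ)
      (IsLocalRing.closedPoint (IsLocalRing.ResidueField B)))) = g a
    congr 1
    refine PrimeSpectrum.ext (Ideal.ext fun c => ?_)
    show φ (algebraMap A B c) ∈ IsLocalRing.maximalIdeal (IsLocalRing.ResidueField B) ↔ c ∈ a.asIdeal
    rw [IsLocalRing.maximalIdeal_eq_bot, Submodule.mem_bot]
    change IsLocalRing.residue B (algebraMap A B c) = 0 ↔ _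
    rw [IsLocalRing.residue_eq_zero_iff, IsLocalRing.mem_maximalIdeal, mem_nonunits_iff]
    constructor
    · intro hc
      by_contra hn
      exact hc (SeesawMod.isUnit_thick a.asIdeal hn)
    · intro hc hu
      rw [IsScalarTower.algebraMap_apply A (Localization.AtPrime a.asIdeal) B] at hu
      have h1 : algebraMap A (Localization.AtPrime a.asIdeal) c ∈ m :=
        (IsLocalization.AtPrime.to_map_mem_maximal_iff (Localization.AtPrime a.asIdeal) a.asIdeal c).2 hc
      have h2 : Ideal.Quotient.mk (m ^ (n + 1)) (algebraMap A _ c) ∈ IsLocalRing.maximalIdeal B := by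
        rw [← IsLocalRing.map_maximalIdeal_of_surjective (Ideal.Quotient.mk (m ^ (n + 1))) Ideal.Quotient.mk_surjective]
        exact Ideal.mem_map_of_mem _ h1
      exact (IsLocalRing.mem_maximalIdeal _).1 h2 hu
  have hcF : ∀ {Z : Scheme.{u}} (q : Z ⟶ Spec (CommRingCat.of B)) [IsProper q] [GeometricallyIntegral q],
      Function.Bijective (pullback.snd q (Spec.map (CommRingCat.ofHom φ))).appTop :=
    fun {Z} q _ _ => Rigid.bijective_appTop (k := IsLocalRing.ResidueField B) (pullback.snd q _)
  have hx' : (pullback.lift (t ≫ x) (𝟙 _) (by rw [Category.assoc, hx, Category.comp_id, Category.id_comp]) :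
      _ ⟶ pullback pX t) ≫ pullback.snd pX t = 𝟙 _ := pullback.lift_snd _ _ _
  have hy' : (pullback.lift (t ≫ y) (𝟙 _) (by rw [Category.assoc, hy, Category.comp_id, Category.id_comp]) :
      _ ⟶ pullback pY t) ≫ pullback.snd pY t = 𝟙 _ := pullback.lift_snd _ _ _
  have hB : Triv ((Scheme.Modules.pullback (prodBC pX pY t)).obj L) := by
    refine triv_artin φ hφ (pullback.snd pX t) (pullback.snd pY t) _ hx' _ hy' hm (hcF _) (hcF _) _
      (PicClLib.isInvertible_pullback _ hL) ?_ ?_ ?_
    · refine (triv_comp_iff _ _).2 (SeesawGlobal.triv_of_factor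
        (pullback.lift (pullback.fst _ _ ≫ prodBC pX pY t) (pullback.snd _ _) ?_) (pullback.lift_fst _ _ _)
        (hT _ k hk))
      rw [Category.assoc, prodBC_condition]
      exact (Category.assoc _ _ _).symm.trans ((congrArg (· ≫ t) pullback.condition).trans (Category.assoc _ _ _))
    · refine (triv_comp_iff _ _).2 (SeesawGlobal.triv_of_factor (pullback.fst pY t) ?_ h₁)
      refine pullback.hom_ext ?_ ?_
      · simp only [Category.assoc, prodBC, pullback.map, pullback.lift_fst, sliceSndS, sliceSnd,
          pullback.lift_fst_assoc]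
        rw [pullback.condition_assoc]
      · simp only [Category.assoc, prodBC, pullback.map, pullback.lift_snd, sliceSndS, sliceSnd,
          pullback.lift_snd_assoc, Category.comp_id, Category.id_comp]
    · refine (triv_comp_iff _ _).2 (SeesawGlobal.triv_of_factor (pullback.fst pX t) ?_ h₂)
      refine pullback.hom_ext ?_ ?_
      · simp only [Category.assoc, prodBC, pullback.map, pullback.lift_fst, sliceFstS, sliceFst,
          pullback.lift_fst_assoc, Category.comp_id, Category.id_comp]
      · simp only [Category.assoc, prodBC, pullback.map, pullback.lift_snd, sliceFstS, sliceFst,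
          pullback.lift_snd_assoc]
        rw [pullback.condition_assoc]
        exact congrArg (_ ≫ ·) (pullback.lift_fst _ _ _).symm
  have hT' := triv_of_prodBC pX pY t hB
  constructor
  · refine SeesawGlobal.triv_pullback_of_factor
      (Spec.map (CommRingCat.ofHom (Ideal.Quotient.factor
        (Ideal.pow_le_pow_right (Nat.le_succ n) : m ^ (n + 1) ≤ m ^ n)))) ?_ hT'
    show _ ≫ Spec.map _ ≫ g = Spec.map _ ≫ g
    rw [← Category.assoc, ← Spec.map_comp]
    rfl
  · exact (AVTheta.SeesawScheme.bijective_app_snd p _ ⊤).1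

omit [IsLocallyNoetherian S] [IsProper pX] [IsProper pY] [Flat pX] [Flat pY] [GeometricallyIntegral pX]
  [GeometricallyIntegral pY] in
/-- A frame over the preimage of an open gives triviality on the fibres over it. -/
theorem fieldTriv_of_frame {P : Scheme.{u}} (p : P ⟶ S) [IsLocallyNoetherian S] [IsProper p] [Flat p]
    [GeometricallyIntegral p] {L : P.Modules} (hL : PicF.IsInvertible L) {V : S.Opens}
    {s : Γ(L, p ⁻¹ᵁ V)} (hs : InvX.IsFrame s) {v : S} (hv : v ∈ V) : FieldTriv p L v := by
  refine fieldTriv_of_point p hL (S.residueField v) (S.fromSpecResidueField v)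
    (Scheme.fromSpecResidueField_apply _ _) ?_
  let q := pullback.fst p (S.fromSpecResidueField v)
  have hle : (⊤ : (pullback p (S.fromSpecResidueField v)).Opens) ≤ q ⁻¹ᵁ (p ⁻¹ᵁ V) := fun w _ => by
    show p (q w) ∈ V
    rw [← Scheme.Hom.comp_apply, pullback.condition, Scheme.Hom.comp_apply, Scheme.fromSpecResidueField_apply]
    exact hv
  exact triv_of_frame ((InvX.isFrame_pullElt q hs).res hle)

/-- The theorem of the cube over a locally Noetherian base: a module trivial on the slices and on one
fibre is trivial over an open and closed neighbourhood. -/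
theorem cube_noetherian (L : (pullback pX pY).Modules) (hL : PicF.IsInvertible L)
    (h₁ : Triv ((Scheme.Modules.pullback (sliceSndS pX pY x hx)).obj L))
    (h₂ : Triv ((Scheme.Modules.pullback (sliceFstS pX pY y hy)).obj L))
    (z : S) (hT : Triv ((Scheme.Modules.pullback ((pullback.fst pX pY ≫ pX).fiberι z)).obj L)) :
    ∃ W : S.Opens, IsClosed (W : Set S) ∧ z ∈ W ∧
      Triv ((Scheme.Modules.pullback ((pullback.fst pX pY ≫ pX) ⁻¹ᵁ W).ι).obj L) := by
  haveI : LocallyOfFinitePresentation pX := inferInstance
  haveI : LocallyOfFinitePresentation pY := inferInstance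
  let p := pullback.fst pX pY ≫ pX
  haveI : GeometricallyIntegral p := geometricallyIntegral_prod pX pY
  have hz : FieldTriv p L z := fieldTriv_of_point p hL (S.residueField z) (S.fromSpecResidueField z)
    (Scheme.fromSpecResidueField_apply _ _) hT
  have hnear := exists_frame_near pX pY x hx y hy L hL h₁ h₂
  let W : S.Opens := ⟨{v | FieldTriv p L v}, by
    rw [isOpen_iff_forall_mem_open]
    intro v hv
    obtain ⟨V, hvV, s, hs⟩ := hnear v hv
    exact ⟨V, fun w hw => fieldTriv_of_frame p hL hs hw, V.isOpen, hvV⟩⟩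
  refine ⟨W, isClosed_fieldTriv p hL, hz, ?_⟩
  let σ : S ⟶ pullback pX pY := x ≫ sliceFstS pX pY y hy
  have hσ : σ ≫ p = 𝟙 S := by
    show (x ≫ sliceFstS pX pY y hy) ≫ pullback.fst pX pY ≫ pX = 𝟙 S
    rw [Category.assoc, pullback.lift_fst_assoc, Category.id_comp, hx]
  let σW : W.toScheme ⟶ (p ⁻¹ᵁ W).toScheme := IsOpenImmersion.lift (p ⁻¹ᵁ W).ι (W.ι ≫ σ) (by
    rintro _ ⟨w, rfl⟩
    rw [Scheme.Opens.range_ι]
    show p (σ (W.ι w)) ∈ W
    rw [← Scheme.Hom.comp_apply, hσ]
    exact w.2)
  have hσι : σW ≫ (p ⁻¹ᵁ W).ι = W.ι ≫ σ := IsOpenImmersion.lift_fac _ _ _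
  have hσW : σW ≫ (p ∣_ W) = 𝟙 _ := by
    rw [← cancel_mono W.ι, Category.assoc, morphismRestrict_ι, ← Category.assoc σW, hσι, Category.assoc,
      hσ, Category.comp_id, Category.id_comp]
  refine SeesawGlobal.triv_of_section (f := p ∣_ W)
    (fun V => GammaDescent.bijective_app (p ∣_ W) (RigidApply.constFibres_of_geometricallyIntegral _) V)
    σW hσW ?_ fun w => ?_
  · refine (triv_comp_iff _ _).2 (SeesawGlobal.triv_of_factor (W.ι ≫ x) ?_ h₂)
    rw [hσι]
    exact Category.assoc _ _ _
  · obtain ⟨V, hwV, s, hs⟩ := hnear w.1 w.2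
    refine ⟨W.ι ⁻¹ᵁ V, hwV, ?_⟩
    have hle : (p ∣_ W) ⁻¹ᵁ (W.ι ⁻¹ᵁ V) ≤ (p ⁻¹ᵁ W).ι ⁻¹ᵁ (p ⁻¹ᵁ V) := by
      rw [← Scheme.Hom.comp_preimage, morphismRestrict_ι]
      exact (Scheme.Hom.comp_preimage _ _ _).le
    exact ⟨_, (InvX.isFrame_pullElt (p ⁻¹ᵁ W).ι hs).res hle⟩

end Groth.Agent.RelCube
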