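import Groth.Agent.RelCube.General

/-!
The theorem of the cube after an arbitrary base change.
-/

set_option autoImplicit false
set_option linter.style.haveILetI false
set_option linter.unusedSectionVars false
set_option backward.isDefEq.respectTransparency false
set_option backward.isDefEq.respectTransparency.types false
set_option maxHeartbeats 1000000

universe u

open CategoryTheory CategoryTheory.Limits AlgebraicGeometry
open Groth.Agent.H23 Groth.Agent.H23.TrivBasic Groth.Agent.H23.SeesawGlobal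

attribute [-instance] CategoryTheory.catToReflQuiver

namespace Groth.Agent.RelCube

open Groth.Agent

variable {S X Y Z : Scheme.{u}} (pX : X ⟶ S) (pY : Y ⟶ S) (pZ : Z ⟶ S)
  [Flat pX] [IsProper pX] [LocallyOfFinitePresentation pX] [GeometricallyIntegral pX]
  [Flat pY] [IsProper pY] [LocallyOfFinitePresentation pY] [GeometricallyIntegral pY]

/-- The comparison of the product of the base changes with the base change of the product. -/
noncomputable abbrev prodBCIso : pullback (pullback.snd pX pZ) (pullback.snd pY pZ) ⟶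
    pullback (pullback.fst pX pY ≫ pX) pZ :=
  pullback.lift (prodBC pX pY pZ) (pullback.fst _ _ ≫ pullback.snd pX pZ) (by
    rw [Category.assoc]; exact prodBC_condition pX pY pZ)

theorem cube_baseChange (x : S ⟶ X) (hx : x ≫ pX = 𝟙 S) (y : S ⟶ Y) (hy : y ≫ pY = 𝟙 S)
    {B₁ B₂ : Scheme.{u}} (m₁ : B₁ ⟶ pullback (pullback.fst pX pY ≫ pX) pZ)
    (m₂ : B₂ ⟶ pullback (pullback.fst pX pY ≫ pX) pZ)
    (t₁ : pullback pY pZ ⟶ B₁) (t₂ : pullback pX pZ ⟶ B₂)
    (ht₁f : t₁ ≫ m₁ ≫ pullback.fst _ pZ = pullback.fst pY pZ ≫ sliceSndS pX pY x hx)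
    (ht₁s : t₁ ≫ m₁ ≫ pullback.snd _ pZ = pullback.snd pY pZ)
    (ht₂f : t₂ ≫ m₂ ≫ pullback.fst _ pZ = pullback.fst pX pZ ≫ sliceFstS pX pY y hy)
    (ht₂s : t₂ ≫ m₂ ≫ pullback.snd _ pZ = pullback.snd pX pZ)
    (L : (pullback (pullback.fst pX pY ≫ pX) pZ).Modules) (hL : PicF.IsInvertible L)
    (h₁ : Triv ((Scheme.Modules.pullback m₁).obj L)) (h₂ : Triv ((Scheme.Modules.pullback m₂).obj L))
    (z : Z) (h₃ : Triv ((Scheme.Modules.pullback ((pullback.snd (pullback.fst pX pY ≫ pX) pZ).fiberι z)).obj L)) :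
    ∃ W : Z.Opens, IsClosed (W : Set Z) ∧ z ∈ W ∧
      Triv ((Scheme.Modules.pullback ((pullback.snd (pullback.fst pX pY ≫ pX) pZ) ⁻¹ᵁ W).ι).obj L) := by
  let pX' := pullback.snd pX pZ
  let pY' := pullback.snd pY pZ
  let p := pullback.fst pX pY ≫ pX
  let x' : Z ⟶ pullback pX pZ := pullback.lift (pZ ≫ x) (𝟙 Z)
    (by rw [Category.assoc, hx, Category.comp_id, Category.id_comp])
  let y' : Z ⟶ pullback pY pZ := pullback.lift (pZ ≫ y) (𝟙 Z)
    (by rw [Category.assoc, hy, Category.comp_id, Category.id_comp])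
  have hx' : x' ≫ pX' = 𝟙 Z := pullback.lift_snd _ _ _
  have hy' : y' ≫ pY' = 𝟙 Z := pullback.lift_snd _ _ _
  let j := prodBCIso pX pY pZ
  let p' := pullback.fst pX' pY' ≫ pX'
  let k : pullback p pZ ⟶ pullback pX' pY' := pullback.lift
    (pullback.lift (pullback.fst p pZ ≫ pullback.fst pX pY) (pullback.snd p pZ)
      (by rw [Category.assoc]; exact pullback.condition))
    (pullback.lift (pullback.fst p pZ ≫ pullback.snd pX pY) (pullback.snd p pZ)
      (by rw [Category.assoc, ← pullback.condition (f := pX) (g := pY)]; exact pullback.condition))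
    (by rw [pullback.lift_snd, pullback.lift_snd])
  have hkp : k ≫ p' = pullback.snd p pZ := by
    rw [pullback.lift_fst_assoc, pullback.lift_snd]
  have hkj : k ≫ j = 𝟙 _ := by
    refine pullback.hom_ext ?_ ?_
    · rw [Category.assoc, pullback.lift_fst, Category.id_comp]
      refine pullback.hom_ext ?_ ?_
      · simp only [Category.assoc, prodBC, pullback.map, pullback.lift_fst]
        exact (pullback.lift_fst_assoc _ _ _ _).trans (pullback.lift_fst _ _ _)
      · simp only [Category.assoc, prodBC, pullback.map, pullback.lift_snd]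
        exact (pullback.lift_snd_assoc _ _ _ _).trans (pullback.lift_fst _ _ _)
    · rw [Category.assoc, pullback.lift_snd, Category.id_comp]
      exact hkp
  let L' := (Scheme.Modules.pullback j).obj L
  have e₁ : Triv ((Scheme.Modules.pullback (sliceSndS pX' pY' x' hx')).obj L') := by
    refine (triv_comp_iff _ j).2 (SeesawGlobal.triv_of_factor t₁ ?_ h₁)
    refine pullback.hom_ext ?_ ?_
    · rw [Category.assoc, ht₁f, Category.assoc, pullback.lift_fst]
      refine pullback.hom_ext ?_ ?_
      · simp [prodBC, x', pX', pY', sliceSndS, pullback.condition_assoc]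
      · simp [prodBC, x', pX', pY', sliceSndS]
        exact (Category.id_comp _).symm
    · rw [Category.assoc, ht₁s, Category.assoc, pullback.lift_snd, pullback.lift_fst_assoc, Category.assoc, hx',
        Category.comp_id]
  have e₂ : Triv ((Scheme.Modules.pullback (sliceFstS pX' pY' y' hy')).obj L') := by
    refine (triv_comp_iff _ j).2 (SeesawGlobal.triv_of_factor t₂ ?_ h₂)
    refine pullback.hom_ext ?_ ?_
    · rw [Category.assoc, ht₂f, Category.assoc, pullback.lift_fst]
      refine pullback.hom_ext ?_ ?_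
      · simp [prodBC, y', pX', pY', sliceFstS]
        exact (Category.id_comp _).symm
      · simp [prodBC, y', pX', pY', sliceFstS, pullback.condition_assoc]
    · rw [Category.assoc, ht₂s, Category.assoc, pullback.lift_snd, pullback.lift_fst_assoc, Category.id_comp]
  have e₃ : Triv ((Scheme.Modules.pullback (p'.fiberι z)).obj L') := by
    refine (triv_comp_iff _ j).2 (SeesawGlobal.triv_of_factor
      (pullback.lift (p'.fiberι z ≫ j) (p'.fiberToSpecResidueField z) ?_) (pullback.lift_fst _ _ _) h₃)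
    rw [Category.assoc, pullback.lift_snd]
    exact pullback.condition
  obtain ⟨W, hWc, hzW, hW⟩ := cube_general pX' pY' x' hx' y' hy' L' (PicClLib.isInvertible_pullback _ hL) e₁ e₂ z e₃
  refine ⟨W, hWc, hzW, ?_⟩
  have hr : Set.range ((pullback.snd p pZ ⁻¹ᵁ W).ι ≫ k) ⊆ Set.range (p' ⁻¹ᵁ W).ι := by
    rintro _ ⟨w, rfl⟩
    rw [Scheme.Opens.range_ι]
    show p' (k ((pullback.snd p pZ ⁻¹ᵁ W).ι w)) ∈ W
    rw [← Scheme.Hom.comp_apply, hkp]
    exact w.2
  refine SeesawGlobal.triv_of_factor (IsOpenImmersion.lift (p' ⁻¹ᵁ W).ι _ hr) ?_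
    ((triv_comp_iff (p' ⁻¹ᵁ W).ι j).1 hW)
  rw [IsOpenImmersion.lift_fac_assoc, Category.assoc, hkj, Category.comp_id]

end Groth.Agent.RelCube
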