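import Groth.Agent.RelCube.Cube
import Groth.Agent.H23.CubeAb

/-!
The theorem of the cube for abelian schemes over a locally Noetherian base.
-/

set_option linter.style.haveILetI false
set_option linter.unusedSectionVars false
set_option maxHeartbeats 1000000

universe u

open CategoryTheory CategoryTheory.Limits AlgebraicGeometry MonoidalCategory CartesianMonoidalCategory
  TopologicalSpace Opposite
open scoped MonObj

namespace Groth.Agent.RelCube

open Groth.Agent.H23 TrivBasic SeesawGlobal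

open scoped Groth.Agent.H23.PicMul

variable {S : Scheme.{u}} {A : Over S}

/-- The class of the pullback of `c` along a morphism. -/
noncomputable abbrev F {T : Over S} (c : PicF.Cl A.left) (u : T ⟶ A) : PicF.Cl T.left :=
  PicMul.pullHom u.left c

theorem pull_F {T T' : Over S} (g : T' ⟶ T) (c : PicF.Cl A.left) (u : T ⟶ A) :
    PicMul.pullHom g.left (F c u) = F c (g ≫ u) :=
  PicClLib.pullCl_comp g.left u.left c

theorem isInvertibleCl_F {T : Over S} {c : PicF.Cl A.left} (hc : PicF.IsInvertibleCl c) (u : T ⟶ A) :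
    PicF.IsInvertibleCl (F c u) := PicClLib.isInvertibleCl_pullCl _ hc

theorem eq_of_mul_inverse_eq_one {Z : Scheme.{u}} {a b d : PicF.Cl Z} (hb : b * d = 1) (h : a * d = 1) :
    a = b := by
  calc a = a * (d * b) := by rw [mul_comm d, hb, mul_one]
    _ = b := by rw [← mul_assoc, h, one_mul]

theorem exists_mul_eq_one {Z : Scheme.{u}} {b : PicF.Cl Z} (hb : PicF.IsInvertibleCl b) :
    ∃ d, PicF.IsInvertibleCl d ∧ b * d = 1 := by
  obtain ⟨R, rfl, hR⟩ := hb
  obtain ⟨D, hD, hRD⟩ := PicInv.exists_inverse hR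
  exact ⟨PicF.cl D, ⟨D, rfl, hD⟩, PicMul.cl_eq_iff.2 hRD⟩

theorem cancel {Z : Scheme.{u}} {a b x : PicF.Cl Z} (hx : PicF.IsInvertibleCl x) (h : a * x = b * x) : a = b :=
  (PicMul.isUnit_of_isInvertibleCl hx).mul_right_cancel h

variable [GrpObj A] [IsLocallyNoetherian S] [IsProper A.hom] [Flat A.hom] [GeometricallyIntegral A.hom]

omit [IsLocallyNoetherian S] [Flat A.hom] in
/-- A clopen subset of the group containing the unit section is everything. -/
theorem eq_top_of_unit_mem (W : A.left.Opens) (hW : IsClosed (W : Set A.left)) (h : ∀ s : S, η[A].left s ∈ W) :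
    W = ⊤ := by
  refine top_le_iff.1 fun a _ => ?_
  let s := A.hom a
  let fi := A.hom.fiberι s
  have hcl : IsClopen (fi ⁻¹' (W : Set A.left)) := ⟨hW.preimage fi.continuous, W.isOpen.preimage fi.continuous⟩
  have hs : A.hom (η[A].left s) = s := by
    rw [← Scheme.Hom.comp_apply, Over.w η[A]]
    rfl
  obtain ⟨z, hz⟩ : η[A].left s ∈ Set.range fi := by rw [Scheme.Hom.range_fiberι]; exact hs
  obtain ⟨a', ha'⟩ : a ∈ Set.range fi := by rw [Scheme.Hom.range_fiberι]; rfl
  haveI : IrreducibleSpace ↥(A.hom.fiber s) := inferInstance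
  have huniv := hcl.eq_univ ⟨z, show fi z ∈ W from hz.symm ▸ h s⟩
  have := (Set.eq_univ_iff_forall.1 huniv) a'
  rwa [Set.mem_preimage, ha'] at this

variable (A) in
/-- The base of the universal triple, the third factor. -/
noncomputable abbrev π₂ : pullback A.hom A.hom ⟶ A.left := pullback.snd A.hom A.hom

variable (A) in
/-- The universal triple. -/
noncomputable abbrev triple : Over S := Over.mk ((pullback.fst (π₂ A) (π₂ A) ≫ π₂ A) ≫ A.hom)

variable (A) in
/-- The first projection of the triple. -/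
noncomputable abbrev pr₁ : triple A ⟶ A :=
  Over.homMk (pullback.fst (π₂ A) (π₂ A) ≫ pullback.fst A.hom A.hom) (by
    dsimp only [triple, Over.mk_hom]
    rw [Category.assoc, Category.assoc, pullback.condition])

variable (A) in
/-- The second projection of the triple. -/
noncomputable abbrev pr₂ : triple A ⟶ A :=
  Over.homMk (pullback.snd (π₂ A) (π₂ A) ≫ pullback.fst A.hom A.hom) (by
    dsimp only [triple, Over.mk_hom]
    exact (Category.assoc _ _ _).trans ((congrArg (pullback.snd _ _ ≫ ·) (pullback.condition (f := A.hom) (g := A.hom))).trans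
      ((Category.assoc _ _ _).symm.trans ((congrArg (· ≫ A.hom) (pullback.condition (f := π₂ A) (g := π₂ A)).symm).trans
        (Category.assoc _ _ _)))))

variable (A) in
/-- The third projection of the triple. -/
noncomputable abbrev pr₃ : triple A ⟶ A := Over.homMk (pullback.fst (π₂ A) (π₂ A) ≫ π₂ A) rfl

omit [IsLocallyNoetherian S] [IsProper A.hom] [Flat A.hom] [GeometricallyIntegral A.hom] in
theorem one_left (T : Over S) : (1 : T ⟶ A).left = T.hom ≫ η[A].left := rfl

/-- The theorem of the cube on the universal triple. -/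
theorem cube_univ {c : PicF.Cl A.left} (hc : PicF.IsInvertibleCl c) :
    F c (pr₁ A * pr₂ A * pr₃ A) * F c (pr₁ A) * F c (pr₂ A) * F c (pr₃ A) =
      F c (pr₁ A * pr₂ A) * F c (pr₁ A * pr₃ A) * F c (pr₂ A * pr₃ A) * F c (1 : triple A ⟶ A) := by
  let p := pr₁ A
  let q := pr₂ A
  let r := pr₃ A
  let lhs := F c (p * q * r) * F c p * F c q * F c r
  let rhs := F c (p * q) * F c (p * r) * F c (q * r) * F c (1 : triple A ⟶ A)
  show lhs = rhs
  have hF : ∀ u : triple A ⟶ A, PicF.IsInvertibleCl (F c u) := fun u => isInvertibleCl_F hc u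
  have hlhs : PicF.IsInvertibleCl lhs :=
    PicMul.isInvertibleCl_mul (PicMul.isInvertibleCl_mul (PicMul.isInvertibleCl_mul (hF _) (hF _)) (hF _)) (hF _)
  have hrhs : PicF.IsInvertibleCl rhs :=
    PicMul.isInvertibleCl_mul (PicMul.isInvertibleCl_mul (PicMul.isInvertibleCl_mul (hF _) (hF _)) (hF _)) (hF _)
  obtain ⟨d, hd, hrd⟩ := exists_mul_eq_one hrhs
  refine eq_of_mul_inverse_eq_one hrd ?_
  obtain ⟨M, hMcl, hM⟩ := PicMul.isInvertibleCl_mul hlhs hd
  rw [← hMcl, CubeAb.cl_eq_one_iff]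
  have hslice : ∀ {T : Over S} (σ : T ⟶ triple A),
      (σ ≫ p = 1 ∨ σ ≫ q = 1 ∨ σ ≫ r = 1) → Triv ((Scheme.Modules.pullback σ.left).obj M) := by
    intro T σ hσ
    rw [← CubeAb.cl_eq_one_iff]
    show PicMul.pullHom σ.left (PicF.cl M) = 1
    rw [hMcl, map_mul]
    suffices h : PicMul.pullHom σ.left lhs = PicMul.pullHom σ.left rhs by
      rw [h, ← map_mul, hrd, map_one]
    simp only [lhs, rhs, map_mul, pull_F, MonObj.comp_mul, MonObj.comp_one]
    rcases hσ with h | h | h <;> simp only [h, one_mul, mul_one] <;> ac_rfl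
  let x₀ : A.left ⟶ pullback A.hom A.hom := pullback.lift (A.hom ≫ η[A].left) (𝟙 _) (by
    rw [Category.assoc, Over.w η[A], Category.id_comp]; exact Category.comp_id _)
  have hx₀ : x₀ ≫ π₂ A = 𝟙 _ := pullback.lift_snd _ _ _
  haveI : IsLocallyNoetherian A.left := LocallyOfFiniteType.isLocallyNoetherian A.hom
  haveI : GeometricallyIntegral (π₂ A) := inferInstance
  have hwhole : ∀ s : S, Triv ((Scheme.Modules.pullback
      ((pullback.fst (π₂ A) (π₂ A) ≫ π₂ A).fiberι (η[A].left s))).obj M) := by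
    intro s
    haveI := geometricallyIntegral_prod (π₂ A) (π₂ A)
    let k : Spec (CommRingCat.of (S.residueField s)) ⟶ A.left := S.fromSpecResidueField s ≫ η[A].left
    have hk : k (IsLocalRing.closedPoint (S.residueField s)) = η[A].left s := by
      show η[A].left (S.fromSpecResidueField s (IsLocalRing.closedPoint (S.residueField s))) = _
      exact congrArg _ (Scheme.fromSpecResidueField_apply _ _)
    have hT : FieldTriv (pullback.fst (π₂ A) (π₂ A) ≫ π₂ A) M (η[A].left s) := by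
      refine fieldTriv_of_point _ hM (S.residueField s) k hk ?_
      let T : Over S := Over.mk (pullback.snd (pullback.fst (π₂ A) (π₂ A) ≫ π₂ A) k ≫ S.fromSpecResidueField s)
      have hw : pullback.fst (pullback.fst (π₂ A) (π₂ A) ≫ π₂ A) k ≫ (triple A).hom = T.hom := by
        show _ ≫ ((pullback.fst (π₂ A) (π₂ A) ≫ π₂ A) ≫ A.hom) = _
        exact (Category.assoc _ _ _).symm.trans ((congrArg (· ≫ A.hom) pullback.condition).trans
          ((Category.assoc _ _ _).trans (congrArg (pullback.snd _ k ≫ ·) ((Category.assoc _ _ _).trans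
            ((congrArg (S.fromSpecResidueField s ≫ ·) (Over.w η[A])).trans (Category.comp_id _))))))
      refine hslice (T := T) (Over.homMk (pullback.fst _ k) hw) (Or.inr (Or.inr ?_))
      ext1
      rw [one_left]
      show pullback.fst _ k ≫ (pullback.fst (π₂ A) (π₂ A) ≫ π₂ A) = _
      exact pullback.condition.trans (Category.assoc _ _ _).symm
    exact hT _ _ (Scheme.fromSpecResidueField_apply _ _)
  have h₁ : Triv ((Scheme.Modules.pullback (sliceSndS (π₂ A) (π₂ A) x₀ hx₀)).obj M) := by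
    refine hslice (T := Over.mk (π₂ A ≫ A.hom)) (Over.homMk (sliceSndS (π₂ A) (π₂ A) x₀ hx₀) ?_) (Or.inl ?_)
    · show _ ≫ ((pullback.fst (π₂ A) (π₂ A) ≫ π₂ A) ≫ A.hom) = π₂ A ≫ A.hom
      rw [← Category.assoc, pullback.lift_fst_assoc, Category.assoc, Category.assoc, reassoc_of% hx₀]
    · ext1
      rw [one_left]
      show sliceSndS (π₂ A) (π₂ A) x₀ hx₀ ≫ pullback.fst (π₂ A) (π₂ A) ≫ pullback.fst A.hom A.hom =
        (π₂ A ≫ A.hom) ≫ η[A].left
      rw [pullback.lift_fst_assoc, Category.assoc, pullback.lift_fst, Category.assoc]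
  have h₂ : Triv ((Scheme.Modules.pullback (sliceFstS (π₂ A) (π₂ A) x₀ hx₀)).obj M) := by
    refine hslice (T := Over.mk (π₂ A ≫ A.hom)) (Over.homMk (sliceFstS (π₂ A) (π₂ A) x₀ hx₀) ?_)
      (Or.inr (Or.inl ?_))
    · show _ ≫ ((pullback.fst (π₂ A) (π₂ A) ≫ π₂ A) ≫ A.hom) = π₂ A ≫ A.hom
      rw [← Category.assoc, pullback.lift_fst_assoc, Category.id_comp]
    · ext1
      rw [one_left]
      show sliceFstS (π₂ A) (π₂ A) x₀ hx₀ ≫ pullback.snd (π₂ A) (π₂ A) ≫ pullback.fst A.hom A.hom =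
        (π₂ A ≫ A.hom) ≫ η[A].left
      rw [pullback.lift_snd_assoc, Category.assoc, pullback.lift_fst, Category.assoc]
  let P := pullback.fst (π₂ A) (π₂ A) ≫ π₂ A
  have key : ∀ z : A.left, ∃ V : A.left.Opens, z ∈ V ∧ ∃ s : Γ(M, P ⁻¹ᵁ V), InvX.IsFrame s := by
    haveI := geometricallyIntegral_prod (π₂ A) (π₂ A)
    let U : A.left.Opens := ⟨{z | FieldTriv P M z}, by
      rw [isOpen_iff_forall_mem_open]
      intro v hv
      obtain ⟨V, hvV, s, hs⟩ := exists_frame_near (π₂ A) (π₂ A) x₀ hx₀ x₀ hx₀ M hM h₁ h₂ v hv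
      exact ⟨V, fun w hw => fieldTriv_of_frame P hM hs hw, V.isOpen, hvV⟩⟩
    have hU : U = ⊤ := eq_top_of_unit_mem U (isClosed_fieldTriv P hM) fun s =>
      fieldTriv_of_point P hM (A.left.residueField (η[A].left s)) (A.left.fromSpecResidueField (η[A].left s))
        (Scheme.fromSpecResidueField_apply _ _) (hwhole s)
    exact fun z => exists_frame_near (π₂ A) (π₂ A) x₀ hx₀ x₀ hx₀ M hM h₁ h₂ z (hU.ge (trivial : z ∈ ⊤))
  haveI := geometricallyIntegral_prod (π₂ A) (π₂ A)
  refine SeesawGlobal.triv_of_section (f := P) (fun V => GammaDescent.bijective_app P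
      (RigidApply.constFibres_of_geometricallyIntegral _) V)
    (x₀ ≫ sliceFstS (π₂ A) (π₂ A) x₀ hx₀) ?_ ((triv_comp_iff _ _).1 (h₂.pullback x₀)) key
  show (x₀ ≫ sliceFstS (π₂ A) (π₂ A) x₀ hx₀) ≫ pullback.fst (π₂ A) (π₂ A) ≫ π₂ A = 𝟙 _
  rw [Category.assoc, pullback.lift_fst_assoc, Category.id_comp, hx₀]

/-- The theorem of the cube for three morphisms. -/
theorem cube {T : Over S} {c : PicF.Cl A.left} (hc : PicF.IsInvertibleCl c) (f g h : T ⟶ A) :
    F c (f * g * h) * F c f * F c g * F c h =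
      F c (f * g) * F c (f * h) * F c (g * h) * F c (1 : T ⟶ A) := by
  let σ : T ⟶ triple A := Over.homMk (pullback.lift (pullback.lift f.left h.left (by rw [Over.w f, Over.w h]))
    (pullback.lift g.left h.left (by rw [Over.w g, Over.w h])) (by rw [pullback.lift_snd, pullback.lift_snd])) (by
      show _ ≫ ((pullback.fst (π₂ A) (π₂ A) ≫ π₂ A) ≫ A.hom) = T.hom
      rw [← Category.assoc, pullback.lift_fst_assoc, pullback.lift_snd, Over.w h])
  have h1 : σ ≫ pr₁ A = f := by
    ext1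
    simp [σ]
    exact (pullback.lift_fst_assoc _ _ _ _).trans (pullback.lift_fst _ _ _)
  have h2 : σ ≫ pr₂ A = g := by
    ext1
    simp [σ]
    exact (pullback.lift_snd_assoc _ _ _ _).trans (pullback.lift_fst _ _ _)
  have h3 : σ ≫ pr₃ A = h := by
    ext1
    simp [σ]
    exact (pullback.lift_fst_assoc _ _ _ _).trans (pullback.lift_snd _ _ _)
  have := congrArg (PicMul.pullHom σ.left) (cube_univ hc)
  simp only [map_mul, pull_F, MonObj.comp_mul, MonObj.comp_one, h1, h2, h3] at this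
  exact this

end Groth.Agent.RelCube

namespace Groth.Agent.RelCube

open Groth.Agent.H23

open scoped Groth.Agent.H23.PicMul

variable {S : Scheme.{u}} {A : Over S} [GrpObj A] [IsLocallyNoetherian S] [IsProper A.hom] [Flat A.hom]
  [GeometricallyIntegral A.hom]

theorem choose_two_succ (j : ℕ) : (j + 1).choose 2 = j.choose 2 + j := by
  rw [Nat.choose_succ_succ, Nat.choose_one_right, add_comm]

/-- The formula for multiplication by a natural number. -/
theorem natPow_formula {c : PicF.Cl A.left} (hc : PicF.IsInvertibleCl c) (m : ℕ) :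
    F c (𝟙 A ^ m) * F c (1 : A ⟶ A) ^ (m ^ 2) =
      c ^ (m + 1).choose 2 * F c (𝟙 A)⁻¹ ^ m.choose 2 * F c (1 : A ⟶ A) := by
  have h1 : F c (𝟙 A) = c := PicClLib.pullCl_id c
  let e := F c (1 : A ⟶ A)
  let d := F c (𝟙 A)⁻¹
  suffices H : ∀ m : ℕ, F c (𝟙 A ^ m) * e ^ (m ^ 2) = c ^ (m + 1).choose 2 * d ^ m.choose 2 * e ∧
      F c (𝟙 A ^ (m + 1)) * e ^ ((m + 1) ^ 2) = c ^ (m + 2).choose 2 * d ^ (m + 1).choose 2 * e from (H m).1
  intro m
  induction m with
  | zero => simp [h1, e]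
  | succ m ih =>
    refine ⟨ih.2, ?_⟩
    have h := cube hc (𝟙 A ^ (m + 1)) (𝟙 A) (𝟙 A)⁻¹
    rw [mul_inv_cancel_right, ← pow_succ, mul_inv_cancel, h1,
      show (𝟙 A ^ (m + 1)) * (𝟙 A)⁻¹ = 𝟙 A ^ m by rw [pow_succ, mul_inv_cancel_right]] at h
    have hec : PicF.IsInvertibleCl e := isInvertibleCl_F hc _
    have hu : IsUnit (c ^ (m + 1).choose 2 * d ^ m.choose 2 * e * (e * e)) := by
      have h2 := PicMul.isUnit_of_isInvertibleCl hc
      have h3 := PicMul.isUnit_of_isInvertibleCl (isInvertibleCl_F hc (𝟙 A)⁻¹)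
      have h4 := PicMul.isUnit_of_isInvertibleCl hec
      exact ((((h2.pow _).mul (h3.pow _)).mul h4).mul (h4.mul h4))
    refine hu.mul_right_cancel ?_
    calc F c (𝟙 A ^ (m + 1 + 1)) * e ^ ((m + 1 + 1) ^ 2) * (c ^ (m + 1).choose 2 * d ^ m.choose 2 * e * (e * e))
        = F c (𝟙 A ^ (m + 1 + 1)) * e ^ ((m + 1 + 1) ^ 2) * (F c (𝟙 A ^ m) * e ^ (m ^ 2) * (e * e)) := by rw [ih.1]
      _ = (F c (𝟙 A ^ (m + 1 + 1)) * F c (𝟙 A ^ m) * e * e) * (e ^ ((m + 1 + 1) ^ 2) * e ^ (m ^ 2)) := by ac_rfl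
      _ = (F c (𝟙 A ^ (m + 1)) * F c (𝟙 A ^ (m + 1)) * c * d) * (e ^ ((m + 1 + 1) ^ 2) * e ^ (m ^ 2)) := by
          rw [h]
      _ = (F c (𝟙 A ^ (m + 1)) * e ^ ((m + 1) ^ 2)) * (F c (𝟙 A ^ (m + 1)) * e ^ ((m + 1) ^ 2)) * (c * d * (e * e)) := by
          rw [← pow_add, show (m + 1 + 1) ^ 2 + m ^ 2 = (m + 1) ^ 2 + ((m + 1) ^ 2 + (1 + 1)) by ring]
          simp only [pow_add, pow_one]
          ac_rfl
      _ = _ := by
          rw [ih.2, choose_two_succ (m + 2), choose_two_succ (m + 1), choose_two_succ m]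
          simp only [pow_add, pow_one, pow_two]
          ac_rfl

/-- The formula for multiplication by an integer. -/
theorem pow_formula {c : PicF.Cl A.left} (hc : PicF.IsInvertibleCl c) (n : ℤ) :
    F c (𝟙 A ^ n) * F c (1 : A ⟶ A) ^ (n.natAbs ^ 2) =
      c ^ ((n ^ 2 + n) / 2).toNat * F c (𝟙 A)⁻¹ ^ ((n ^ 2 - n) / 2).toNat * F c (1 : A ⟶ A) := by
  have hch : ∀ m : ℕ, (((m : ℤ) ^ 2 + m) / 2).toNat = (m + 1).choose 2 ∧
      (((m : ℤ) ^ 2 - m) / 2).toNat = m.choose 2 := by
    intro m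
    refine ⟨?_, ?_⟩
    · rw [Nat.choose_two_right, show ((m : ℤ) ^ 2 + m) = (((m + 1) * (m + 1 - 1) : ℕ) : ℤ) by push_cast; ring]
      rfl
    · rw [Nat.choose_two_right, show ((m : ℤ) ^ 2 - m) = ((m * (m - 1) : ℕ) : ℤ) by
        rcases m with _ | m
        · simp
        · push_cast; ring]
      rfl
  obtain ⟨m, rfl | rfl⟩ := n.eq_nat_or_neg
  · rw [zpow_natCast, Int.natAbs_natCast, (hch m).1, (hch m).2]
    exact natPow_formula hc m
  · rw [zpow_neg, zpow_natCast, Int.natAbs_neg, Int.natAbs_natCast, neg_sq, ← sub_eq_add_neg, sub_neg_eq_add,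
      (hch m).1, (hch m).2]
    have h := congrArg (PicMul.pullHom (𝟙 A)⁻¹.left) (natPow_formula hc m)
    simp only [map_mul, map_pow, pull_F, MonObj.comp_pow, MonObj.comp_one, Category.comp_id, GrpObj.comp_inv,
      inv_inv, inv_pow] at h
    rw [h, show F c (𝟙 A) = c from PicClLib.pullCl_id c]
    simp only [mul_comm, mul_left_comm]

end Groth.Agent.RelCube
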