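import Groth.Agent.RelCube.Model
import Groth.Agent.RelCube.Group

/-!
Noetherian models, with sections, of the data of the theorem of the cube.
-/

noncomputable section

set_option autoImplicit false
set_option linter.style.haveILetI false
set_option linter.unusedSectionVars false
set_option backward.isDefEq.respectTransparency false
set_option backward.isDefEq.respectTransparency.types false
set_option maxHeartbeats 1000000

universe u

open CategoryTheory CategoryTheory.Limits AlgebraicGeometry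
open Groth.Agent.H23 Groth.Agent.H23.TrivBasic Groth.Agent.H23.SeesawGlobal

open scoped Groth.Agent.H23.PicMul

attribute [-instance] CategoryTheory.catToReflQuiver

namespace Groth.Agent.RelCube

open Groth.Agent

theorem pull_pull {P Q R : Scheme.{u}} (g : P ⟶ Q) (f : Q ⟶ R) (c : PicF.Cl R) :
    PicMul.pullHom g (PicMul.pullHom f c) = PicMul.pullHom (g ≫ f) c :=
  PicClLib.pullCl_comp g f c

/-- The two ways of inserting both sections agree. -/
theorem section_eq {S X Y : Scheme.{u}} (pX : X ⟶ S) (pY : Y ⟶ S) (x : S ⟶ X) (hx : x ≫ pX = 𝟙 S)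
    (y : S ⟶ Y) (hy : y ≫ pY = 𝟙 S) : y ≫ sliceSndS pX pY x hx = x ≫ sliceFstS pX pY y hy := by
  refine pullback.hom_ext ?_ ?_
  · rw [Category.assoc, pullback.lift_fst, reassoc_of% hy, Category.assoc, pullback.lift_fst, Category.comp_id]
  · rw [Category.assoc, pullback.lift_snd, Category.comp_id, Category.assoc, pullback.lift_snd, reassoc_of% hx]

/-- A class can be modified to one trivial on both slices, without changing pullbacks which are already
trivial there. -/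
theorem exists_normalised {S X Y : Scheme.{u}} (pX : X ⟶ S) (pY : Y ⟶ S) (x : S ⟶ X) (hx : x ≫ pX = 𝟙 S)
    (y : S ⟶ Y) (hy : y ≫ pY = 𝟙 S) {c : PicF.Cl (pullback pX pY)} (hc : PicF.IsInvertibleCl c) :
    ∃ c' : PicF.Cl (pullback pX pY), PicF.IsInvertibleCl c' ∧
      PicMul.pullHom (sliceSndS pX pY x hx) c' = 1 ∧ PicMul.pullHom (sliceFstS pX pY y hy) c' = 1 ∧
      ∀ {P : Scheme.{u}} (Q : P ⟶ pullback pX pY),
        PicMul.pullHom (Q ≫ pullback.snd pX pY ≫ sliceSndS pX pY x hx) c = 1 →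
        PicMul.pullHom (Q ≫ pullback.fst pX pY ≫ sliceFstS pX pY y hy) c = 1 →
        PicMul.pullHom ((Q ≫ pullback.fst pX pY ≫ pX) ≫ x ≫ sliceFstS pX pY y hy) c = 1 →
        PicMul.pullHom Q c' = PicMul.pullHom Q c := by
  let s₁ := sliceSndS pX pY x hx
  let s₂ := sliceFstS pX pY y hy
  let σ := x ≫ s₂
  let a := PicMul.pullHom (pullback.snd pX pY ≫ s₁) c
  let b := PicMul.pullHom (pullback.fst pX pY ≫ s₂) c
  let e := PicMul.pullHom ((pullback.fst pX pY ≫ pX) ≫ σ) c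
  obtain ⟨d, hd, hd1⟩ := exists_mul_eq_one (b := a * b)
    (PicMul.isInvertibleCl_mul (PicClLib.isInvertibleCl_pullCl _ hc) (PicClLib.isInvertibleCl_pullCl _ hc))
  have h11 : s₁ ≫ pullback.snd pX pY ≫ s₁ = s₁ := by rw [pullback.lift_snd_assoc, Category.id_comp]
  have h12 : s₁ ≫ pullback.fst pX pY ≫ s₂ = pY ≫ σ := by rw [pullback.lift_fst_assoc, Category.assoc]
  have h1π : s₁ ≫ (pullback.fst pX pY ≫ pX) = pY := by
    rw [pullback.lift_fst_assoc, Category.assoc, hx, Category.comp_id]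
  have h22 : s₂ ≫ pullback.fst pX pY ≫ s₂ = s₂ := by rw [pullback.lift_fst_assoc, Category.id_comp]
  have h21 : s₂ ≫ pullback.snd pX pY ≫ s₁ = pX ≫ σ := by
    rw [pullback.lift_snd_assoc, Category.assoc]
    exact congrArg (pX ≫ ·) (section_eq pX pY x hx y hy)
  have h2π : s₂ ≫ (pullback.fst pX pY ≫ pX) = pX := by rw [pullback.lift_fst_assoc, Category.id_comp]
  refine ⟨c * e * d, PicMul.isInvertibleCl_mul (PicMul.isInvertibleCl_mul hc (PicClLib.isInvertibleCl_pullCl _ hc))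
    hd, ?_, ?_, fun Q hA hB hC => ?_⟩
  · show PicMul.pullHom s₁ (c * e * d) = 1
    have hk : PicMul.pullHom s₁ (c * e) = PicMul.pullHom s₁ (a * b) := by
      simp only [a, b, e, map_mul, pull_pull, h11, h12]
      rw [← Category.assoc s₁, h1π]
    rw [map_mul, hk, ← map_mul, hd1, map_one]
  · show PicMul.pullHom s₂ (c * e * d) = 1
    have hk : PicMul.pullHom s₂ (c * e) = PicMul.pullHom s₂ (a * b) := by
      simp only [a, b, e, map_mul, pull_pull, h21, h22]
      rw [← Category.assoc s₂, h2π, mul_comm]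
    rw [map_mul, hk, ← map_mul, hd1, map_one]
  · have ha : PicMul.pullHom Q a = 1 := (pull_pull _ _ _).trans hA
    have hb : PicMul.pullHom Q b = 1 := (pull_pull _ _ _).trans hB
    have he : PicMul.pullHom Q e = 1 :=
      (pull_pull _ _ _).trans ((congrArg (fun m => PicMul.pullHom m c) (Category.assoc _ _ _).symm).trans hC)
    have hd' : PicMul.pullHom Q d = 1 := by
      have h := congrArg (PicMul.pullHom Q) hd1
      simpa only [map_mul, map_one, ha, hb, one_mul] using h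
    rw [map_mul, map_mul, he, hd', mul_one, mul_one]

/-- The restriction of a proper flat model to the open set of geometrically integral fibres. -/
theorem restrict_model {S X S₀ X₀ : Scheme.{u}} {pX : X ⟶ S} {u₀ : X₀ ⟶ S₀} {q : X ⟶ X₀} {π : S ⟶ S₀}
    (h : IsPullback q pX u₀ π) [IsProper u₀] [Flat u₀] {U : S₀.Opens}
    (hU : ∀ w ∈ U, GeometricallyIntegral (u₀.fiberToSpecResidueField w))
    (πU : S ⟶ U.toScheme) (hπU : πU ≫ U.ι = π) :
    GeometricallyIntegral (pullback.snd u₀ U.ι) ∧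
      ∃ qU : X ⟶ pullback u₀ U.ι, qU ≫ pullback.fst u₀ U.ι = q ∧ IsPullback qU pX (pullback.snd u₀ U.ι) πU := by
  constructor
  · rw [GeometricallyIntegral.iff_geometricallyIntegral_fiber]
    intro w
    exact (geometricallyIntegral_fiber_iff (IsPullback.of_hasPullback u₀ U.ι) w).2 (hU _ w.2)
  · let qU : X ⟶ pullback u₀ U.ι := pullback.lift q (pX ≫ πU) (by rw [Category.assoc, hπU]; exact h.w)
    refine ⟨qU, pullback.lift_fst _ _ _, ?_⟩
    refine IsPullback.of_right ?_ (pullback.lift_snd _ _ _) (IsPullback.of_hasPullback u₀ U.ι)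
    rw [pullback.lift_fst, hπU]
    exact h

/-- A section becomes available over the scheme which classifies it. -/
theorem universal_section {S X S₁ X₁ T : Scheme.{u}} {pX : X ⟶ S} {u₁ : X₁ ⟶ S₁} {qU : X ⟶ X₁} {πU : S ⟶ S₁}
    (h : IsPullback qU pX u₁ πU) (x : S ⟶ X) (hx : x ≫ pX = 𝟙 S) (τ : T ⟶ S₁) (ξ : T ⟶ X₁) (hξ : ξ ≫ u₁ = τ)
    (π₁ : S ⟶ T) (hπ : π₁ ≫ τ = πU) (hπξ : π₁ ≫ ξ = x ≫ qU) :
    ∃ (x₁ : T ⟶ pullback u₁ τ) (qX : X ⟶ pullback u₁ τ), x₁ ≫ pullback.snd u₁ τ = 𝟙 T ∧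
      IsPullback qX pX (pullback.snd u₁ τ) π₁ ∧ qX ≫ pullback.fst u₁ τ = qU ∧ x ≫ qX = π₁ ≫ x₁ := by
  let qX : X ⟶ pullback u₁ τ := pullback.lift qU (pX ≫ π₁) (by rw [Category.assoc, hπ]; exact h.w)
  refine ⟨pullback.lift ξ (𝟙 T) (by rw [Category.id_comp, hξ]), qX, pullback.lift_snd _ _ _, ?_,
    pullback.lift_fst _ _ _, ?_⟩
  · refine IsPullback.of_right ?_ (pullback.lift_snd _ _ _) (IsPullback.of_hasPullback u₁ τ)
    rw [pullback.lift_fst, hπ]
    exact h
  · refine pullback.hom_ext ?_ ?_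
    · rw [Category.assoc, pullback.lift_fst, Category.assoc, pullback.lift_fst, hπξ]
    · rw [Category.assoc, pullback.lift_snd, reassoc_of% hx, Category.assoc, pullback.lift_snd, Category.comp_id]

/-- A module trivial on both slices is the pullback of such a module from a noetherian base with sections. -/
theorem exists_cube_model {S X Y : Scheme.{u}} [IsAffine S] (pX : X ⟶ S) (pY : Y ⟶ S)
    [IsProper pX] [Flat pX] [LocallyOfFinitePresentation pX] [GeometricallyIntegral pX]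
    [IsProper pY] [Flat pY] [LocallyOfFinitePresentation pY] [GeometricallyIntegral pY]
    (x : S ⟶ X) (hx : x ≫ pX = 𝟙 S) (y : S ⟶ Y) (hy : y ≫ pY = 𝟙 S)
    (L : (pullback pX pY).Modules) (hL : PicF.IsInvertible L)
    (h₁ : Triv ((Scheme.Modules.pullback (sliceSndS pX pY x hx)).obj L))
    (h₂ : Triv ((Scheme.Modules.pullback (sliceFstS pX pY y hy)).obj L)) :
    ∃ (S₁ X₁ Y₁ : Scheme.{u}) (π : S ⟶ S₁) (pX₁ : X₁ ⟶ S₁) (pY₁ : Y₁ ⟶ S₁) (x₁ : S₁ ⟶ X₁)
      (hx₁ : x₁ ≫ pX₁ = 𝟙 S₁) (y₁ : S₁ ⟶ Y₁) (hy₁ : y₁ ≫ pY₁ = 𝟙 S₁)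
      (Q : pullback pX pY ⟶ pullback pX₁ pY₁) (L₁ : (pullback pX₁ pY₁).Modules),
      IsLocallyNoetherian S₁ ∧ (IsProper pX₁ ∧ Flat pX₁ ∧ GeometricallyIntegral pX₁) ∧
        (IsProper pY₁ ∧ Flat pY₁ ∧ GeometricallyIntegral pY₁) ∧
        IsPullback Q (pullback.fst pX pY ≫ pX) (pullback.fst pX₁ pY₁ ≫ pX₁) π ∧ PicF.IsInvertible L₁ ∧
        Triv ((Scheme.Modules.pullback (sliceSndS pX₁ pY₁ x₁ hx₁)).obj L₁) ∧
        Triv ((Scheme.Modules.pullback (sliceFstS pX₁ pY₁ y₁ hy₁)).obj L₁) ∧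
        Nonempty ((Scheme.Modules.pullback Q).obj L₁ ≅ L) := by
  obtain ⟨S₀, X₀, Y₀, π₀, u₀, v₀, qX₀, qY₀, hX₀, hY₀, L₀, _, _, _, _, _, hL₀, ⟨θ⟩⟩ := exists_model₂ pX pY L hL
  haveI : LocallyOfFinitePresentation u₀ := inferInstance
  haveI : LocallyOfFinitePresentation v₀ := inferInstance
  let U : S₀.Opens := ⟨{w | GeometricallyIntegral (u₀.fiberToSpecResidueField w) ∧
      GeometricallyIntegral (v₀.fiberToSpecResidueField w)},
    (GeomLoci.isOpen_geometricallyIntegral u₀).inter (GeomLoci.isOpen_geometricallyIntegral v₀)⟩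
  have hrange : Set.range π₀ ⊆ Set.range U.ι := by
    rintro _ ⟨s, rfl⟩
    rw [Scheme.Opens.range_ι]
    exact ⟨(geometricallyIntegral_fiber_iff hX₀ s).1 inferInstance,
      (geometricallyIntegral_fiber_iff hY₀ s).1 inferInstance⟩
  let πU : S ⟶ U.toScheme := IsOpenImmersion.lift U.ι π₀ hrange
  have hπU : πU ≫ U.ι = π₀ := IsOpenImmersion.lift_fac _ _ _
  let u₁ := pullback.snd u₀ U.ι
  let v₁ := pullback.snd v₀ U.ι
  obtain ⟨hgu, qXU, hqXU, hXU⟩ := restrict_model hX₀ (U := U) (fun w hw => hw.1) πU hπU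
  obtain ⟨hgv, qYU, hqYU, hYU⟩ := restrict_model hY₀ (U := U) (fun w hw => hw.2) πU hπU
  haveI : GeometricallyIntegral u₁ := hgu
  haveI : GeometricallyIntegral v₁ := hgv
  let τ : pullback u₁ v₁ ⟶ U.toScheme := pullback.fst u₁ v₁ ≫ u₁
  haveI : IsLocallyNoetherian U.toScheme := inferInstance
  haveI : IsLocallyNoetherian (pullback u₁ v₁) := LocallyOfFiniteType.isLocallyNoetherian τ
  let π₁ : S ⟶ pullback u₁ v₁ := pullback.lift (x ≫ qXU) (y ≫ qYU) (by
    rw [Category.assoc, Category.assoc, hXU.w, hYU.w, reassoc_of% hx, reassoc_of% hy])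
  have hπ₁ : π₁ ≫ τ = πU := by
    rw [pullback.lift_fst_assoc, Category.assoc, hXU.w, reassoc_of% hx]
  obtain ⟨x₁, qX, hx₁, hX₁, hqXf, hxc⟩ :=
    universal_section hXU x hx τ (pullback.fst u₁ v₁) rfl π₁ hπ₁ (pullback.lift_fst _ _ _)
  obtain ⟨y₁, qY, hy₁, hY₁, hqYf, hyc⟩ :=
    universal_section hYU y hy τ (pullback.snd u₁ v₁) pullback.condition.symm π₁ hπ₁ (pullback.lift_snd _ _ _)
  let pX₁ := pullback.snd u₁ τ
  let pY₁ := pullback.snd v₁ τ
  let Q : pullback pX pY ⟶ pullback pX₁ pY₁ := pullback.map pX pY pX₁ pY₁ qX qY π₁ hX₁.w.symm hY₁.w.symm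
  let m : pullback pX₁ pY₁ ⟶ pullback u₀ v₀ :=
    pullback.map pX₁ pY₁ u₀ v₀ (pullback.fst u₁ τ ≫ pullback.fst u₀ U.ι) (pullback.fst v₁ τ ≫ pullback.fst v₀ U.ι)
      (τ ≫ U.ι)
      ((Category.assoc _ _ _).symm.trans ((congrArg (· ≫ U.ι) pullback.condition.symm).trans
        ((Category.assoc _ _ _).trans ((congrArg (pullback.fst u₁ τ ≫ ·) pullback.condition.symm).trans
          (Category.assoc _ _ _).symm))))
      ((Category.assoc _ _ _).symm.trans ((congrArg (· ≫ U.ι) pullback.condition.symm).trans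
        ((Category.assoc _ _ _).trans ((congrArg (pullback.fst v₁ τ ≫ ·) pullback.condition.symm).trans
          (Category.assoc _ _ _).symm))))
  have hQf : Q ≫ pullback.fst pX₁ pY₁ = pullback.fst pX pY ≫ qX := pullback.lift_fst _ _ _
  have hQs : Q ≫ pullback.snd pX₁ pY₁ = pullback.snd pX pY ≫ qY := pullback.lift_snd _ _ _
  have hQm : Q ≫ m = pullback.map pX pY u₀ v₀ qX₀ qY₀ π₀ hX₀.w.symm hY₀.w.symm := by
    refine pullback.hom_ext ?_ ?_
    · rw [Category.assoc, pullback.lift_fst, reassoc_of% hQf, reassoc_of% hqXf, hqXU]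
      exact (pullback.lift_fst _ _ _).symm
    · rw [Category.assoc, pullback.lift_snd, reassoc_of% hQs, reassoc_of% hqYf, hqYU]
      exact (pullback.lift_snd _ _ _).symm
  let c := PicMul.pullHom m (PicF.cl L₀)
  have hcQ : PicMul.pullHom Q c = PicF.cl L := by
    refine (pull_pull _ _ _).trans ?_
    rw [hQm]
    exact PicMul.cl_eq_iff.2 ⟨θ⟩
  have hc : PicF.IsInvertibleCl c := PicClLib.isInvertibleCl_pullCl _ ⟨L₀, rfl, hL₀⟩
  obtain ⟨c', ⟨L₁, hcl, hL₁⟩, hs₁, hs₂, hQ⟩ := exists_normalised pX₁ pY₁ x₁ hx₁ y₁ hy₁ hc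
  have hfx : sliceSndS pX pY x hx ≫ Q = qY ≫ sliceSndS pX₁ pY₁ x₁ hx₁ := by
    refine pullback.hom_ext ?_ ?_
    · rw [Category.assoc, hQf, pullback.lift_fst_assoc, Category.assoc, hxc, Category.assoc, pullback.lift_fst,
        reassoc_of% hY₁.w]
    · rw [Category.assoc, hQs, pullback.lift_snd_assoc, Category.id_comp, Category.assoc, pullback.lift_snd,
        Category.comp_id]
  have hfy : sliceFstS pX pY y hy ≫ Q = qX ≫ sliceFstS pX₁ pY₁ y₁ hy₁ := by
    refine pullback.hom_ext ?_ ?_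
    · rw [Category.assoc, hQf, pullback.lift_fst_assoc, Category.id_comp, Category.assoc, pullback.lift_fst,
        Category.comp_id]
    · rw [Category.assoc, hQs, pullback.lift_snd_assoc, Category.assoc, hyc, Category.assoc, pullback.lift_snd,
        reassoc_of% hX₁.w]
  have ht₁ : PicMul.pullHom (sliceSndS pX pY x hx ≫ Q) c = 1 := by
    rw [← pull_pull, hcQ]
    exact (CubeAb.cl_eq_one_iff _).2 h₁
  have ht₂ : PicMul.pullHom (sliceFstS pX pY y hy ≫ Q) c = 1 := by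
    rw [← pull_pull, hcQ]
    exact (CubeAb.cl_eq_one_iff _).2 h₂
  have hQ' : PicMul.pullHom Q c' = PicMul.pullHom Q c := by
    refine hQ Q ?_ ?_ ?_
    · rw [reassoc_of% hQs, ← hfx, ← pull_pull (pullback.snd pX pY), ht₁, map_one]
    · rw [reassoc_of% hQf, ← hfy, ← pull_pull (pullback.fst pX pY), ht₂, map_one]
    · rw [reassoc_of% hQf, hX₁.w, ← Category.assoc (pullback.fst pX pY), Category.assoc _ π₁, ← reassoc_of% hxc,
        ← hfy, ← pull_pull (pullback.fst pX pY ≫ pX), ← pull_pull x, ht₂, map_one, map_one]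
  refine ⟨_, _, _, π₁, pX₁, pY₁, x₁, hx₁, y₁, hy₁, Q, L₁, inferInstance, ⟨inferInstance, inferInstance,
    inferInstance⟩, ⟨inferInstance, inferInstance, inferInstance⟩, isPullback_prod hX₁ hY₁, hL₁, ?_, ?_, ?_⟩
  · refine (CubeAb.cl_eq_one_iff _).1 ?_
    show PicMul.pullHom _ (PicF.cl L₁) = 1
    rw [hcl]; exact hs₁
  · refine (CubeAb.cl_eq_one_iff _).1 ?_
    show PicMul.pullHom _ (PicF.cl L₁) = 1
    rw [hcl]; exact hs₂
  · refine PicMul.cl_eq_iff.1 ?_
    show PicMul.pullHom Q (PicF.cl L₁) = PicF.cl L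
    rw [hcl, hQ', hcQ]

end Groth.Agent.RelCube
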