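import Groth.Agent.RelCube.CubeModel

/-!
The theorem of the cube over an arbitrary base.
-/

set_option autoImplicit false
set_option linter.style.haveILetI false
set_option linter.unusedSectionVars false
set_option backward.isDefEq.respectTransparency false
set_option backward.isDefEq.respectTransparency.types false
set_option maxHeartbeats 1000000

universe u

open CategoryTheory CategoryTheory.Limits AlgebraicGeometry TopologicalSpace
open Groth.Agent.H23 Groth.Agent.H23.TrivBasic Groth.Agent.H23.SeesawGlobal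

attribute [-instance] CategoryTheory.catToReflQuiver

namespace Groth.Agent.RelCube

open Groth.Agent

section Transfer

variable {S S₁ P P₁ : Scheme.{u}} {p : P ⟶ S} {p₁ : P₁ ⟶ S₁} {Q : P ⟶ P₁} {π : S ⟶ S₁}
  (h : IsPullback Q p p₁ π) {L : P.Modules} {L₁ : P₁.Modules}
  (θ : (Scheme.Modules.pullback Q).obj L₁ ≅ L)

include θ in
theorem fieldTriv_of_model (v : S) (hv : FieldTriv p₁ L₁ (π v)) (hw : Q ≫ p₁ = p ≫ π) : FieldTriv p L v := by
  intro K _ k hk
  have h₁ := hv K (k ≫ π) (by rw [Scheme.Hom.comp_apply, hk])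
  have h₂ : Triv ((Scheme.Modules.pullback (pullback.fst p k ≫ Q)).obj L₁) :=
    triv_of_factor (pullback.lift (pullback.fst p k ≫ Q) (pullback.snd p k) (by
      rw [Category.assoc, hw, pullback.condition_assoc])) (pullback.lift_fst _ _ _) h₁
  exact Triv.of_iso ((Scheme.Modules.pullback (pullback.fst p k)).mapIso θ) ((triv_comp_iff _ Q).2 h₂)

include h θ in
theorem triv_point_model {K : Type u} [Field K] (k : Spec (CommRingCat.of K) ⟶ S)
    (hT : Triv ((Scheme.Modules.pullback (pullback.fst p k)).obj L)) :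
    Triv ((Scheme.Modules.pullback (pullback.fst p₁ (k ≫ π))).obj L₁) := by
  let w := h.lift (pullback.fst p₁ (k ≫ π)) (pullback.snd p₁ (k ≫ π) ≫ k)
    (by rw [pullback.condition, Category.assoc])
  have h₁ : Triv ((Scheme.Modules.pullback (pullback.fst p k ≫ Q)).obj L₁) :=
    (triv_comp_iff _ Q).1 (Triv.of_iso ((Scheme.Modules.pullback (pullback.fst p k)).mapIso θ.symm) hT)
  refine triv_of_factor (pullback.lift w (pullback.snd p₁ (k ≫ π)) (h.lift_snd _ _ _)) ?_ h₁
  rw [pullback.lift_fst_assoc, h.lift_fst]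

end Transfer

/-- The trivial locus has the three properties used in the theorem of the cube. -/
def Good {S P : Scheme.{u}} (p : P ⟶ S) (L : P.Modules) : Prop :=
  (∀ (v : S) (K : Type u) [Field K] (k : Spec (CommRingCat.of K) ⟶ S), k (IsLocalRing.closedPoint K) = v →
      Triv ((Scheme.Modules.pullback (pullback.fst p k)).obj L) → FieldTriv p L v) ∧
    IsClosed {v : S | FieldTriv p L v} ∧
    ∀ v : S, FieldTriv p L v → ∃ V : S.Opens, v ∈ V ∧ ∃ s : Γ(L, p ⁻¹ᵁ V), InvX.IsFrame s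

section

variable {S X Y : Scheme.{u}} (pX : X ⟶ S) (pY : Y ⟶ S)
  [IsProper pX] [Flat pX] [LocallyOfFinitePresentation pX] [GeometricallyIntegral pX]
  [IsProper pY] [Flat pY] [LocallyOfFinitePresentation pY] [GeometricallyIntegral pY]
  (x : S ⟶ X) (hx : x ≫ pX = 𝟙 S) (y : S ⟶ Y) (hy : y ≫ pY = 𝟙 S)

include hx hy in
theorem good_of_isAffine [IsAffine S] (L : (pullback pX pY).Modules) (hL : PicF.IsInvertible L)
    (h₁ : Triv ((Scheme.Modules.pullback (sliceSndS pX pY x hx)).obj L))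
    (h₂ : Triv ((Scheme.Modules.pullback (sliceFstS pX pY y hy)).obj L)) :
    Good (pullback.fst pX pY ≫ pX) L := by
  obtain ⟨S₁, X₁, Y₁, π, pX₁, pY₁, x₁, hx₁, y₁, hy₁, Q, L₁, _, ⟨_, _, _⟩, ⟨_, _, _⟩, hQ, hL₁, hs₁, hs₂, ⟨θ⟩⟩ :=
    exists_cube_model pX pY x hx y hy L hL h₁ h₂
  let p := pullback.fst pX pY ≫ pX
  let p₁ := pullback.fst pX₁ pY₁ ≫ pX₁
  haveI : LocallyOfFinitePresentation pX₁ := inferInstance
  haveI : LocallyOfFinitePresentation pY₁ := inferInstance
  haveI : GeometricallyIntegral p₁ := geometricallyIntegral_prod pX₁ pY₁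
  have hpt : ∀ (v : S) (K : Type u) [Field K] (k : Spec (CommRingCat.of K) ⟶ S),
      k (IsLocalRing.closedPoint K) = v →
      Triv ((Scheme.Modules.pullback (pullback.fst p k)).obj L) → FieldTriv p₁ L₁ (π v) := fun v K _ k hk hT =>
    SeesawGlobal.fieldTriv_of_point p₁ hL₁ K (k ≫ π) (by rw [Scheme.Hom.comp_apply, hk])
      (triv_point_model hQ θ k hT)
  have hiff : ∀ v : S, FieldTriv p L v ↔ FieldTriv p₁ L₁ (π v) := fun v =>
    ⟨fun hv => hpt v (S.residueField v) (S.fromSpecResidueField v) (Scheme.fromSpecResidueField_apply _ _)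
      (hv _ _ (Scheme.fromSpecResidueField_apply _ _)), fun hv => fieldTriv_of_model θ v hv hQ.w⟩
  refine ⟨fun v K _ k hk hT => fieldTriv_of_model θ v (hpt v K k hk hT) hQ.w, ?_, fun v hv => ?_⟩
  · rw [show {v : S | FieldTriv p L v} = π ⁻¹' {w | FieldTriv p₁ L₁ w} from Set.ext hiff]
    exact (SeesawGlobal.isClosed_fieldTriv p₁ hL₁).preimage π.continuous
  · obtain ⟨V, hvV, s, hs⟩ := exists_frame_near pX₁ pY₁ x₁ hx₁ y₁ hy₁ L₁ hL₁ hs₁ hs₂ (π v) ((hiff v).1 hv)
    have hle : p ⁻¹ᵁ (π ⁻¹ᵁ V) ≤ Q ⁻¹ᵁ (p₁ ⁻¹ᵁ V) := by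
      rw [← Scheme.Hom.comp_preimage, ← Scheme.Hom.comp_preimage]
      exact le_of_eq (congrArg (· ⁻¹ᵁ V) hQ.w).symm
    exact ⟨π ⁻¹ᵁ V, hvV, _, ((InvX.isFrame_pullElt Q hs).res hle).map_iso θ⟩

include hx hy in
theorem good (L : (pullback pX pY).Modules) (hL : PicF.IsInvertible L)
    (h₁ : Triv ((Scheme.Modules.pullback (sliceSndS pX pY x hx)).obj L))
    (h₂ : Triv ((Scheme.Modules.pullback (sliceFstS pX pY y hy)).obj L)) :
    Good (pullback.fst pX pY ≫ pX) L := by
  let p := pullback.fst pX pY ≫ pX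
  have hcover : ∀ v : S, ∃ (V : S.Opens), v ∈ V ∧ IsAffineOpen V := fun v => by
    obtain ⟨V, hV, hv, -⟩ := exists_isAffineOpen_mem_and_subset (x := v) (U := ⊤) trivial
    exact ⟨V, hv, hV⟩
  have hV : ∀ V : S.Opens, IsAffineOpen V →
      Good (pullback.fst (pullback.snd pX V.ι) (pullback.snd pY V.ι) ≫ pullback.snd pX V.ι)
        ((Scheme.Modules.pullback (prodBC pX pY V.ι)).obj L) := by
    intro V hV
    haveI : IsAffine V.toScheme := hV
    refine good_of_isAffine _ _
      (pullback.lift (V.ι ≫ x) (𝟙 _) (by rw [Category.assoc, hx, Category.comp_id, Category.id_comp]))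
      (pullback.lift_snd _ _ _)
      (pullback.lift (V.ι ≫ y) (𝟙 _) (by rw [Category.assoc, hy, Category.comp_id, Category.id_comp]))
      (pullback.lift_snd _ _ _) _ (PicClLib.isInvertible_pullback _ hL) ?_ ?_
    · refine (triv_comp_iff _ _).2 (SeesawGlobal.triv_of_factor (pullback.fst pY V.ι) ?_ h₁)
      refine pullback.hom_ext ?_ ?_
      · simp only [Category.assoc, prodBC, pullback.map, pullback.lift_fst, sliceSndS,
          pullback.lift_fst_assoc]
        rw [pullback.condition_assoc]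
      · simp only [Category.assoc, prodBC, pullback.map, pullback.lift_snd, sliceSndS,
          pullback.lift_snd_assoc, Category.comp_id, Category.id_comp]
    · refine (triv_comp_iff _ _).2 (SeesawGlobal.triv_of_factor (pullback.fst pX V.ι) ?_ h₂)
      refine pullback.hom_ext ?_ ?_
      · simp only [Category.assoc, prodBC, pullback.map, pullback.lift_fst, sliceFstS,
          pullback.lift_fst_assoc, Category.comp_id, Category.id_comp]
      · simp only [Category.assoc, prodBC, pullback.map, pullback.lift_snd, sliceFstS,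
          pullback.lift_snd_assoc]
        rw [pullback.condition_assoc]
        exact congrArg (_ ≫ ·) (pullback.lift_fst _ _ _).symm
  have hsq : ∀ V : S.Opens, IsPullback (prodBC pX pY V.ι)
      (pullback.fst (pullback.snd pX V.ι) (pullback.snd pY V.ι) ≫ pullback.snd pX V.ι) p V.ι := fun V =>
    isPullback_prod (IsPullback.of_hasPullback pX V.ι) (IsPullback.of_hasPullback pY V.ι)
  have hpt : ∀ (V : S.Opens), IsAffineOpen V → ∀ (w : V.toScheme),
      FieldTriv (pullback.fst (pullback.snd pX V.ι) (pullback.snd pY V.ι) ≫ pullback.snd pX V.ι)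
        ((Scheme.Modules.pullback (prodBC pX pY V.ι)).obj L) w ↔ FieldTriv p L (V.ι w) := by
    intro V hV' w
    refine ⟨fun h K _ k hk => ?_, fun h => fieldTriv_of_model (Iso.refl _) w h (hsq V).w⟩
    have hr : Set.range k ⊆ Set.range V.ι := by
      rintro _ ⟨s, rfl⟩
      rw [Subsingleton.elim s (IsLocalRing.closedPoint K), hk]
      exact ⟨w, rfl⟩
    have hfac : IsOpenImmersion.lift V.ι k hr ≫ V.ι = k := IsOpenImmersion.lift_fac _ _ _
    have hkw : IsOpenImmersion.lift V.ι k hr (IsLocalRing.closedPoint K) = w := by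
      refine V.ι.isOpenEmbedding.injective ?_
      rw [← hk]
      exact congr($hfac (IsLocalRing.closedPoint K))
    exact hfac ▸ triv_point_model (hsq V) (Iso.refl _) _ (h K _ hkw)
  refine ⟨fun v K _ k hk hT => ?_, ?_, fun v hv => ?_⟩
  · obtain ⟨V, hv, hV'⟩ := hcover v
    have hr : Set.range k ⊆ Set.range V.ι := by
      rintro _ ⟨s, rfl⟩
      rw [Subsingleton.elim s (IsLocalRing.closedPoint K), hk, Scheme.Opens.range_ι]
      exact hv
    have hfac : IsOpenImmersion.lift V.ι k hr ≫ V.ι = k := IsOpenImmersion.lift_fac _ _ _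
    have hkw : IsOpenImmersion.lift V.ι k hr (IsLocalRing.closedPoint K) = ⟨v, hv⟩ := by
      refine V.ι.isOpenEmbedding.injective ?_
      exact (congr($hfac (IsLocalRing.closedPoint K))).trans hk
    refine (hpt V hV' ⟨v, hv⟩).1 ((hV V hV').1 _ K (IsOpenImmersion.lift V.ι k hr) hkw ?_)
    refine (triv_comp_iff _ _).2 (SeesawGlobal.triv_of_factor
      (pullback.lift (pullback.fst _ _ ≫ prodBC pX pY V.ι) (pullback.snd _ _) ?_) (pullback.lift_fst _ _ _) hT)
    rw [Category.assoc, (hsq V).w, pullback.condition_assoc, hfac]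
  · rw [← isOpen_compl_iff, isOpen_iff_forall_mem_open]
    intro v hv
    obtain ⟨V, hvV, hV'⟩ := hcover v
    refine ⟨V.ι '' {w | ¬ FieldTriv (pullback.fst (pullback.snd pX V.ι) (pullback.snd pY V.ι) ≫ pullback.snd pX V.ι)
        ((Scheme.Modules.pullback (prodBC pX pY V.ι)).obj L) w}, ?_,
      V.ι.isOpenEmbedding.isOpenMap _ (hV V hV').2.1.isOpen_compl, ⟨⟨v, hvV⟩, ?_, rfl⟩⟩
    · rintro _ ⟨w, hw, rfl⟩ h
      exact hw ((hpt V hV' w).2 h)
    · exact fun h => hv ((hpt V hV' ⟨v, hvV⟩).1 h)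
  · obtain ⟨V, hvV, hV'⟩ := hcover v
    let pV := pullback.fst (pullback.snd pX V.ι) (pullback.snd pY V.ι) ≫ pullback.snd pX V.ι
    let G := prodBC pX pY V.ι
    obtain ⟨W, hwW, s, hs⟩ := (hV V hV').2.2 ⟨v, hvV⟩ ((hpt V hV' ⟨v, hvV⟩).2 hv)
    haveI : IsOpenImmersion G := MorphismProperty.of_isPullback (hsq V).flip (inferInstance : IsOpenImmersion V.ι)
    let U := pV ⁻¹ᵁ W
    have hle : (⊤ : U.toScheme.Opens) ≤ U.ι ⁻¹ᵁ U := fun z _ => z.2
    have hT : Triv ((Scheme.Modules.pullback U.ι).obj ((Scheme.Modules.pullback G).obj L)) :=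
      triv_of_frame ((InvX.isFrame_pullElt U.ι hs).res hle)
    obtain ⟨t, ht⟩ := SeesawGlobal.exists_frame_of_triv (U.ι ≫ G) ((triv_comp_iff U.ι G).1 hT)
    have hsub : p ⁻¹ᵁ (V.ι ''ᵁ W) ≤ (U.ι ≫ G).opensRange := by
      rintro z ⟨w, hw, hzw⟩
      obtain ⟨z', hz'⟩ : z ∈ Set.range G := by
        have hr : z ∈ Set.range (pullback.fst p V.ι) := by
          rw [Scheme.Pullback.range_fst]
          exact ⟨w, hzw⟩
        obtain ⟨z₂, rfl⟩ := hr
        refine ⟨(hsq V).isoPullback.inv z₂, ?_⟩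
        show G ((hsq V).isoPullback.inv z₂) = _
        rw [← Scheme.Hom.comp_apply, (hsq V).isoPullback_inv_fst]
      have hzW : z' ∈ U := by
        show pV z' ∈ W
        have h1 : V.ι (pV z') = p z := by rw [← hz', ← Scheme.Hom.comp_apply, ← (hsq V).w, Scheme.Hom.comp_apply]
        rw [V.ι.isOpenEmbedding.injective (h1.trans hzw.symm)]
        exact hw
      exact ⟨⟨z', hzW⟩, hz'⟩
    exact ⟨V.ι ''ᵁ W, ⟨⟨v, hvV⟩, hwW, rfl⟩, _, ht.res hsub⟩

include hx hy in
/-- The theorem of the cube over an arbitrary base. -/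
theorem cube_general (L : (pullback pX pY).Modules) (hL : PicF.IsInvertible L)
    (h₁ : Triv ((Scheme.Modules.pullback (sliceSndS pX pY x hx)).obj L))
    (h₂ : Triv ((Scheme.Modules.pullback (sliceFstS pX pY y hy)).obj L))
    (z : S) (hT : Triv ((Scheme.Modules.pullback ((pullback.fst pX pY ≫ pX).fiberι z)).obj L)) :
    ∃ W : S.Opens, IsClosed (W : Set S) ∧ z ∈ W ∧
      Triv ((Scheme.Modules.pullback ((pullback.fst pX pY ≫ pX) ⁻¹ᵁ W).ι).obj L) := by
  let p := pullback.fst pX pY ≫ pX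
  haveI : GeometricallyIntegral p := geometricallyIntegral_prod pX pY
  haveI : Surjective p := inferInstance
  obtain ⟨hpt, hcl, hnear⟩ := good pX pY x hx y hy L hL h₁ h₂
  have hz : FieldTriv p L z :=
    hpt z (S.residueField z) (S.fromSpecResidueField z) (Scheme.fromSpecResidueField_apply _ _) hT
  let W : S.Opens := ⟨{v | FieldTriv p L v}, by
    rw [isOpen_iff_forall_mem_open]
    intro v hv
    obtain ⟨V, hvV, s, hs⟩ := hnear v hv
    refine ⟨V, fun w hw => ?_, V.isOpen, hvV⟩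
    refine hpt w (S.residueField w) (S.fromSpecResidueField w) (Scheme.fromSpecResidueField_apply _ _) ?_
    refine triv_of_frame ((InvX.isFrame_pullElt (pullback.fst p (S.fromSpecResidueField w)) hs).res
      (fun a _ => ?_) : InvX.IsFrame (U := ⊤) _)
    show p (pullback.fst p (S.fromSpecResidueField w) a) ∈ V
    rw [← Scheme.Hom.comp_apply, pullback.condition, Scheme.Hom.comp_apply, Scheme.fromSpecResidueField_apply]
    exact hw⟩
  refine ⟨W, hcl, hz, ?_⟩
  let σ : S ⟶ pullback pX pY := x ≫ sliceFstS pX pY y hy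
  have hσ : σ ≫ p = 𝟙 S := by
    show (x ≫ sliceFstS pX pY y hy) ≫ pullback.fst pX pY ≫ pX = 𝟙 S
    rw [Category.assoc, pullback.lift_fst_assoc, Category.id_comp, hx]
  let σW : W.toScheme ⟶ (p ⁻¹ᵁ W).toScheme := IsOpenImmersion.lift (p ⁻¹ᵁ W).ι (W.ι ≫ σ) (by
    rintro _ ⟨w, rfl⟩
    rw [Scheme.Opens.range_ι]
    show p (σ (W.ι w)) ∈ W
    rw [← Scheme.Hom.comp_apply, hσ]
    exact w.2)
  have hσι : σW ≫ (p ⁻¹ᵁ W).ι = W.ι ≫ σ := IsOpenImmersion.lift_fac _ _ _
  have hσW : σW ≫ (p ∣_ W) = 𝟙 _ := by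
    rw [← cancel_mono W.ι, Category.assoc, morphismRestrict_ι, ← Category.assoc σW, hσι, Category.assoc,
      hσ, Category.comp_id, Category.id_comp]
  refine SeesawGlobal.triv_of_section (f := p ∣_ W)
    (fun V => GammaDescent.bijective_app (p ∣_ W) (RigidApply.constFibres_of_geometricallyIntegral _) V)
    σW hσW ?_ fun w => ?_
  · refine (triv_comp_iff _ _).2 (SeesawGlobal.triv_of_factor (W.ι ≫ x) ?_ h₂)
    rw [hσι]
    exact Category.assoc _ _ _
  · obtain ⟨V, hwV, s, hs⟩ := hnear w.1 w.2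
    refine ⟨W.ι ⁻¹ᵁ V, hwV, ?_⟩
    have hle : (p ∣_ W) ⁻¹ᵁ (W.ι ⁻¹ᵁ V) ≤ (p ⁻¹ᵁ W).ι ⁻¹ᵁ (p ⁻¹ᵁ V) := by
      rw [← Scheme.Hom.comp_preimage, morphismRestrict_ι]
      exact (Scheme.Hom.comp_preimage _ _ _).le
    exact ⟨_, (InvX.isFrame_pullElt (p ⁻¹ᵁ W).ι hs).res hle⟩

end

end Groth.Agent.RelCube
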