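import Groth.Agent.RelCube.Cube
import Groth.Agent.HilbSnap.Model
import Groth.Agent.GeomLoci.IrredGen
import Groth.Agent.LimSm.Flat

/-!
Noetherian models of a product of two proper flat morphisms with an invertible module.
-/

noncomputable section

set_option autoImplicit false
set_option linter.style.haveILetI false
set_option linter.unusedSectionVars false
set_option backward.isDefEq.respectTransparency false
set_option backward.isDefEq.respectTransparency.types false
set_option maxHeartbeats 1000000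
set_option synthInstance.maxHeartbeats 400000

universe u

open CategoryTheory CategoryTheory.Limits AlgebraicGeometry
open Groth.Agent.MorLib Groth.Agent.MorLib.Desc Groth.Agent.ConsPropLib

attribute [-instance] CategoryTheory.catToReflQuiver

namespace Groth.Agent.RelCube

open Groth.Agent

/-- The product of two cartesian squares is cartesian. -/
theorem isPullback_prod {S S₀ X X₀ Y Y₀ : Scheme.{u}} {pX : X ⟶ S} {pY : Y ⟶ S} {u₀ : X₀ ⟶ S₀} {v₀ : Y₀ ⟶ S₀}
    {π : S ⟶ S₀} {qX : X ⟶ X₀} {qY : Y ⟶ Y₀} (hX : IsPullback qX pX u₀ π) (hY : IsPullback qY pY v₀ π) :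
    IsPullback (pullback.map pX pY u₀ v₀ qX qY π hX.w.symm hY.w.symm) (pullback.fst pX pY ≫ pX)
      (pullback.fst u₀ v₀ ≫ u₀) π := by
  have hout : IsPullback (pullback.snd pX pY ≫ qY) (pullback.fst pX pY) v₀ (qX ≫ u₀) := by
    rw [hX.w]
    exact (IsPullback.of_hasPullback pX pY).flip.paste_horiz hY
  have htop : IsPullback (pullback.map pX pY u₀ v₀ qX qY π hX.w.symm hY.w.symm) (pullback.fst pX pY)
      (pullback.fst u₀ v₀) qX := by
    refine IsPullback.of_right ?_ (pullback.lift_fst _ _ _) (IsPullback.of_hasPullback u₀ v₀).flip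
    rw [show pullback.map pX pY u₀ v₀ qX qY π hX.w.symm hY.w.symm ≫ pullback.snd u₀ v₀ =
      pullback.snd pX pY ≫ qY from pullback.lift_snd _ _ _]
    exact hout
  exact htop.paste_vert hX

/-- Geometric integrality of a fibre may be tested on a model. -/
theorem geometricallyIntegral_fiber_iff {X S X₀ S₀ : Scheme.{u}} {f : X ⟶ S} {f₀ : X₀ ⟶ S₀} {q : X ⟶ X₀}
    {π : S ⟶ S₀} (h : IsPullback q f f₀ π) [IsProper f] [IsProper f₀] (v : S) :
    GeometricallyIntegral (f.fiberToSpecResidueField v) ↔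
      GeometricallyIntegral (f₀.fiberToSpecResidueField (π v)) := by
  rw [GeomLoci.geometricallyIntegral_fiber_iff f, GeomLoci.geometricallyIntegral_fiber_iff f₀,
    (Triage.GeomCount.nGeom_baseChange f₀ f q π h v).1]
  exact and_congr_left' (Set.ext_iff.1 (S9735.result f₀ π f q h) v)

section Stage

variable {I : Type u} [SmallCategory I] [IsCofiltered I] [∀ a b : I, Subsingleton (a ⟶ b)]
  {D : I ⥤ Scheme.{u}} {c : Cone D} (hc : IsLimit c)
  [∀ {a b : I} (t : a ⟶ b), IsAffineHom (D.map t)] [∀ a : I, IsAffine (D.obj a)]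

include hc in
/-- A proper flat morphism to the limit has a proper flat model below any given stage. -/
theorem exists_proper_flat_stage {X : Scheme.{u}} (f : X ⟶ c.pt) [IsProper f] [Flat f]
    [LocallyOfFinitePresentation f] :
    ∃ i : I, ∀ (l : I) (_ : l ⟶ i), ∃ (X₁ : Scheme.{u}) (u : X₁ ⟶ D.obj l) (q : X ⟶ X₁),
      IsProper u ∧ Flat u ∧ LocallyOfFinitePresentation u ∧ IsPullback q f u (c.π.app l) := by
  haveI : ∀ (a b : I) (t : a ⟶ b), IsAffineHom (D.map t) := fun _ _ t => inferInstance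
  obtain ⟨i, X₂, u₂, g₂, hm⟩ := hasModel hc f
  haveI := hm.lfp; haveI := hm.qc; haveI := hm.qs
  obtain ⟨a, φa, ha⟩ := Desc.descend D c hc i (P := @IsProper) (Q := @LocallyOfFinitePresentation)
    ConsPropLib.core_isProper u₂ hm.lfp (of_two @IsProper hm.sq (IsPullback.of_hasPullback _ _) inferInstance)
  obtain ⟨b, φb, hb⟩ := Desc.descend D c hc i (P := @Flat) (Q := @LocallyOfFinitePresentation)
    LimSm.core_flat u₂ hm.lfp (of_two @Flat hm.sq (IsPullback.of_hasPullback _ _) inferInstance)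
  obtain ⟨w₁, α, β, -⟩ := IsCofilteredOrEmpty.cone_objs a b
  refine ⟨w₁, fun l γ => ?_⟩
  let ψ : l ⟶ i := γ ≫ α ≫ φa
  have e1 : D.map (γ ≫ α) ≫ D.map φa = D.map ψ := by rw [← D.map_comp, Category.assoc]
  have e2 : D.map (γ ≫ β) ≫ D.map φb = D.map ψ := by
    rw [← D.map_comp]; exact congrArg D.map (Subsingleton.elim _ _)
  exact ⟨_, pullback.snd u₂ (D.map ψ), hm.push ψ,
    of_factor @IsProper ha e1 (IsPullback.of_hasPullback _ _),
    of_factor @Flat hb e2 (IsPullback.of_hasPullback _ _), (hm.pushed ψ).lfp, (hm.pushed ψ).sq⟩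

include hc in
/-- An invertible module on the base change to the limit comes from an invertible module at a stage. -/
theorem exists_invertible_stage {l : I} {Q P : Scheme.{u}} (pl : Q ⟶ D.obj l) [QuasiCompact pl]
    [QuasiSeparated pl] {qP : P ⟶ Q} {fP : P ⟶ c.pt} (hP : IsPullback qP fP pl (c.π.app l))
    (L : P.Modules) (hL : PicF.IsInvertible L) :
    ∃ (n : Over l) (Ln : (pullback pl (D.map n.hom)).Modules), PicF.IsInvertible Ln ∧
      Nonempty ((Scheme.Modules.pullback (MorLib.BC.proj D pl hP n)).obj Ln ≅ L) := by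
  haveI : CompactSpace ↥Q := QuasiCompact.compactSpace_of_compactSpace pl
  haveI : QuasiSeparatedSpace ↥Q := quasiSeparatedSpace_of_quasiSeparated pl
  let DX := MorLib.BC.diag D pl
  let cX := MorLib.BC.cone D pl hP
  have hcX : IsLimit cX := MorLib.BC.isLimitCone D pl hP hc
  haveI : ∀ (a b : Over l) (t : a ⟶ b), IsAffineHom (DX.map t) := fun a b t => inferInstance
  haveI : ∀ a : Over l, CompactSpace (DX.obj a) := fun a => MorLib.BC.compactSpace_obj D pl a
  haveI : ∀ a : Over l, QuasiSeparatedSpace (DX.obj a) := fun a => MorLib.BC.quasiSeparatedSpace_obj D pl a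
  obtain ⟨Li, hLi, ⟨eL⟩⟩ := H23.PicInv.exists_inverse hL
  have hfp : ∀ {M : P.Modules}, PicF.IsInvertible M → CohB1.IsFP M := fun h =>
    QCoh.isFP_of_isFinLocFree (H23.PullPush.isFinLocFree_of_isInvertible h)
  obtain ⟨o, -, Lo, hLo, ⟨θL⟩⟩ := LimMod.exists_module_descend DX cX hcX (i := Over.mk (𝟙 l)) (F := L) (hfp hL)
  obtain ⟨m, φm, Em, hEm, ⟨θE⟩⟩ := LimMod.exists_module_descend DX cX hcX (i := o) (F := Li) (hfp hLi)
  let Lm := (Scheme.Modules.pullback (DX.map φm)).obj Lo
  have hLm : CohB1.IsFP Lm := ModStLib.isFP_pullback _ hLo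
  let θm : (Scheme.Modules.pullback (cX.π.app m)).obj Lm ≅ L :=
    (Scheme.Modules.pullbackComp _ _).app Lo ≪≫ (Scheme.Modules.pullbackCongr (cX.w φm)).app Lo ≪≫ θL
  obtain ⟨pt⟩ := H23.PicMul.pull (cX.π.app m) Lm Em
  obtain ⟨po⟩ := PicClLib.nonempty_pullback_structureModule (cX.π.app m)
  obtain ⟨n, φn, ⟨eN⟩⟩ := LimMod.exists_iso_stage DX cX hcX (HilbSnap.isFP_tensor hLm hEm)
    (QCoh.isFP_of_isFinLocFree (H23.PullPush.isFinLocFree_of_isInvertible
      (InvX.isInvertible_structureModule (X := DX.obj m))))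
    (pt ≪≫ PicGrp.tensorModIso θm θE ≪≫ eL ≪≫ po.symm)
  obtain ⟨pn⟩ := H23.PicMul.pull (DX.map φn) Lm Em
  obtain ⟨pn₀⟩ := PicClLib.nonempty_pullback_structureModule (DX.map φn)
  exact ⟨n, (Scheme.Modules.pullback (DX.map φn)).obj Lm,
    HilbSnap.isInvertible_of_tensor_inverse (ModStLib.isFP_pullback _ hLm) (pn.symm ≪≫ eN ≪≫ pn₀),
    ⟨(Scheme.Modules.pullbackComp _ _).app Lm ≪≫ (Scheme.Modules.pullbackCongr (cX.w φn)).app Lm ≪≫ θm⟩⟩

include hc in
/-- Two proper flat morphisms to the limit and an invertible module on their product come from a stage. -/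
theorem exists_model₂_lim [∀ a : I, IsNoetherian (D.obj a)] {X Y : Scheme.{u}} (pX : X ⟶ c.pt) (pY : Y ⟶ c.pt)
    [IsProper pX] [Flat pX] [LocallyOfFinitePresentation pX]
    [IsProper pY] [Flat pY] [LocallyOfFinitePresentation pY]
    (L : (pullback pX pY).Modules) (hL : PicF.IsInvertible L) :
    ∃ (S₀ X₀ Y₀ : Scheme.{u}) (π : c.pt ⟶ S₀) (u₀ : X₀ ⟶ S₀) (v₀ : Y₀ ⟶ S₀) (qX : X ⟶ X₀) (qY : Y ⟶ Y₀)
      (hX : IsPullback qX pX u₀ π) (hY : IsPullback qY pY v₀ π) (L₀ : (pullback u₀ v₀).Modules),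
      IsNoetherian S₀ ∧ IsProper u₀ ∧ Flat u₀ ∧ IsProper v₀ ∧ Flat v₀ ∧ PicF.IsInvertible L₀ ∧
        Nonempty ((Scheme.Modules.pullback
          (pullback.map pX pY u₀ v₀ qX qY π hX.w.symm hY.w.symm)).obj L₀ ≅ L) := by
  obtain ⟨i, hi⟩ := exists_proper_flat_stage hc pX
  obtain ⟨j, hj⟩ := exists_proper_flat_stage hc pY
  obtain ⟨l, ψ, χ, -⟩ := IsCofilteredOrEmpty.cone_objs i j
  obtain ⟨X₁, u, qu, _, _, _, hXu⟩ := hi l ψ
  obtain ⟨Y₁, v, qv, _, _, _, hYv⟩ := hj l χ
  let pl : pullback u v ⟶ D.obj l := pullback.fst u v ≫ u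
  have hP : IsPullback (pullback.map pX pY u v qu qv _ hXu.w.symm hYv.w.symm) (pullback.fst pX pY ≫ pX) pl
      (c.π.app l) := isPullback_prod hXu hYv
  obtain ⟨n, Ln, hLn, ⟨θ⟩⟩ := exists_invertible_stage hc pl hP L hL
  let t : D.obj n.left ⟶ D.obj l := D.map n.hom
  have hπ : c.π.app n.left ≫ t = c.π.app l := c.w n.hom
  let qX : X ⟶ pullback u t := pullback.lift qu (pX ≫ c.π.app n.left)
    (by rw [Category.assoc, hπ]; exact hXu.w)
  let qY : Y ⟶ pullback v t := pullback.lift qv (pY ≫ c.π.app n.left)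
    (by rw [Category.assoc, hπ]; exact hYv.w)
  have hqX : IsPullback qX pX (pullback.snd u t) (c.π.app n.left) := by
    refine IsPullback.of_right ?_ (pullback.lift_snd _ _ _) (IsPullback.of_hasPullback u t)
    rw [pullback.lift_fst, hπ]
    exact hXu
  have hqY : IsPullback qY pY (pullback.snd v t) (c.π.app n.left) := by
    refine IsPullback.of_right ?_ (pullback.lift_snd _ _ _) (IsPullback.of_hasPullback v t)
    rw [pullback.lift_fst, hπ]
    exact hYv
  let w : pullback (pullback.snd u t) (pullback.snd v t) ⟶ pullback pl t :=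
    pullback.lift (prodBC u v t) (pullback.fst _ _ ≫ pullback.snd u t) (by
      rw [Category.assoc]; exact prodBC_condition u v t)
  have hw : pullback.map pX pY (pullback.snd u t) (pullback.snd v t) qX qY _ hqX.w.symm hqY.w.symm ≫ w =
      MorLib.BC.proj D pl hP n := by
    refine pullback.hom_ext ?_ ?_
    · rw [Category.assoc, pullback.lift_fst, MorLib.BC.proj_fst]
      refine pullback.hom_ext ?_ ?_
      · exact (Category.assoc _ _ _).trans ((congrArg (_ ≫ ·) (pullback.lift_fst _ _ _)).trans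
          ((Category.assoc _ _ _).symm.trans ((congrArg (· ≫ pullback.fst u t) (pullback.lift_fst _ _ _)).trans
            ((Category.assoc _ _ _).trans ((congrArg (_ ≫ ·) (pullback.lift_fst _ _ _)).trans
              (pullback.lift_fst _ _ _).symm)))))
      · exact (Category.assoc _ _ _).trans ((congrArg (_ ≫ ·) (pullback.lift_snd _ _ _)).trans
          ((Category.assoc _ _ _).symm.trans ((congrArg (· ≫ pullback.fst v t) (pullback.lift_snd _ _ _)).trans
            ((Category.assoc _ _ _).trans ((congrArg (_ ≫ ·) (pullback.lift_fst _ _ _)).trans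
              (pullback.lift_snd _ _ _).symm)))))
    · refine (Category.assoc _ _ _).trans ((congrArg (_ ≫ ·) (pullback.lift_snd _ _ _)).trans
        (Eq.trans ?_ (MorLib.BC.proj_snd D pl hP n).symm))
      exact (Category.assoc _ _ _).symm.trans ((congrArg (· ≫ pullback.snd u t) (pullback.lift_fst _ _ _)).trans
        ((Category.assoc _ _ _).trans ((congrArg (_ ≫ ·) (pullback.lift_snd _ _ _)).trans
          (Category.assoc _ _ _).symm)))
  exact ⟨D.obj n.left, _, _, c.π.app n.left, pullback.snd u t, pullback.snd v t, qX, qY, hqX, hqY,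
    (Scheme.Modules.pullback w).obj Ln, inferInstance, inferInstance, inferInstance, inferInstance, inferInstance,
    PicClLib.isInvertible_pullback _ hLn,
    ⟨(Scheme.Modules.pullbackComp _ _).app Ln ≪≫ (Scheme.Modules.pullbackCongr hw).app Ln ≪≫ θ⟩⟩

end Stage

/-- Two proper flat morphisms to an affine scheme and an invertible module on their product come from a
noetherian affine base. -/
theorem exists_model₂ {S X Y : Scheme.{u}} [IsAffine S] (pX : X ⟶ S) (pY : Y ⟶ S)
    [IsProper pX] [Flat pX] [LocallyOfFinitePresentation pX]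
    [IsProper pY] [Flat pY] [LocallyOfFinitePresentation pY]
    (L : (pullback pX pY).Modules) (hL : PicF.IsInvertible L) :
    ∃ (S₀ X₀ Y₀ : Scheme.{u}) (π : S ⟶ S₀) (u₀ : X₀ ⟶ S₀) (v₀ : Y₀ ⟶ S₀) (qX : X ⟶ X₀) (qY : Y ⟶ Y₀)
      (hX : IsPullback qX pX u₀ π) (hY : IsPullback qY pY v₀ π) (L₀ : (pullback u₀ v₀).Modules),
      IsNoetherian S₀ ∧ IsProper u₀ ∧ Flat u₀ ∧ IsProper v₀ ∧ Flat v₀ ∧ PicF.IsInvertible L₀ ∧
        Nonempty ((Scheme.Modules.pullback
          (pullback.map pX pY u₀ v₀ qX qY π hX.w.symm hY.w.symm)).obj L₀ ≅ L) := by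
  let A : CommRingCat.{u} := Γ(S, ⊤)
  let c := NoethApprox.cone A
  let e : S ≅ c.pt := S.isoSpec
  haveI : ∀ {a b : (Finset A)ᵒᵖ} (t : a ⟶ b), IsAffineHom ((NoethApprox.diagram A).map t) := fun t =>
    NoethApprox.isAffineHom_map A t
  haveI : ∀ a, IsAffine ((NoethApprox.diagram A).obj a) := fun a => NoethApprox.isAffine_obj A a
  haveI : ∀ a, IsNoetherian ((NoethApprox.diagram A).obj a) := fun a => NoethApprox.isNoetherian_obj A a
  let pX' : X ⟶ c.pt := pX ≫ e.hom
  let pY' : Y ⟶ c.pt := pY ≫ e.hom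
  let j : pullback pX' pY' ⟶ pullback pX pY := pullback.lift (pullback.fst pX' pY') (pullback.snd pX' pY')
    (by rw [← cancel_mono e.hom, Category.assoc, Category.assoc]; exact pullback.condition)
  let k : pullback pX pY ⟶ pullback pX' pY' := pullback.lift (pullback.fst pX pY) (pullback.snd pX pY)
    (by rw [← Category.assoc, ← Category.assoc, pullback.condition])
  have hkj : k ≫ j = 𝟙 _ := by ext <;> simp [k, j]
  obtain ⟨S₀, X₀, Y₀, π, u₀, v₀, qX, qY, hX, hY, L₀, h1, h2, h3, h4, h5, h6, ⟨θ⟩⟩ :=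
    exists_model₂_lim (NoethApprox.isLimit A) pX' pY' ((Scheme.Modules.pullback j).obj L)
      (PicClLib.isInvertible_pullback _ hL)
  have hX' : IsPullback qX pX u₀ (e.hom ≫ π) :=
    hX.of_iso (Iso.refl _) (Iso.refl _) e.symm (Iso.refl _) (by simp) (by simp [pX']) (by simp) (by simp)
  have hY' : IsPullback qY pY v₀ (e.hom ≫ π) :=
    hY.of_iso (Iso.refl _) (Iso.refl _) e.symm (Iso.refl _) (by simp) (by simp [pY']) (by simp) (by simp)
  refine ⟨S₀, X₀, Y₀, e.hom ≫ π, u₀, v₀, qX, qY, hX', hY', L₀, h1, h2, h3, h4, h5, h6, ⟨?_⟩⟩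
  have hk : k ≫ pullback.map pX' pY' u₀ v₀ qX qY π hX.w.symm hY.w.symm =
      pullback.map pX pY u₀ v₀ qX qY (e.hom ≫ π) hX'.w.symm hY'.w.symm := by
    ext <;> simp [k]
  exact ((Scheme.Modules.pullbackComp _ _).app L₀ ≪≫ (Scheme.Modules.pullbackCongr hk).app L₀).symm ≪≫
    (Scheme.Modules.pullback k).mapIso θ ≪≫ (Scheme.Modules.pullbackComp _ _).app L ≪≫
      (Scheme.Modules.pullbackCongr hkj).app L ≪≫ (Scheme.Modules.pullbackId _).app L

end Groth.Agent.RelCube
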