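import Groth.Agent.RelCube.Group

/-!
The Mumford bundle of a module is trivial relative to a connected base once it is trivial on one fibre.
-/

set_option autoImplicit false
universe u
open CategoryTheory CategoryTheory.Limits MonoidalCategory CartesianMonoidalCategory MonObj GrpObj AlgebraicGeometry
open Groth.Agent.H23 Groth.Agent.H23.TrivBasic Groth.Agent.H23.SeesawGlobal

set_option backward.isDefEq.respectTransparency false
set_option backward.isDefEq.respectTransparency.types false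
set_option maxHeartbeats 1000000
set_option linter.style.haveILetI false

open scoped Groth.Agent.H23.PicMul

namespace Groth.Agent.RelCube

/-- An invertible module over a scheme with one point is trivial. -/
theorem triv_of_subsingleton {P : Scheme.{u}} [Subsingleton P] [Nonempty P] {M : P.Modules}
    (hM : PicF.IsInvertible M) : Triv M := by
  obtain ⟨U, hU, e, he⟩ := InvX.exists_frame hM (Classical.arbitrary P)
  have h : (⊤ : P.Opens) ≤ U := fun w _ => by rw [Subsingleton.elim w (Classical.arbitrary P)]; exact hU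
  exact triv_of_frame (he.res h)

section
variable {S : Scheme.{u}} {X T : Over S} [GrpObj X] [IsProper X.hom] [Flat X.hom] [GeometricallyIntegral X.hom]

variable (X T) in
/-- The structure map of the relative group over `T`. -/
noncomputable abbrev sX : (X ⊗ T).left ⟶ T.left := (snd X T).left

variable (X T) in
/-- The fibre square of the relative group, over the original base. -/
noncomputable abbrev sq : Over S := Over.mk (pullback.fst (sX X T) (sX X T) ≫ (X ⊗ T).hom)

variable (X T) in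
/-- The first projection of the square. -/
noncomputable abbrev sq₁ : sq X T ⟶ X ⊗ T := Over.homMk (pullback.fst (sX X T) (sX X T)) rfl

variable (X T) in
/-- The second projection of the square. -/
noncomputable abbrev sq₂ : sq X T ⟶ X ⊗ T := Over.homMk (pullback.snd (sX X T) (sX X T)) (by
  show pullback.snd (sX X T) (sX X T) ≫ (X ⊗ T).hom = pullback.fst (sX X T) (sX X T) ≫ (X ⊗ T).hom
  rw [← Over.w (snd X T)]
  exact (Category.assoc _ _ _).symm.trans
    ((congrArg (· ≫ T.hom) pullback.condition.symm).trans (Category.assoc _ _ _)))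

variable (X T) in
/-- The comparison with the triple product. -/
noncomputable abbrev sqMap : sq X T ⟶ (X ⊗ X) ⊗ T :=
  CartesianMonoidalCategory.lift (CartesianMonoidalCategory.lift (sq₁ X T ≫ fst X T) (sq₂ X T ≫ fst X T))
    (sq₁ X T ≫ snd X T)

omit [GrpObj X] [IsProper X.hom] [Flat X.hom] [GeometricallyIntegral X.hom] in
theorem sq_cond : sq₁ X T ≫ snd X T = sq₂ X T ≫ snd X T := by
  apply Over.OverMorphism.ext
  exact pullback.condition

omit [GrpObj X] [IsProper X.hom] [Flat X.hom] [GeometricallyIntegral X.hom] in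
theorem sqMap_retraction : ∃ Ψ : (X ⊗ X) ⊗ T ⟶ sq X T, Ψ ≫ sqMap X T = 𝟙 _ := by
  let a : (X ⊗ X) ⊗ T ⟶ X ⊗ T := fst X X ▷ T
  let b : (X ⊗ X) ⊗ T ⟶ X ⊗ T := snd X X ▷ T
  have hab : a.left ≫ sX X T = b.left ≫ sX X T := by
    rw [← Over.comp_left, ← Over.comp_left, whiskerRight_snd, whiskerRight_snd]
  let Ψ : (X ⊗ X) ⊗ T ⟶ sq X T := Over.homMk (pullback.lift a.left b.left hab) (by
    show _ ≫ (pullback.fst (sX X T) (sX X T) ≫ (X ⊗ T).hom) = _
    rw [pullback.lift_fst_assoc, Over.w a])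
  have h1 : Ψ ≫ sq₁ X T = a := by
    apply Over.OverMorphism.ext
    exact pullback.lift_fst _ _ _
  have h2 : Ψ ≫ sq₂ X T = b := by
    apply Over.OverMorphism.ext
    exact pullback.lift_snd _ _ _
  refine ⟨Ψ, ?_⟩
  apply CartesianMonoidalCategory.hom_ext
  · rw [Category.assoc, lift_fst, Category.id_comp]
    apply CartesianMonoidalCategory.hom_ext
    · rw [Category.assoc, lift_fst, ← Category.assoc, h1, whiskerRight_fst]
    · rw [Category.assoc, lift_snd, ← Category.assoc, h2, whiskerRight_fst]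
  · rw [Category.assoc, lift_snd, ← Category.assoc, h1, whiskerRight_snd, Category.id_comp]

omit [IsProper X.hom] [Flat X.hom] [GeometricallyIntegral X.hom] in
theorem slice₁ (T : Over S) (σ : X ⊗ T ⟶ (X ⊗ X) ⊗ T)
    (h : σ = CartesianMonoidalCategory.lift (CartesianMonoidalCategory.lift 1 (fst X T)) (snd X T)) :
    σ ≫ μ[X] ▷ T = 𝟙 _ ∧
      σ ≫ fst X X ▷ T = snd X T ≫ CartesianMonoidalCategory.lift (toUnit T ≫ η[X]) (𝟙 T) ∧
      σ ≫ snd X X ▷ T = 𝟙 _ := by
  subst h
  refine ⟨?_, ?_, ?_⟩ <;> apply CartesianMonoidalCategory.hom_ext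
  · simp only [Category.assoc, whiskerRight_fst, lift_fst_assoc, Category.id_comp]
    exact one_mul (fst X T)
  · simp
  · simp
    rfl
  · simp
  · simp
  · simp

omit [IsProper X.hom] [Flat X.hom] [GeometricallyIntegral X.hom] in
theorem slice₂ (T : Over S) (σ : X ⊗ T ⟶ (X ⊗ X) ⊗ T)
    (h : σ = CartesianMonoidalCategory.lift (CartesianMonoidalCategory.lift (fst X T) 1) (snd X T)) :
    σ ≫ μ[X] ▷ T = 𝟙 _ ∧
      σ ≫ fst X X ▷ T = 𝟙 _ ∧
      σ ≫ snd X X ▷ T = snd X T ≫ CartesianMonoidalCategory.lift (toUnit T ≫ η[X]) (𝟙 T) := by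
  subst h
  refine ⟨?_, ?_, ?_⟩ <;> apply CartesianMonoidalCategory.hom_ext
  · simp only [Category.assoc, whiskerRight_fst, lift_fst_assoc, Category.id_comp]
    exact mul_one (fst X T)
  · simp
  · simp
  · simp
  · simp
    rfl
  · simp

variable [IsLocallyNoetherian T.left] [ConnectedSpace ↥T.left]

/-- Triviality of the Mumford bundle on one fibre gives its triviality relative to the base. -/
theorem mumford_of_fibre {L : (X ⊗ T).left.Modules} (hL : PicF.IsInvertible L) (t : ↥T.left)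
    (ht : PicMul.pullHom (pullback.fst (snd (X ⊗ X) T).left (T.left.fromSpecResidueField t))
          (PicMul.pullHom (μ[X] ▷ T).left (PicF.cl L)) =
        PicMul.pullHom (pullback.fst (snd (X ⊗ X) T).left (T.left.fromSpecResidueField t))
          (PicMul.pullHom (fst X X ▷ T).left (PicF.cl L) * PicMul.pullHom (snd X X ▷ T).left (PicF.cl L))) :
    PicMul.pullHom (μ[X] ▷ T).left (PicF.cl L) *
        PicMul.pullHom (snd (X ⊗ X) T).left
          (PicMul.pullHom (CartesianMonoidalCategory.lift (toUnit T ≫ η[X]) (𝟙 T)).left (PicF.cl L)) =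
      PicMul.pullHom (fst X X ▷ T).left (PicF.cl L) * PicMul.pullHom (snd X X ▷ T).left (PicF.cl L) := by
  let c := PicF.cl L
  have hc : PicF.IsInvertibleCl c := ⟨L, rfl, hL⟩
  let e : T ⟶ X ⊗ T := CartesianMonoidalCategory.lift (toUnit T ≫ η[X]) (𝟙 T)
  let n := PicMul.pullHom e.left c
  let lhs := PicMul.pullHom (μ[X] ▷ T).left c * PicMul.pullHom (snd (X ⊗ X) T).left n
  let rhs := PicMul.pullHom (fst X X ▷ T).left c * PicMul.pullHom (snd X X ▷ T).left c
  show lhs = rhs
  have hn : PicF.IsInvertibleCl n := PicClLib.isInvertibleCl_pullCl _ hc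
  have hlhs : PicF.IsInvertibleCl lhs :=
    PicMul.isInvertibleCl_mul (PicClLib.isInvertibleCl_pullCl _ hc) (PicClLib.isInvertibleCl_pullCl _ hn)
  have hrhs : PicF.IsInvertibleCl rhs :=
    PicMul.isInvertibleCl_mul (PicClLib.isInvertibleCl_pullCl _ hc) (PicClLib.isInvertibleCl_pullCl _ hc)
  obtain ⟨d, hd, hrd⟩ := exists_mul_eq_one hrhs
  refine eq_of_mul_inverse_eq_one hrd ?_
  obtain ⟨Ψ, hΨ⟩ := sqMap_retraction (X := X) (T := T)
  obtain ⟨M₀, hMcl, hM₀⟩ := PicMul.isInvertibleCl_mul hlhs hd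
  rw [← hMcl, CubeAb.cl_eq_one_iff]
  let Φ := sqMap X T
  let M := (Scheme.Modules.pullback Φ.left).obj M₀
  have hM : PicF.IsInvertible M := PicClLib.isInvertible_pullback _ hM₀
  suffices hMt : Triv M by
    have h := hMt.pullback Ψ.left
    rw [triv_comp_iff, ← Over.comp_left, hΨ] at h
    exact triv_id_iff.1 h
  haveI : IsProper (sX X T) := inferInstanceAs (IsProper (pullback.snd X.hom T.hom))
  haveI : Flat (sX X T) := inferInstanceAs (Flat (pullback.snd X.hom T.hom))
  haveI : GeometricallyIntegral (sX X T) := inferInstanceAs (GeometricallyIntegral (pullback.snd X.hom T.hom))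
  have hx : e.left ≫ sX X T = 𝟙 _ := by
    rw [← Over.comp_left, lift_snd]
    rfl
  let P := pullback.fst (sX X T) (sX X T) ≫ sX X T
  let σ₁ : X ⊗ T ⟶ sq X T := Over.homMk (sliceSndS (sX X T) (sX X T) e.left hx) (by
    show _ ≫ (pullback.fst (sX X T) (sX X T) ≫ (X ⊗ T).hom) = _
    rw [pullback.lift_fst_assoc, Category.assoc, Over.w e, Over.w (snd X T)])
  let σ₂ : X ⊗ T ⟶ sq X T := Over.homMk (sliceFstS (sX X T) (sX X T) e.left hx) (by
    show _ ≫ (pullback.fst (sX X T) (sX X T) ≫ (X ⊗ T).hom) = _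
    rw [pullback.lift_fst_assoc, Category.id_comp])
  have hσ₁₁ : σ₁ ≫ sq₁ X T = snd X T ≫ e := by
    apply Over.OverMorphism.ext
    exact pullback.lift_fst _ _ _
  have hσ₁₂ : σ₁ ≫ sq₂ X T = 𝟙 _ := by
    apply Over.OverMorphism.ext
    exact pullback.lift_snd _ _ _
  have hσ₂₁ : σ₂ ≫ sq₁ X T = 𝟙 _ := by
    apply Over.OverMorphism.ext
    exact pullback.lift_fst _ _ _
  have hσ₂₂ : σ₂ ≫ sq₂ X T = snd X T ≫ e := by
    apply Over.OverMorphism.ext
    exact pullback.lift_snd _ _ _
  have hslice : ∀ (σ : X ⊗ T ⟶ (X ⊗ X) ⊗ T),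
      σ ≫ μ[X] ▷ T = 𝟙 _ → σ ≫ snd (X ⊗ X) T = snd X T →
      ((σ ≫ fst X X ▷ T = snd X T ≫ e ∧ σ ≫ snd X X ▷ T = 𝟙 _) ∨
        (σ ≫ fst X X ▷ T = 𝟙 _ ∧ σ ≫ snd X X ▷ T = snd X T ≫ e)) →
      Triv ((Scheme.Modules.pullback σ.left).obj M₀) := by
    intro σ hm hs hab
    rw [← CubeAb.cl_eq_one_iff]
    show PicMul.pullHom σ.left (PicF.cl M₀) = 1
    rw [hMcl, map_mul]
    suffices h : PicMul.pullHom σ.left lhs = PicMul.pullHom σ.left rhs by
      rw [h, ← map_mul, hrd, map_one]
    simp only [lhs, rhs, n, map_mul, pull_F, hm, ← Category.assoc, hs]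
    rcases hab with ⟨ha, hb⟩ | ⟨ha, hb⟩ <;> rw [ha, hb] <;> ac_rfl
  have h₁ : Triv ((Scheme.Modules.pullback (sliceSndS (sX X T) (sX X T) e.left hx)).obj M) := by
    rw [triv_comp_iff]
    have h := slice₁ T (σ₁ ≫ Φ) (by
      simp [Φ, sqMap, reassoc_of% hσ₁₁, reassoc_of% hσ₁₂, e, MonObj.one_def]
      rfl)
    exact hslice (σ₁ ≫ Φ) h.1 (by simp [Φ, sqMap, reassoc_of% hσ₁₁, e]) (Or.inl h.2)
  have h₂ : Triv ((Scheme.Modules.pullback (sliceFstS (sX X T) (sX X T) e.left hx)).obj M) := by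
    rw [triv_comp_iff]
    have h := slice₂ T (σ₂ ≫ Φ) (by
      simp [Φ, sqMap, reassoc_of% hσ₂₁, reassoc_of% hσ₂₂, e, MonObj.one_def]
      rfl)
    exact hslice (σ₂ ≫ Φ) h.1 (by simp [Φ, sqMap, reassoc_of% hσ₂₁]) (Or.inr h.2)
  have hfib : Triv ((Scheme.Modules.pullback (P.fiberι t)).obj M) := by
    let j : pullback (snd (X ⊗ X) T).left (T.left.fromSpecResidueField t) ⟶ ((X ⊗ X) ⊗ T).left :=
      pullback.fst _ _
    have h0 : Triv ((Scheme.Modules.pullback j).obj M₀) := by
      rw [← CubeAb.cl_eq_one_iff]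
      show PicMul.pullHom j (PicF.cl M₀) = 1
      rw [hMcl, map_mul]
      suffices h : PicMul.pullHom j lhs = PicMul.pullHom j rhs by
        rw [h, ← map_mul, hrd, map_one]
      obtain ⟨N, hN, hNi⟩ := hn
      have htriv : PicMul.pullHom j (PicMul.pullHom (snd (X ⊗ X) T).left n) = 1 := by
        rw [← hN]
        show PicF.pullCl j (PicF.pullCl (snd (X ⊗ X) T).left (PicF.cl N)) = 1
        rw [PicClLib.pullCl_comp j (snd (X ⊗ X) T).left (PicF.cl N), pullback.condition, ← PicClLib.pullCl_comp]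
        have h1 : PicF.pullCl (T.left.fromSpecResidueField t) (PicF.cl N) = 1 :=
          (CubeAb.cl_eq_one_iff _).2 (triv_of_subsingleton (PicClLib.isInvertible_pullback _ hNi))
        rw [h1]
        exact map_one (PicMul.pullHom _)
      show PicMul.pullHom j lhs = PicMul.pullHom j rhs
      simp only [lhs, _root_.map_mul]
      rw [htriv, _root_.mul_one]
      exact ht
    rw [triv_comp_iff]
    refine triv_of_factor (pullback.lift (P.fiberι t ≫ Φ.left) (pullback.snd P (T.left.fromSpecResidueField t)) ?_)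
      (pullback.lift_fst _ _ _) h0
    rw [Category.assoc, ← Over.comp_left, show Φ ≫ snd (X ⊗ X) T = sq₁ X T ≫ snd X T from lift_snd _ _]
    exact pullback.condition
  obtain ⟨W, hWc, htW, hW⟩ := cube_noetherian (sX X T) (sX X T) e.left hx e.left hx M hM h₁ h₂ t hfib
  have hWtop : W = ⊤ := by
    have : IsClopen (W : Set T.left) := ⟨hWc, W.isOpen⟩
    exact SetLike.coe_injective ((isClopen_iff.1 this).resolve_left (Set.Nonempty.ne_empty ⟨t, htW⟩))
  subst hWtop
  refine triv_id_iff.1 (triv_of_factor ((sq X T).left.topIso.inv) ?_ hW)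
  exact (Iso.inv_hom_id (Scheme.topIso _))

end

end Groth.Agent.RelCube
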