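import Groth.Agent.RelCube.Point
import Groth.Agent.H23.Rigid

/-!
The theorem of the cube near a point, over an arbitrary base, with hypotheses only on that point and on the
global functions of the factors.
-/

noncomputable section

set_option autoImplicit false
set_option linter.style.haveILetI false
set_option linter.unusedSectionVars false
set_option backward.isDefEq.respectTransparency false
set_option backward.isDefEq.respectTransparency.types false
set_option maxHeartbeats 1000000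

universe u

open CategoryTheory CategoryTheory.Limits AlgebraicGeometry TopologicalSpace
open Groth.Agent.H23 Groth.Agent.H23.TrivBasic Groth.Agent.H23.SeesawGlobal

open scoped Groth.Agent.H23.PicMul

attribute [-instance] CategoryTheory.catToReflQuiver

namespace Groth.Agent.RelCube

open Groth.Agent

/-- The global functions of every base change are those of the base. -/
def UH0 {X S : Scheme.{u}} (f : X ⟶ S) : Prop :=
  ∀ (T : Scheme.{u}) (t : T ⟶ S), Function.Bijective (pullback.snd f t).appTop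

theorem UH0.of_isPullback {X S P T : Scheme.{u}} {f : X ⟶ S} (hf : UH0 f) {a : P ⟶ X} {b : P ⟶ T}
    {t : T ⟶ S} (h : IsPullback a b f t) : Function.Bijective b.appTop := by
  rw [← h.isoPullback_hom_snd, Scheme.Hom.comp_appTop]
  exact (bijective_appTop_iso h.isoPullback).comp (hf T t)

theorem UH0.baseChange {X S T : Scheme.{u}} {f : X ⟶ S} (hf : UH0 f) (t : T ⟶ S) : UH0 (pullback.snd f t) :=
  fun _ t' => hf.of_isPullback
    ((IsPullback.of_hasPullback (pullback.snd f t) t').paste_horiz (IsPullback.of_hasPullback f t))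

theorem UH0.prod {X Y S : Scheme.{u}} {pX : X ⟶ S} {pY : Y ⟶ S} (hX : UH0 pX) (hY : UH0 pY) :
    UH0 (pullback.fst pX pY ≫ pX) := by
  intro T t
  let A := pullback (pullback.fst pX pY) (pullback.fst pX t)
  let a := pullback.fst (pullback.fst pX pY) (pullback.fst pX t)
  let b := pullback.snd (pullback.fst pX pY) (pullback.fst pX t)
  have h : IsPullback a b (pullback.fst pX pY) (pullback.fst pX t) := IsPullback.of_hasPullback _ _
  have hb : Function.Bijective b.appTop :=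
    hY.of_isPullback (h.paste_horiz (IsPullback.of_hasPullback pX pY).flip)
  have hp : IsPullback a (b ≫ pullback.snd pX t) (pullback.fst pX pY ≫ pX) t :=
    h.paste_vert (IsPullback.of_hasPullback pX t)
  rw [← hp.isoPullback_inv_snd, Scheme.Hom.comp_appTop, Scheme.Hom.comp_appTop]
  exact ((bijective_appTop_iso hp.isoPullback.symm).comp (hb.comp (hX T t)))

/-- Constancy of the functions on the fibre gives it for every point with values in a field. -/
theorem fieldH0_of_residue {X Y : Scheme.{u}} (f : X ⟶ Y) [QuasiCompact f] [QuasiSeparated f] (y : Y)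
    (h : Function.Bijective (pullback.snd f (Y.fromSpecResidueField y)).appTop) : FieldH0 f y := by
  intro K _ k hk
  subst hk
  let φ := Scheme.descResidueField (Scheme.stalkClosedPointTo k)
  let a := Y.fromSpecResidueField (k (IsLocalRing.closedPoint K))
  have hfac : Spec.map φ ≫ a = k := Scheme.descResidueField_stalkClosedPointTo_fromSpecResidueField K Y k
  let e : pullback f k ≅ pullback (pullback.snd f a) (Spec.map φ) :=
    pullback.congrHom rfl hfac.symm ≪≫ (pullbackLeftPullbackSndIso f a (Spec.map φ)).symm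
  have he : pullback.snd f k = e.hom ≫ pullback.snd (pullback.snd f a) (Spec.map φ) := by
    simp [e, pullback.congrHom, pullback.map, pullback.lift_snd, pullbackLeftPullbackSndIso_inv_snd_snd]
  have hv := Rigid.bijective_app_snd_of_bijective (pullback.snd f a) (Spec.map φ) h
  rw [he, Scheme.Hom.comp_appTop]
  exact (bijective_appTop_iso e).comp (hv ⊤)

section Model

variable {S S₁ P P₁ : Scheme.{u}} {p : P ⟶ S} {p₁ : P₁ ⟶ S₁} {Q : P ⟶ P₁} {π : S ⟶ S₁}

/-- Constancy of functions descends to the model. -/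
theorem fieldH0_model (h : IsPullback Q p p₁ π) [QuasiCompact p₁] [QuasiSeparated p₁] (s : S)
    (h0 : Function.Bijective (pullback.snd p (S.fromSpecResidueField s)).appTop) : FieldH0 p₁ (π s) := by
  refine fieldH0_of_residue p₁ _ ?_
  let a := S₁.fromSpecResidueField (π s)
  let v := pullback.snd p₁ a
  let φ := π.residueFieldMap s
  have h1 := (IsPullback.of_hasPullback p (S.fromSpecResidueField s)).paste_horiz h
  rw [← Scheme.Hom.SpecMap_residueFieldMap_fromSpecResidueField] at h1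
  have h2 := (IsPullback.of_hasPullback v (Spec.map φ)).paste_horiz (IsPullback.of_hasPullback p₁ a)
  let e := h1.isoIsPullback _ _ h2
  refine bijective_appTop_descend v φ.hom ?_
  have he : e.hom ≫ pullback.snd v (Spec.map φ) = pullback.snd p (S.fromSpecResidueField s) :=
    h1.isoIsPullback_hom_snd _ _ h2
  rw [← he, Scheme.Hom.comp_appTop] at h0
  exact (Function.Bijective.of_comp_iff' (bijective_appTop_iso e) _).1 h0

/-- Triviality on a fibre descends to the model. -/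
theorem fieldTriv_model (h : IsPullback Q p p₁ π) [IsProper p₁] (s : S)
    (h0 : FieldH0 p₁ (π s)) {L : P.Modules} {L₁ : P₁.Modules}
    (θ : (Scheme.Modules.pullback Q).obj L₁ ≅ L) (hL₁ : PicF.IsInvertible L₁) (hT : FieldTriv p L s) :
    FieldTriv p₁ L₁ (π s) := by
  refine (fieldTriv_iff_residueField _).2 ?_
  let a := S₁.fromSpecResidueField (π s)
  let v := pullback.snd p₁ a
  let φ := π.residueFieldMap s
  have h1 := (IsPullback.of_hasPullback p (S.fromSpecResidueField s)).paste_horiz h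
  rw [← Scheme.Hom.SpecMap_residueFieldMap_fromSpecResidueField] at h1
  have h2 := (IsPullback.of_hasPullback v (Spec.map φ)).paste_horiz (IsPullback.of_hasPullback p₁ a)
  let e := h1.isoIsPullback _ _ h2
  refine triv_descend v (h0 _ a (S₁.fromSpecResidueField_apply _ _)) φ.hom
    (PicClLib.isInvertible_pullback _ hL₁) ?_
  refine (triv_comp_iff _ _).2 (triv_of_factor e.inv (h1.isoIsPullback_inv_fst _ _ h2) ?_)
  exact (triv_comp_iff _ Q).1 (Triv.of_iso
    ((Scheme.Modules.pullback (pullback.fst p (S.fromSpecResidueField s))).mapIso θ.symm)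
    (hT _ _ (S.fromSpecResidueField_apply _ _)))

end Model

/-- A module trivial on both slices is the pullback of such a module from a noetherian base with sections. -/
theorem exists_cube_model_point {S X Y : Scheme.{u}} [IsAffine S] (pX : X ⟶ S) (pY : Y ⟶ S)
    [IsProper pX] [Flat pX] [LocallyOfFinitePresentation pX]
    [IsProper pY] [Flat pY] [LocallyOfFinitePresentation pY]
    (x : S ⟶ X) (hx : x ≫ pX = 𝟙 S) (y : S ⟶ Y) (hy : y ≫ pY = 𝟙 S)
    (L : (pullback pX pY).Modules) (hL : PicF.IsInvertible L)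
    (h₁ : Triv ((Scheme.Modules.pullback (sliceSndS pX pY x hx)).obj L))
    (h₂ : Triv ((Scheme.Modules.pullback (sliceFstS pX pY y hy)).obj L)) :
    ∃ (S₁ X₁ Y₁ : Scheme.{u}) (π : S ⟶ S₁) (pX₁ : X₁ ⟶ S₁) (pY₁ : Y₁ ⟶ S₁) (x₁ : S₁ ⟶ X₁)
      (hx₁ : x₁ ≫ pX₁ = 𝟙 S₁) (y₁ : S₁ ⟶ Y₁) (hy₁ : y₁ ≫ pY₁ = 𝟙 S₁)
      (Q : pullback pX pY ⟶ pullback pX₁ pY₁) (L₁ : (pullback pX₁ pY₁).Modules),
      IsLocallyNoetherian S₁ ∧ (IsProper pX₁ ∧ Flat pX₁) ∧
        (IsProper pY₁ ∧ Flat pY₁) ∧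
        (∃ qX : X ⟶ X₁, IsPullback qX pX pX₁ π) ∧ (∃ qY : Y ⟶ Y₁, IsPullback qY pY pY₁ π) ∧ IsPullback Q (pullback.fst pX pY ≫ pX) (pullback.fst pX₁ pY₁ ≫ pX₁) π ∧ PicF.IsInvertible L₁ ∧
        Triv ((Scheme.Modules.pullback (sliceSndS pX₁ pY₁ x₁ hx₁)).obj L₁) ∧
        Triv ((Scheme.Modules.pullback (sliceFstS pX₁ pY₁ y₁ hy₁)).obj L₁) ∧
        Nonempty ((Scheme.Modules.pullback Q).obj L₁ ≅ L) := by
  obtain ⟨S₀, X₀, Y₀, π₀, u₀, v₀, qX₀, qY₀, hX₀, hY₀, L₀, _, _, _, _, _, hL₀, ⟨θ⟩⟩ := exists_model₂ pX pY L hL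
  haveI : LocallyOfFinitePresentation u₀ := inferInstance
  haveI : LocallyOfFinitePresentation v₀ := inferInstance
  let τ : pullback u₀ v₀ ⟶ S₀ := pullback.fst u₀ v₀ ≫ u₀
  haveI : IsLocallyNoetherian (pullback u₀ v₀) := LocallyOfFiniteType.isLocallyNoetherian τ
  let π₁ : S ⟶ pullback u₀ v₀ := pullback.lift (x ≫ qX₀) (y ≫ qY₀) (by
    rw [Category.assoc, Category.assoc, hX₀.w, hY₀.w, reassoc_of% hx, reassoc_of% hy])
  have hπ₁ : π₁ ≫ τ = π₀ := by
    rw [pullback.lift_fst_assoc, Category.assoc, hX₀.w, reassoc_of% hx]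
  obtain ⟨x₁, qX, hx₁, hX₁, hqXf, hxc⟩ :=
    universal_section hX₀ x hx τ (pullback.fst u₀ v₀) rfl π₁ hπ₁ (pullback.lift_fst _ _ _)
  obtain ⟨y₁, qY, hy₁, hY₁, hqYf, hyc⟩ :=
    universal_section hY₀ y hy τ (pullback.snd u₀ v₀) pullback.condition.symm π₁ hπ₁ (pullback.lift_snd _ _ _)
  let pX₁ := pullback.snd u₀ τ
  let pY₁ := pullback.snd v₀ τ
  let Q : pullback pX pY ⟶ pullback pX₁ pY₁ := pullback.map pX pY pX₁ pY₁ qX qY π₁ hX₁.w.symm hY₁.w.symm
  let m : pullback pX₁ pY₁ ⟶ pullback u₀ v₀ :=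
    pullback.map pX₁ pY₁ u₀ v₀ (pullback.fst u₀ τ) (pullback.fst v₀ τ) τ
      pullback.condition.symm pullback.condition.symm
  have hQf : Q ≫ pullback.fst pX₁ pY₁ = pullback.fst pX pY ≫ qX := pullback.lift_fst _ _ _
  have hQs : Q ≫ pullback.snd pX₁ pY₁ = pullback.snd pX pY ≫ qY := pullback.lift_snd _ _ _
  have hQm : Q ≫ m = pullback.map pX pY u₀ v₀ qX₀ qY₀ π₀ hX₀.w.symm hY₀.w.symm := by
    refine pullback.hom_ext ?_ ?_
    · rw [Category.assoc, pullback.lift_fst, reassoc_of% hQf, hqXf]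
      exact (pullback.lift_fst _ _ _).symm
    · rw [Category.assoc, pullback.lift_snd, reassoc_of% hQs, hqYf]
      exact (pullback.lift_snd _ _ _).symm
  let c := PicMul.pullHom m (PicF.cl L₀)
  have hcQ : PicMul.pullHom Q c = PicF.cl L := by
    refine (pull_pull _ _ _).trans ?_
    rw [hQm]
    exact PicMul.cl_eq_iff.2 ⟨θ⟩
  have hc : PicF.IsInvertibleCl c := PicClLib.isInvertibleCl_pullCl _ ⟨L₀, rfl, hL₀⟩
  obtain ⟨c', ⟨L₁, hcl, hL₁⟩, hs₁, hs₂, hQ⟩ := exists_normalised pX₁ pY₁ x₁ hx₁ y₁ hy₁ hc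
  have hfx : sliceSndS pX pY x hx ≫ Q = qY ≫ sliceSndS pX₁ pY₁ x₁ hx₁ := by
    refine pullback.hom_ext ?_ ?_
    · rw [Category.assoc, hQf, pullback.lift_fst_assoc, Category.assoc, hxc, Category.assoc, pullback.lift_fst,
        reassoc_of% hY₁.w]
    · rw [Category.assoc, hQs, pullback.lift_snd_assoc, Category.id_comp, Category.assoc, pullback.lift_snd,
        Category.comp_id]
  have hfy : sliceFstS pX pY y hy ≫ Q = qX ≫ sliceFstS pX₁ pY₁ y₁ hy₁ := by
    refine pullback.hom_ext ?_ ?_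
    · rw [Category.assoc, hQf, pullback.lift_fst_assoc, Category.id_comp, Category.assoc, pullback.lift_fst,
        Category.comp_id]
    · rw [Category.assoc, hQs, pullback.lift_snd_assoc, Category.assoc, hyc, Category.assoc, pullback.lift_snd,
        reassoc_of% hX₁.w]
  have ht₁ : PicMul.pullHom (sliceSndS pX pY x hx ≫ Q) c = 1 := by
    rw [← pull_pull, hcQ]
    exact (CubeAb.cl_eq_one_iff _).2 h₁
  have ht₂ : PicMul.pullHom (sliceFstS pX pY y hy ≫ Q) c = 1 := by
    rw [← pull_pull, hcQ]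
    exact (CubeAb.cl_eq_one_iff _).2 h₂
  have hQ' : PicMul.pullHom Q c' = PicMul.pullHom Q c := by
    refine hQ Q ?_ ?_ ?_
    · rw [reassoc_of% hQs, ← hfx, ← pull_pull (pullback.snd pX pY), ht₁, map_one]
    · rw [reassoc_of% hQf, ← hfy, ← pull_pull (pullback.fst pX pY), ht₂, map_one]
    · rw [reassoc_of% hQf, hX₁.w, ← Category.assoc (pullback.fst pX pY), Category.assoc _ π₁, ← reassoc_of% hxc,
        ← hfy, ← pull_pull (pullback.fst pX pY ≫ pX), ← pull_pull x, ht₂, map_one, map_one]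
  refine ⟨_, _, _, π₁, pX₁, pY₁, x₁, hx₁, y₁, hy₁, Q, L₁, inferInstance, ⟨inferInstance, inferInstance⟩,
    ⟨inferInstance, inferInstance⟩, ⟨qX, hX₁⟩, ⟨qY, hY₁⟩, isPullback_prod hX₁ hY₁, hL₁, ?_, ?_, ?_⟩
  · refine (CubeAb.cl_eq_one_iff _).1 ?_
    show PicMul.pullHom _ (PicF.cl L₁) = 1
    rw [hcl]; exact hs₁
  · refine (CubeAb.cl_eq_one_iff _).1 ?_
    show PicMul.pullHom _ (PicF.cl L₁) = 1
    rw [hcl]; exact hs₂
  · refine PicMul.cl_eq_iff.1 ?_
    show PicMul.pullHom Q (PicF.cl L₁) = PicF.cl L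
    rw [hcl, hQ', hcQ]

section

variable {S X Y : Scheme.{u}} (pX : X ⟶ S) (pY : Y ⟶ S)
  [IsProper pX] [Flat pX] [LocallyOfFinitePresentation pX]
  [IsProper pY] [Flat pY] [LocallyOfFinitePresentation pY]
  (x : S ⟶ X) (hx : x ≫ pX = 𝟙 S) (y : S ⟶ Y) (hy : y ≫ pY = 𝟙 S)

include hx hy in
theorem frame_near_affine [IsAffine S] (L : (pullback pX pY).Modules) (hL : PicF.IsInvertible L)
    (h₁ : Triv ((Scheme.Modules.pullback (sliceSndS pX pY x hx)).obj L))
    (h₂ : Triv ((Scheme.Modules.pullback (sliceFstS pX pY y hy)).obj L))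
    (hX : UH0 pX) (hY : UH0 pY) (s : S) (hT : FieldTriv (pullback.fst pX pY ≫ pX) L s) :
    ∃ V : S.Opens, s ∈ V ∧ ∃ e : Γ(L, (pullback.fst pX pY ≫ pX) ⁻¹ᵁ V), InvX.IsFrame e := by
  obtain ⟨S₁, X₁, Y₁, π, pX₁, pY₁, x₁, hx₁, y₁, hy₁, Q, L₁, _, ⟨_, _⟩, ⟨_, _⟩, hX₁, hY₁, hQ, hL₁, hs₁, hs₂, ⟨θ⟩⟩ :=
    exists_cube_model_point pX pY x hx y hy L hL h₁ h₂
  let p := pullback.fst pX pY ≫ pX
  let p₁ := pullback.fst pX₁ pY₁ ≫ pX₁
  obtain ⟨qX, hX₁⟩ := hX₁
  obtain ⟨qY, hY₁⟩ := hY₁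
  have h0p := fieldH0_model hQ s ((hX.prod hY) _ _)
  obtain ⟨V, hV, e, he⟩ := exists_frame_near_point pX₁ pY₁ x₁ hx₁ y₁ hy₁ L₁ hL₁ hs₁ hs₂ (π s)
    (fieldH0_model hX₁ s (hX _ _)) (fieldH0_model hY₁ s (hY _ _)) h0p
    (fieldTriv_model hQ s h0p θ hL₁ hT)
  have hle : p ⁻¹ᵁ (π ⁻¹ᵁ V) ≤ Q ⁻¹ᵁ (p₁ ⁻¹ᵁ V) := by
    rw [← Scheme.Hom.comp_preimage, ← Scheme.Hom.comp_preimage]
    exact le_of_eq (congrArg (· ⁻¹ᵁ V) hQ.w).symm
  exact ⟨π ⁻¹ᵁ V, hV, _, ((InvX.isFrame_pullElt Q he).res hle).map_iso θ⟩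

include hx hy in
/-- The theorem of the cube near one point. -/
theorem frame_near (L : (pullback pX pY).Modules) (hL : PicF.IsInvertible L)
    (h₁ : Triv ((Scheme.Modules.pullback (sliceSndS pX pY x hx)).obj L))
    (h₂ : Triv ((Scheme.Modules.pullback (sliceFstS pX pY y hy)).obj L))
    (hX : UH0 pX) (hY : UH0 pY) (v : S) (hv : FieldTriv (pullback.fst pX pY ≫ pX) L v) :
    ∃ V : S.Opens, v ∈ V ∧ ∃ e : Γ(L, (pullback.fst pX pY ≫ pX) ⁻¹ᵁ V), InvX.IsFrame e := by
  let p := pullback.fst pX pY ≫ pX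
  obtain ⟨V, hV', hvV, -⟩ := exists_isAffineOpen_mem_and_subset (x := v) (U := ⊤) trivial
  haveI : IsAffine V.toScheme := hV'
  have hsq : IsPullback (prodBC pX pY V.ι)
      (pullback.fst (pullback.snd pX V.ι) (pullback.snd pY V.ι) ≫ pullback.snd pX V.ι) p V.ι :=
    isPullback_prod (IsPullback.of_hasPullback pX V.ι) (IsPullback.of_hasPullback pY V.ι)
  have hs₁ : Triv ((Scheme.Modules.pullback (sliceSndS (pullback.snd pX V.ι) (pullback.snd pY V.ι)
      (pullback.lift (V.ι ≫ x) (𝟙 _) (by rw [Category.assoc, hx, Category.comp_id, Category.id_comp]))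
      (pullback.lift_snd _ _ _))).obj ((Scheme.Modules.pullback (prodBC pX pY V.ι)).obj L)) := by
    refine (triv_comp_iff _ _).2 (SeesawGlobal.triv_of_factor (pullback.fst pY V.ι) ?_ h₁)
    refine pullback.hom_ext ?_ ?_
    · simp only [Category.assoc, prodBC, pullback.map, pullback.lift_fst, sliceSndS,
        pullback.lift_fst_assoc]
      rw [pullback.condition_assoc]
    · simp only [Category.assoc, prodBC, pullback.map, pullback.lift_snd, sliceSndS,
        pullback.lift_snd_assoc, Category.comp_id, Category.id_comp]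
  have hs₂ : Triv ((Scheme.Modules.pullback (sliceFstS (pullback.snd pX V.ι) (pullback.snd pY V.ι)
      (pullback.lift (V.ι ≫ y) (𝟙 _) (by rw [Category.assoc, hy, Category.comp_id, Category.id_comp]))
      (pullback.lift_snd _ _ _))).obj ((Scheme.Modules.pullback (prodBC pX pY V.ι)).obj L)) := by
    refine (triv_comp_iff _ _).2 (SeesawGlobal.triv_of_factor (pullback.fst pX V.ι) ?_ h₂)
    refine pullback.hom_ext ?_ ?_
    · simp only [Category.assoc, prodBC, pullback.map, pullback.lift_fst, sliceFstS,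
        pullback.lift_fst_assoc, Category.comp_id, Category.id_comp]
    · simp only [Category.assoc, prodBC, pullback.map, pullback.lift_snd, sliceFstS,
        pullback.lift_snd_assoc]
      rw [pullback.condition_assoc]
      exact congrArg (_ ≫ ·) (pullback.lift_fst _ _ _).symm
  let pV := pullback.fst (pullback.snd pX V.ι) (pullback.snd pY V.ι) ≫ pullback.snd pX V.ι
  let G := prodBC pX pY V.ι
  obtain ⟨W, hwW, s, hs⟩ := frame_near_affine (pullback.snd pX V.ι) (pullback.snd pY V.ι)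
    (pullback.lift (V.ι ≫ x) (𝟙 _) (by rw [Category.assoc, hx, Category.comp_id, Category.id_comp]))
    (pullback.lift_snd _ _ _)
    (pullback.lift (V.ι ≫ y) (𝟙 _) (by rw [Category.assoc, hy, Category.comp_id, Category.id_comp]))
    (pullback.lift_snd _ _ _) _ (PicClLib.isInvertible_pullback _ hL) hs₁ hs₂ (hX.baseChange _) (hY.baseChange _)
    ⟨v, hvV⟩ (fieldTriv_of_model (Iso.refl _) (⟨v, hvV⟩ : V.toScheme) hv hsq.w)
  haveI : IsOpenImmersion G := MorphismProperty.of_isPullback hsq.flip (inferInstance : IsOpenImmersion V.ι)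
  let U := pV ⁻¹ᵁ W
  have hle : (⊤ : U.toScheme.Opens) ≤ U.ι ⁻¹ᵁ U := fun z _ => z.2
  have hT : Triv ((Scheme.Modules.pullback U.ι).obj ((Scheme.Modules.pullback G).obj L)) :=
    triv_of_frame ((InvX.isFrame_pullElt U.ι hs).res hle)
  obtain ⟨t, ht⟩ := SeesawGlobal.exists_frame_of_triv (U.ι ≫ G) ((triv_comp_iff U.ι G).1 hT)
  have hsub : p ⁻¹ᵁ (V.ι ''ᵁ W) ≤ (U.ι ≫ G).opensRange := by
    rintro z ⟨w, hw, hzw⟩
    obtain ⟨z', hz'⟩ : z ∈ Set.range G := by
      have hr : z ∈ Set.range (pullback.fst p V.ι) := by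
        rw [Scheme.Pullback.range_fst]
        exact ⟨w, hzw⟩
      obtain ⟨z₂, rfl⟩ := hr
      refine ⟨hsq.isoPullback.inv z₂, ?_⟩
      show G (hsq.isoPullback.inv z₂) = _
      rw [← Scheme.Hom.comp_apply, hsq.isoPullback_inv_fst]
    have hzW : z' ∈ U := by
      show pV z' ∈ W
      have h1 : V.ι (pV z') = p z := by rw [← hz', ← Scheme.Hom.comp_apply, ← hsq.w, Scheme.Hom.comp_apply]
      rw [V.ι.isOpenEmbedding.injective (h1.trans hzw.symm)]
      exact hw
    exact ⟨⟨z', hzW⟩, hz'⟩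
  exact ⟨V.ι ''ᵁ W, ⟨⟨v, hvV⟩, hwW, rfl⟩, _, ht.res hsub⟩

end

end Groth.Agent.RelCube
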