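import Groth.Agent.RelCube.SeesawGen
import Groth.Agent.RelCube.Mumford

/-!
The Picard group of a product with a factor without first cohomology.
-/

set_option autoImplicit false
set_option linter.style.haveILetI false
set_option linter.unusedSectionVars false
set_option backward.isDefEq.respectTransparency false
set_option backward.isDefEq.respectTransparency.types false
set_option maxHeartbeats 1000000

universe u

open CategoryTheory CategoryTheory.Limits AlgebraicGeometry
open Groth.Agent.H23 Groth.Agent.H23.TrivBasic Groth.Agent.H23.SeesawGlobal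

open scoped Groth.Agent.H23.PicMul

attribute [-instance] CategoryTheory.catToReflQuiver

namespace Groth.Agent.RelCube

open Groth.Agent

/-- Classes of invertible modules on a flat family with constant functions on the fibres are detected
after pullback. -/
theorem pullHom_injective {S P : Scheme.{u}} (f : P ⟶ S) [IsProper f] [Flat f] [LocallyOfFinitePresentation f]
    [GeometricallyIntegral f] {a b : PicF.Cl S} (ha : PicF.IsInvertibleCl a) (hb : PicF.IsInvertibleCl b)
    (h : PicMul.pullHom f a = PicMul.pullHom f b) : a = b := by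
  obtain ⟨d, hd, hbd⟩ := exists_mul_eq_one hb
  obtain ⟨M, hMcl, hM⟩ := PicMul.isInvertibleCl_mul ha hd
  refine eq_of_mul_inverse_eq_one hbd ?_
  rw [← hMcl, CubeAb.cl_eq_one_iff]
  refine triv_of_triv_pullback f hM ((CubeAb.cl_eq_one_iff _).1 ?_)
  show PicMul.pullHom f (PicF.cl M) = 1
  rw [hMcl, map_mul, h, ← map_mul, hbd, map_one]

variable {k : Type u} [Field k] {S T : Scheme.{u}} (s : S ⟶ Spec (CommRingCat.of k))
  (t : T ⟶ Spec (CommRingCat.of k)) [IsProper t] [GeometricallyIntegral t]

theorem noH1_prod (h1 : Subsingleton (Coh.HH T (Coh.structureModule T) 1)) (v : S) :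
    NoH1 (pullback.fst s t) (S.fromSpecResidueField v) := by
  let K := S.residueField v
  let k' := S.fromSpecResidueField v
  have h0 : NoH1 t (𝟙 (Spec (CommRingCat.of k))) :=
    subsingleton_HH_structure_iso t (pullback.fst t (𝟙 _)) h1
  obtain ⟨a, ha⟩ := Spec.map_surjective (k' ≫ s)
  have h2 : NoH1 t (k' ≫ s) := by
    have h3 := (noH1_comp_iff t a.hom (𝟙 _)).2 h0
    rwa [Category.comp_id, show Spec.map (CommRingCat.ofHom a.hom) = k' ≫ s from ha] at h3
  have sq : IsPullback (pullback.fst (pullback.fst s t) k' ≫ pullback.snd s t)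
      (pullback.snd (pullback.fst s t) k') t (k' ≫ s) :=
    (IsPullback.of_hasPullback (pullback.fst s t) k').paste_horiz (IsPullback.of_hasPullback s t).flip
  exact subsingleton_HH_structure_iso (pullback.snd t (k' ≫ s)) sq.isoPullback.hom h2

variable (σ : Spec (CommRingCat.of k) ⟶ S) (hσ : σ ≫ s = 𝟙 _)

/-- The fibre over the rational point. -/
noncomputable abbrev atPoint : T ⟶ pullback s t :=
  pullback.lift (t ≫ σ) (𝟙 T) (by rw [Category.assoc, hσ, Category.comp_id, Category.id_comp])

include hσ in
theorem exists_decomp [ConnectedSpace S] (h1 : Subsingleton (Coh.HH T (Coh.structureModule T) 1))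
    {c : PicF.Cl (pullback s t)} (hc : PicF.IsInvertibleCl c) :
    ∃ (a : PicF.Cl S) (b : PicF.Cl T), PicF.IsInvertibleCl a ∧ PicF.IsInvertibleCl b ∧
      c = PicMul.pullHom (pullback.fst s t) a * PicMul.pullHom (pullback.snd s t) b := by
  let j := atPoint s t σ hσ
  let q := pullback.snd s t
  let f := pullback.fst s t
  haveI : LocallyOfFinitePresentation t := inferInstance
  haveI : Flat t := inferInstance
  let b := PicMul.pullHom j c
  have hb : PicF.IsInvertibleCl b := PicClLib.isInvertibleCl_pullCl _ hc
  obtain ⟨d, hd, hbd⟩ := exists_mul_eq_one hb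
  obtain ⟨N, hN, hNi⟩ := PicMul.isInvertibleCl_mul hc (PicClLib.isInvertibleCl_pullCl q hd)
  have hj : Triv ((Scheme.Modules.pullback j).obj N) := by
    rw [← CubeAb.cl_eq_one_iff]
    show PicMul.pullHom j (PicF.cl N) = 1
    rw [hN, map_mul, show PicMul.pullHom j (PicF.pullCl q d) = d from by
      refine (PicClLib.pullCl_comp j q d).trans ?_
      rw [pullback.lift_snd]
      exact PicClLib.pullCl_id d]
    exact hbd
  have hfib : Triv ((Scheme.Modules.pullback (pullback.fst f σ)).obj N) := by
    refine SeesawGlobal.triv_of_factor (pullback.fst f σ ≫ q) ?_ hj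
    refine pullback.hom_ext ?_ ?_
    · rw [Category.assoc, pullback.lift_fst]
      calc (pullback.fst f σ ≫ q) ≫ t ≫ σ = pullback.fst f σ ≫ (q ≫ t) ≫ σ := by simp only [Category.assoc]
        _ = (pullback.fst f σ ≫ f) ≫ s ≫ σ := by
          rw [show q ≫ t = f ≫ s from pullback.condition.symm]; simp only [Category.assoc]
        _ = pullback.fst f σ ≫ f := by
          rw [pullback.condition, Category.assoc, reassoc_of% hσ]
    · rw [Category.assoc, pullback.lift_snd, Category.comp_id]
  obtain ⟨M, hM, ⟨e⟩⟩ := exists_iso_pullback f N hNi (noH1_prod s t h1)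
    (σ (IsLocalRing.closedPoint k)) σ rfl hfib
  refine ⟨PicF.cl M, b, ⟨M, rfl, hM⟩, hb, ?_⟩
  have he : PicMul.pullHom f (PicF.cl M) = c * PicMul.pullHom q d := by
    show PicF.cl ((Scheme.Modules.pullback f).obj M) = _
    rw [← PicMul.cl_eq_iff.2 ⟨e⟩, hN]
    rfl
  rw [he, _root_.mul_assoc, ← map_mul, mul_comm d, hbd, map_one, _root_.mul_one]

include hσ in
theorem decomp_unique {a a' : PicF.Cl S} {b b' : PicF.Cl T} (ha : PicF.IsInvertibleCl a)
    (ha' : PicF.IsInvertibleCl a') (hb : PicF.IsInvertibleCl b)
    (h : PicMul.pullHom (pullback.fst s t) a * PicMul.pullHom (pullback.snd s t) b =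
      PicMul.pullHom (pullback.fst s t) a' * PicMul.pullHom (pullback.snd s t) b') :
    a = a' ∧ b = b' := by
  let j := atPoint s t σ hσ
  haveI : LocallyOfFinitePresentation t := inferInstance
  haveI : Flat t := inferInstance
  have hone : ∀ {x : PicF.Cl S}, PicF.IsInvertibleCl x →
      PicMul.pullHom j (PicMul.pullHom (pullback.fst s t) x) = 1 := by
    intro x hx
    obtain ⟨R, rfl, hR⟩ := hx
    show PicF.pullCl j (PicF.pullCl (pullback.fst s t) (PicF.cl R)) = 1
    rw [PicClLib.pullCl_comp j (pullback.fst s t) (PicF.cl R), pullback.lift_fst, ← PicClLib.pullCl_comp]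
    have h1 : PicF.pullCl σ (PicF.cl R) = 1 :=
      (CubeAb.cl_eq_one_iff _).2 (triv_of_subsingleton (PicClLib.isInvertible_pullback _ hR))
    rw [h1]
    exact map_one (PicMul.pullHom t)
  have hq : ∀ y : PicF.Cl T, PicMul.pullHom j (PicMul.pullHom (pullback.snd s t) y) = y := fun y => by
    refine (PicClLib.pullCl_comp j (pullback.snd s t) y).trans ?_
    rw [pullback.lift_snd]
    exact PicClLib.pullCl_id y
  have hbb : b = b' := by
    have h' := congrArg (PicMul.pullHom j) h
    simpa only [map_mul, hone ha, hone ha', hq, _root_.one_mul] using h'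
  subst hbb
  exact ⟨pullHom_injective (pullback.fst s t) ha ha'
    (cancel (PicClLib.isInvertibleCl_pullCl _ hb) h), rfl⟩

end Groth.Agent.RelCube
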