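import Groth.Agent.RelCube.PnFamily
import Groth.Agent.S3581

/-!
Invertible modules on projective space of relative dimension zero come from the base.
-/

set_option autoImplicit false
set_option linter.style.haveILetI false
set_option backward.isDefEq.respectTransparency false
set_option backward.isDefEq.respectTransparency.types false
set_option maxHeartbeats 1000000

universe u

open CategoryTheory CategoryTheory.Limits AlgebraicGeometry
open Groth.Agent.H23

open scoped Groth.Agent.H23.PicMul

attribute [-instance] CategoryTheory.catToReflQuiver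

namespace Groth.Agent.RelCube

open Groth.Agent

theorem exists_twist_decomp_zero (Y : Scheme.{u})
    {c : PicF.Cl (CohB1.ProjSpaceOver 0 Y)} (hc : PicF.IsInvertibleCl c) :
    ∃ (a : PicF.Cl Y) (d : ℤ), PicF.IsInvertibleCl a ∧
      c = PicMul.pullHom (CohB1.ProjSpaceOver.toBase 0 Y) a * PicF.cl (Twist.twistOver 0 Y d) := by
  haveI : IsIso (CohB1.ProjSpace.toSpec 0 (ULift.{u} ℤ)) := S3581.result _
  haveI : IsIso (CohB1.ProjSpaceOver.toBase 0 Y) := by
    unfold CohB1.ProjSpaceOver.toBase CohB1.ProjSpaceOver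
    infer_instance
  have hT : PicF.IsInvertibleCl (PicF.cl (Twist.twistOver 0 Y 0)) := ⟨_, rfl, isInvertible_twistOver 0 Y 0⟩
  obtain ⟨t, ht, htd⟩ := exists_mul_eq_one hT
  refine ⟨PicMul.pullHom (inv (CohB1.ProjSpaceOver.toBase 0 Y)) (c * t), 0,
    PicClLib.isInvertibleCl_pullCl _ (PicMul.isInvertibleCl_mul hc ht), ?_⟩
  rw [show PicMul.pullHom (CohB1.ProjSpaceOver.toBase 0 Y)
      (PicMul.pullHom (inv (CohB1.ProjSpaceOver.toBase 0 Y)) (c * t)) = c * t from by
    refine (PicClLib.pullCl_comp _ _ _).trans ?_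
    rw [IsIso.hom_inv_id]
    exact PicClLib.pullCl_id _]
  rw [_root_.mul_assoc, mul_comm t, htd, _root_.mul_one]

end Groth.Agent.RelCube
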