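import Groth.Agent.RelCube.General
import Groth.Agent.RelCube.FieldDesc

/-!
The theorem of the cube near one point, with hypotheses on that point only.
-/

set_option linter.style.haveILetI false
set_option linter.unusedSectionVars false
set_option maxHeartbeats 1000000

universe u

open CategoryTheory CategoryTheory.Limits AlgebraicGeometry TopologicalSpace Opposite

namespace Groth.Agent.RelCube

open Groth.Agent.H23 TrivBasic SeesawGlobal

/-- A section makes the map on global functions injective. -/
theorem injective_appTop_of_section {X S : Scheme.{u}} {f : X ⟶ S} (σ : S ⟶ X) (hσ : σ ≫ f = 𝟙 S) :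
    Function.Injective f.appTop := fun a b h => by
  have h1 : ∀ c, σ.appTop (f.appTop c) = c := fun c =>
    (ConcreteCategory.comp_apply f.appTop σ.appTop c).symm.trans
      (by rw [← Scheme.Hom.comp_appTop, hσ, Scheme.Hom.id_appTop]; rfl)
  rw [← h1 a, ← h1 b, h]

variable {S : Scheme.{u}} {X Y : Scheme.{u}} (pX : X ⟶ S) (pY : Y ⟶ S)
  [IsProper pX] [IsProper pY] [Flat pX] [Flat pY]
  (x : S ⟶ X) (hx : x ≫ pX = 𝟙 S) (y : S ⟶ Y) (hy : y ≫ pY = 𝟙 S)

include hx hy in
/-- A module trivial on the slices and on one fibre is trivial near that fibre. -/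
theorem exists_frame_near_point [IsLocallyNoetherian S] (L : (pullback pX pY).Modules) (hL : PicF.IsInvertible L)
    (h₁ : Triv ((Scheme.Modules.pullback (sliceSndS pX pY x hx)).obj L))
    (h₂ : Triv ((Scheme.Modules.pullback (sliceFstS pX pY y hy)).obj L))
    (z : S) (h0X : FieldH0 pX z) (h0Y : FieldH0 pY z) (h0p : FieldH0 (pullback.fst pX pY ≫ pX) z)
    (hT : FieldTriv (pullback.fst pX pY ≫ pX) L z) :
    ∃ V : S.Opens, z ∈ V ∧ ∃ s : Γ(L, (pullback.fst pX pY ≫ pX) ⁻¹ᵁ V), InvX.IsFrame s := by
  haveI : LocallyOfFinitePresentation pX := inferInstance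
  haveI : LocallyOfFinitePresentation pY := inferInstance
  let p := pullback.fst pX pY ≫ pX
  obtain ⟨A, _, _, g, _, a, rfl⟩ := exists_chart z
  haveI : (a : PrimeSpectrum A).asIdeal.IsPrime := PrimeSpectrum.isPrime a
  have h0 : FieldH0 p (g a) := h0p
  refine SeesawGlobal.exists_frame_of_thick p hL g a h0 hT fun n => ?_
  let B := SeesawMod.Thick a.asIdeal (n + 1)
  let m := IsLocalRing.maximalIdeal (Localization.AtPrime a.asIdeal)
  haveI : IsNoetherianRing (Localization.AtPrime a.asIdeal) :=
    IsLocalization.isNoetherianRing a.asIdeal.primeCompl _ inferInstance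
  haveI : Nontrivial B := Ideal.Quotient.nontrivial_iff.2 fun h =>
    (IsLocalRing.maximalIdeal.isMaximal (Localization.AtPrime a.asIdeal)).ne_top
      (top_le_iff.1 (h.ge.trans (Ideal.pow_le_self (Nat.succ_ne_zero n))))
  haveI : IsLocalRing B := IsLocalRing.of_surjective' (Ideal.Quotient.mk _) Ideal.Quotient.mk_surjective
  haveI : IsNoetherianRing B :=
    isNoetherianRing_of_surjective _ B (Ideal.Quotient.mk _) Ideal.Quotient.mk_surjective
  have hm : IsNilpotent (IsLocalRing.maximalIdeal B) := by
    refine ⟨n + 1, ?_⟩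
    rw [Submodule.zero_eq_bot, ← le_bot_iff,
      ← IsLocalRing.map_maximalIdeal_of_surjective (Ideal.Quotient.mk (m ^ (n + 1))) Ideal.Quotient.mk_surjective,
      ← Ideal.map_pow]
    exact (Ideal.map_quotient_self _).le
  let φ : B →+* IsLocalRing.ResidueField B := IsLocalRing.residue B
  have hφ : Function.Surjective φ := IsLocalRing.residue_surjective
  let t : Spec (CommRingCat.of B) ⟶ S := Seesaw.specAlg A B ≫ g
  let k : Spec (CommRingCat.of (IsLocalRing.ResidueField B)) ⟶ S := Spec.map (CommRingCat.ofHom φ) ≫ t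
  have hk : k (IsLocalRing.closedPoint (IsLocalRing.ResidueField B)) = g a := by
    show g (Spec.map (CommRingCat.ofHom (algebraMap A B)) (Spec.map (CommRingCat.ofHom φ)
      (IsLocalRing.closedPoint (IsLocalRing.ResidueField B)))) = g a
    congr 1
    refine PrimeSpectrum.ext (Ideal.ext fun c => ?_)
    show φ (algebraMap A B c) ∈ IsLocalRing.maximalIdeal (IsLocalRing.ResidueField B) ↔ c ∈ a.asIdeal
    rw [IsLocalRing.maximalIdeal_eq_bot, Submodule.mem_bot]
    change IsLocalRing.residue B (algebraMap A B c) = 0 ↔ _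
    rw [IsLocalRing.residue_eq_zero_iff, IsLocalRing.mem_maximalIdeal, mem_nonunits_iff]
    constructor
    · intro hc
      by_contra hn
      exact hc (SeesawMod.isUnit_thick a.asIdeal hn)
    · intro hc hu
      rw [IsScalarTower.algebraMap_apply A (Localization.AtPrime a.asIdeal) B] at hu
      have h1 : algebraMap A (Localization.AtPrime a.asIdeal) c ∈ m :=
        (IsLocalization.AtPrime.to_map_mem_maximal_iff (Localization.AtPrime a.asIdeal) a.asIdeal c).2 hc
      have h2 : Ideal.Quotient.mk (m ^ (n + 1)) (algebraMap A _ c) ∈ IsLocalRing.maximalIdeal B := by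
        rw [← IsLocalRing.map_maximalIdeal_of_surjective (Ideal.Quotient.mk (m ^ (n + 1))) Ideal.Quotient.mk_surjective]
        exact Ideal.mem_map_of_mem _ h1
      exact (IsLocalRing.mem_maximalIdeal _).1 h2 hu
  have hcX := bijective_snd_comp pX t (Spec.map (CommRingCat.ofHom φ)) k rfl (h0X _ k hk)
  have hcY := bijective_snd_comp pY t (Spec.map (CommRingCat.ofHom φ)) k rfl (h0Y _ k hk)
  have hx' : (pullback.lift (t ≫ x) (𝟙 _) (by rw [Category.assoc, hx, Category.comp_id, Category.id_comp]) :
      _ ⟶ pullback pX t) ≫ pullback.snd pX t = 𝟙 _ := pullback.lift_snd _ _ _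
  have hy' : (pullback.lift (t ≫ y) (𝟙 _) (by rw [Category.assoc, hy, Category.comp_id, Category.id_comp]) :
      _ ⟶ pullback pY t) ≫ pullback.snd pY t = 𝟙 _ := pullback.lift_snd _ _ _
  have hB : Triv ((Scheme.Modules.pullback (prodBC pX pY t)).obj L) := by
    refine triv_artin φ hφ (pullback.snd pX t) (pullback.snd pY t) _ hx' _ hy' hm hcX hcY _
      (PicClLib.isInvertible_pullback _ hL) ?_ ?_ ?_
    · refine (triv_comp_iff _ _).2 (SeesawGlobal.triv_of_factor
        (pullback.lift (pullback.fst _ _ ≫ prodBC pX pY t) (pullback.snd _ _) ?_) (pullback.lift_fst _ _ _)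
        (hT _ k hk))
      rw [Category.assoc, prodBC_condition]
      exact (Category.assoc _ _ _).symm.trans ((congrArg (· ≫ t) pullback.condition).trans (Category.assoc _ _ _))
    · refine (triv_comp_iff _ _).2 (SeesawGlobal.triv_of_factor (pullback.fst pY t) ?_ h₁)
      refine pullback.hom_ext ?_ ?_
      · simp only [Category.assoc, prodBC, pullback.map, pullback.lift_fst, sliceSndS, sliceSnd,
          pullback.lift_fst_assoc]
        rw [pullback.condition_assoc]
      · simp only [Category.assoc, prodBC, pullback.map, pullback.lift_snd, sliceSndS, sliceSnd,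
          pullback.lift_snd_assoc, Category.comp_id, Category.id_comp]
    · refine (triv_comp_iff _ _).2 (SeesawGlobal.triv_of_factor (pullback.fst pX t) ?_ h₂)
      refine pullback.hom_ext ?_ ?_
      · simp only [Category.assoc, prodBC, pullback.map, pullback.lift_fst, sliceFstS, sliceFst,
          pullback.lift_fst_assoc, Category.comp_id, Category.id_comp]
      · simp only [Category.assoc, prodBC, pullback.map, pullback.lift_snd, sliceFstS, sliceFst,
          pullback.lift_snd_assoc]
        rw [pullback.condition_assoc]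
        exact congrArg (_ ≫ ·) (pullback.lift_fst _ _ _).symm
  have hT' := triv_of_prodBC pX pY t hB
  constructor
  · refine SeesawGlobal.triv_pullback_of_factor
      (Spec.map (CommRingCat.ofHom (Ideal.Quotient.factor
        (Ideal.pow_le_pow_right (Nat.le_succ n) : m ^ (n + 1) ≤ m ^ n)))) ?_ hT'
    show _ ≫ Spec.map _ ≫ g = Spec.map _ ≫ g
    rw [← Category.assoc, ← Spec.map_comp]
    rfl
  · refine injective_appTop_of_section (pullback.lift ((Seesaw.specAlg A (SeesawMod.Thick a.asIdeal n) ≫ g) ≫ x ≫ sliceFstS pX pY y hy) (𝟙 _) ?_)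
      (pullback.lift_snd _ _ _)
    show ((Seesaw.specAlg A (SeesawMod.Thick a.asIdeal n) ≫ g) ≫ x ≫ sliceFstS pX pY y hy) ≫ pullback.fst pX pY ≫ pX = _
    rw [Category.id_comp]
    simp only [Category.assoc]
    erw [pullback.lift_fst_assoc]
    simp [hx]

end Groth.Agent.RelCube
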