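import Groth.Agent.RelCube.SeesawH1
import Groth.Agent.RelCube.General

/-!
The seesaw principle over an arbitrary base for fibres without first cohomology.
-/

set_option autoImplicit false
set_option linter.style.haveILetI false
set_option linter.unusedSectionVars false
set_option backward.isDefEq.respectTransparency false
set_option backward.isDefEq.respectTransparency.types false
set_option maxHeartbeats 1000000

universe u

open CategoryTheory CategoryTheory.Limits AlgebraicGeometry TopologicalSpace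
open Groth.Agent.H23 Groth.Agent.H23.TrivBasic Groth.Agent.H23.SeesawGlobal

attribute [-instance] CategoryTheory.catToReflQuiver

namespace Groth.Agent.RelCube

open Groth.Agent

section

variable {S P : Scheme.{u}} (f : P ⟶ S)

/-- The three properties of the trivial locus are local on the base. -/
theorem good_of_local (L : P.Modules)
    (hV : ∀ V : S.Opens, IsAffineOpen V →
      Good (pullback.snd f V.ι) ((Scheme.Modules.pullback (pullback.fst f V.ι)).obj L)) : Good f L := by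
  have hcover : ∀ v : S, ∃ (V : S.Opens), v ∈ V ∧ IsAffineOpen V := fun v => by
    obtain ⟨V, hV, hv, -⟩ := exists_isAffineOpen_mem_and_subset (x := v) (U := ⊤) trivial
    exact ⟨V, hv, hV⟩
  have hsq : ∀ V : S.Opens, IsPullback (pullback.fst f V.ι) (pullback.snd f V.ι) f V.ι := fun V =>
    IsPullback.of_hasPullback f V.ι
  have hpt : ∀ (V : S.Opens) (w : V.toScheme),
      FieldTriv (pullback.snd f V.ι) ((Scheme.Modules.pullback (pullback.fst f V.ι)).obj L) w ↔
        FieldTriv f L (V.ι w) := by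
    intro V w
    refine ⟨fun h K _ k hk => ?_, fun h => fieldTriv_of_model (Iso.refl _) w h (hsq V).w⟩
    have hr : Set.range k ⊆ Set.range V.ι := by
      rintro _ ⟨s, rfl⟩
      rw [Subsingleton.elim s (IsLocalRing.closedPoint K), hk]
      exact ⟨w, rfl⟩
    have hfac : IsOpenImmersion.lift V.ι k hr ≫ V.ι = k := IsOpenImmersion.lift_fac _ _ _
    have hkw : IsOpenImmersion.lift V.ι k hr (IsLocalRing.closedPoint K) = w := by
      refine V.ι.isOpenEmbedding.injective ?_
      rw [← hk]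
      exact congr($hfac (IsLocalRing.closedPoint K))
    exact hfac ▸ triv_point_model (hsq V) (Iso.refl _) _ (h K _ hkw)
  refine ⟨fun v K _ k hk hT => ?_, ?_, fun v hv => ?_⟩
  · obtain ⟨V, hv, hV'⟩ := hcover v
    have hr : Set.range k ⊆ Set.range V.ι := by
      rintro _ ⟨s, rfl⟩
      rw [Subsingleton.elim s (IsLocalRing.closedPoint K), hk, Scheme.Opens.range_ι]
      exact hv
    have hfac : IsOpenImmersion.lift V.ι k hr ≫ V.ι = k := IsOpenImmersion.lift_fac _ _ _
    have hkw : IsOpenImmersion.lift V.ι k hr (IsLocalRing.closedPoint K) = ⟨v, hv⟩ := by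
      refine V.ι.isOpenEmbedding.injective ?_
      exact (congr($hfac (IsLocalRing.closedPoint K))).trans hk
    refine (hpt V ⟨v, hv⟩).1 ((hV V hV').1 _ K (IsOpenImmersion.lift V.ι k hr) hkw ?_)
    refine (triv_comp_iff _ _).2 (SeesawGlobal.triv_of_factor
      (pullback.lift (pullback.fst _ _ ≫ pullback.fst f V.ι) (pullback.snd _ _) ?_) (pullback.lift_fst _ _ _) hT)
    rw [Category.assoc, (hsq V).w, pullback.condition_assoc, hfac]
  · rw [← isOpen_compl_iff, isOpen_iff_forall_mem_open]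
    intro v hv
    obtain ⟨V, hvV, hV'⟩ := hcover v
    refine ⟨V.ι '' {w | ¬ FieldTriv (pullback.snd f V.ι) ((Scheme.Modules.pullback (pullback.fst f V.ι)).obj L) w},
      ?_, V.ι.isOpenEmbedding.isOpenMap _ (hV V hV').2.1.isOpen_compl, ⟨⟨v, hvV⟩, ?_, rfl⟩⟩
    · rintro _ ⟨w, hw, rfl⟩ h
      exact hw ((hpt V w).2 h)
    · exact fun h => hv ((hpt V ⟨v, hvV⟩).1 h)
  · obtain ⟨V, hvV, hV'⟩ := hcover v
    let G := pullback.fst f V.ι
    obtain ⟨W, hwW, s, hs⟩ := (hV V hV').2.2 ⟨v, hvV⟩ ((hpt V ⟨v, hvV⟩).2 hv)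
    let U := pullback.snd f V.ι ⁻¹ᵁ W
    have hle : (⊤ : U.toScheme.Opens) ≤ U.ι ⁻¹ᵁ U := fun z _ => z.2
    have hT : Triv ((Scheme.Modules.pullback U.ι).obj ((Scheme.Modules.pullback G).obj L)) :=
      triv_of_frame ((InvX.isFrame_pullElt U.ι hs).res hle)
    obtain ⟨t, ht⟩ := SeesawGlobal.exists_frame_of_triv (U.ι ≫ G) ((triv_comp_iff U.ι G).1 hT)
    have hsub : f ⁻¹ᵁ (V.ι ''ᵁ W) ≤ (U.ι ≫ G).opensRange := by
      rintro z ⟨w, hw, hzw⟩
      obtain ⟨z', hz'⟩ : z ∈ Set.range G := by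
        rw [Scheme.Pullback.range_fst]
        exact ⟨w, hzw⟩
      have hzW : z' ∈ U := by
        show pullback.snd f V.ι z' ∈ W
        have h1 : V.ι (pullback.snd f V.ι z') = f z := by
          rw [← hz', ← Scheme.Hom.comp_apply, ← (hsq V).w, Scheme.Hom.comp_apply]
        rw [V.ι.isOpenEmbedding.injective (h1.trans hzw.symm)]
        exact hw
      exact ⟨⟨z', hzW⟩, hz'⟩
    exact ⟨V.ι ''ᵁ W, ⟨⟨v, hvV⟩, hwW, rfl⟩, _, ht.res hsub⟩

end

/-- Vanishing on a fibre of the model. -/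
theorem noH1_model {S S₁ P P₁ : Scheme.{u}} {p : P ⟶ S} {p₁ : P₁ ⟶ S₁} {Q : P ⟶ P₁} {π : S ⟶ S₁}
    (h : IsPullback Q p p₁ π) [IsProper p] {K : Type u} [Field K] (k : Spec (CommRingCat.of K) ⟶ S)
    (hk : NoH1 p k) : NoH1 p₁ (k ≫ π) := by
  have sq : IsPullback (pullback.fst p k ≫ Q) (pullback.snd p k) p₁ (k ≫ π) :=
    (IsPullback.of_hasPullback p k).paste_horiz h
  exact subsingleton_HH_structure_iso (pullback.snd p k) sq.isoPullback.inv hk

section

variable {S P : Scheme.{u}} (f : P ⟶ S) [IsProper f] [Flat f] [LocallyOfFinitePresentation f]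
  [GeometricallyIntegral f]

theorem good1_of_isAffine [IsAffine S] (L : P.Modules) (hL : PicF.IsInvertible L)
    (hH : ∀ v : S, NoH1 f (S.fromSpecResidueField v)) : Good f L := by
  let e := pullback.fst f (𝟙 S)
  obtain ⟨S₀, X₀, Y₀, π₀, u₀, v₀, qX, qY, hX, hY, L₀, _, _, _, _, _, hL₀, ⟨θ⟩⟩ :=
    exists_model₂ f (𝟙 S) ((Scheme.Modules.pullback e).obj L) (PicClLib.isInvertible_pullback _ hL)
  let p₀ := pullback.fst u₀ v₀ ≫ u₀
  let Q₀ : P ⟶ pullback u₀ v₀ := inv e ≫ pullback.map f (𝟙 S) u₀ v₀ qX qY π₀ hX.w.symm hY.w.symm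
  have hQ₀ : IsPullback Q₀ f p₀ π₀ :=
    (isPullback_prod hX hY).of_iso (asIso e) (Iso.refl _) (Iso.refl _) (Iso.refl _)
      (by simp [Q₀]) (by simp [e]) (by simp [p₀]) (by simp)
  have θ₀ : (Scheme.Modules.pullback Q₀).obj L₀ ≅ L :=
    ((Scheme.Modules.pullbackComp _ _).app L₀).symm ≪≫ (Scheme.Modules.pullback (inv e)).mapIso θ ≪≫
      (Scheme.Modules.pullbackComp _ _).app L ≪≫ (Scheme.Modules.pullbackCongr (IsIso.inv_hom_id e)).app L ≪≫
      (Scheme.Modules.pullbackId _).app L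
  haveI : LocallyOfFinitePresentation u₀ := inferInstance
  haveI : LocallyOfFinitePresentation v₀ := inferInstance
  let U : S₀.Opens := ⟨{w | GeometricallyIntegral (p₀.fiberToSpecResidueField w)},
    GeomLoci.isOpen_geometricallyIntegral p₀⟩
  have hrange : Set.range π₀ ⊆ Set.range U.ι := by
    rintro _ ⟨s, rfl⟩
    rw [Scheme.Opens.range_ι]
    exact (geometricallyIntegral_fiber_iff hQ₀ s).1 inferInstance
  let π : S ⟶ U.toScheme := IsOpenImmersion.lift U.ι π₀ hrange
  have hπU : π ≫ U.ι = π₀ := IsOpenImmersion.lift_fac _ _ _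
  obtain ⟨hgi, Q, hQf, hQ⟩ := restrict_model hQ₀ (U := U) (fun w hw => hw) π hπU
  let p₁ := pullback.snd p₀ U.ι
  haveI : GeometricallyIntegral p₁ := hgi
  let L₁ := (Scheme.Modules.pullback (pullback.fst p₀ U.ι)).obj L₀
  have hL₁ : PicF.IsInvertible L₁ := PicClLib.isInvertible_pullback _ hL₀
  let θ₁ : (Scheme.Modules.pullback Q).obj L₁ ≅ L :=
    (Scheme.Modules.pullbackComp _ _).app L₀ ≪≫ (Scheme.Modules.pullbackCongr hQf).app L₀ ≪≫ θ₀
  have hpt : ∀ (v : S) (K : Type u) [Field K] (k : Spec (CommRingCat.of K) ⟶ S),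
      k (IsLocalRing.closedPoint K) = v →
      Triv ((Scheme.Modules.pullback (pullback.fst f k)).obj L) → FieldTriv p₁ L₁ (π v) := fun v K _ k hk hT =>
    SeesawGlobal.fieldTriv_of_point p₁ hL₁ K (k ≫ π) (by rw [Scheme.Hom.comp_apply, hk])
      (triv_point_model hQ θ₁ k hT)
  have hiff : ∀ v : S, FieldTriv f L v ↔ FieldTriv p₁ L₁ (π v) := fun v =>
    ⟨fun hv => hpt v (S.residueField v) (S.fromSpecResidueField v) (Scheme.fromSpecResidueField_apply _ _)
      (hv _ _ (Scheme.fromSpecResidueField_apply _ _)), fun hv => fieldTriv_of_model θ₁ v hv hQ.w⟩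
  refine ⟨fun v K _ k hk hT => fieldTriv_of_model θ₁ v (hpt v K k hk hT) hQ.w, ?_, fun v hv => ?_⟩
  · rw [show {v : S | FieldTriv f L v} = π ⁻¹' {w | FieldTriv p₁ L₁ w} from Set.ext hiff]
    exact (SeesawGlobal.isClosed_fieldTriv p₁ hL₁).preimage π.continuous
  · have hH₁ : NoH1 p₁ (U.toScheme.fromSpecResidueField (π v)) :=
      (noH1_iff_residue p₁ (S.fromSpecResidueField v ≫ π)
        (congrArg π (Scheme.fromSpecResidueField_apply _ _))).1 (noH1_model hQ _ (hH v))
    obtain ⟨V, hvV, s, hs⟩ := exists_frame_near1 p₁ L₁ hL₁ (π v) hH₁ ((hiff v).1 hv)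
    have hle : f ⁻¹ᵁ (π ⁻¹ᵁ V) ≤ Q ⁻¹ᵁ (p₁ ⁻¹ᵁ V) := by
      rw [← Scheme.Hom.comp_preimage, ← Scheme.Hom.comp_preimage]
      exact le_of_eq (congrArg (· ⁻¹ᵁ V) hQ.w).symm
    exact ⟨π ⁻¹ᵁ V, hvV, _, ((InvX.isFrame_pullElt Q hs).res hle).map_iso θ₁⟩

theorem good1 (L : P.Modules) (hL : PicF.IsInvertible L)
    (hH : ∀ v : S, NoH1 f (S.fromSpecResidueField v)) : Good f L := by
  refine good_of_local f L fun V hV => ?_
  haveI : IsAffine V.toScheme := hV
  refine good1_of_isAffine _ _ (PicClLib.isInvertible_pullback _ hL) fun w => ?_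
  let k := V.toScheme.fromSpecResidueField w
  exact subsingleton_HH_structure_iso (pullback.snd f (k ≫ V.ι)) (pullbackLeftPullbackSndIso f V.ι k).hom
    ((noH1_iff_residue f (k ≫ V.ι) (congrArg V.ι (Scheme.fromSpecResidueField_apply _ _))).2 (hH (V.ι w)))

/-- For fibres without first cohomology, a module trivial on one fibre over a connected base is pulled
back from the base. -/
theorem exists_iso_pullback [ConnectedSpace S] (L : P.Modules) (hL : PicF.IsInvertible L)
    (hH : ∀ v : S, NoH1 f (S.fromSpecResidueField v)) (z : S) {K : Type u} [Field K]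
    (k : Spec (CommRingCat.of K) ⟶ S) (hk : k (IsLocalRing.closedPoint K) = z)
    (hT : Triv ((Scheme.Modules.pullback (pullback.fst f k)).obj L)) :
    ∃ M : S.Modules, PicF.IsInvertible M ∧ Nonempty (L ≅ (Scheme.Modules.pullback f).obj M) := by
  obtain ⟨hpt, hcl, hnear⟩ := good1 f L hL hH
  have hop : IsOpen {v : S | FieldTriv f L v} := by
    rw [isOpen_iff_forall_mem_open]
    intro v hv
    obtain ⟨V, hvV, s, hs⟩ := hnear v hv
    refine ⟨V, fun w hw => ?_, V.isOpen, hvV⟩
    refine hpt w (S.residueField w) (S.fromSpecResidueField w) (Scheme.fromSpecResidueField_apply _ _) ?_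
    refine triv_of_frame ((InvX.isFrame_pullElt (pullback.fst f (S.fromSpecResidueField w)) hs).res
      (fun a _ => ?_) : InvX.IsFrame (U := ⊤) _)
    show f (pullback.fst f (S.fromSpecResidueField w) a) ∈ V
    rw [← Scheme.Hom.comp_apply, pullback.condition, Scheme.Hom.comp_apply, Scheme.fromSpecResidueField_apply]
    exact hw
  have hall : ∀ v : S, FieldTriv f L v := fun v => by
    have huniv := IsClopen.eq_univ ⟨hcl, hop⟩ ⟨z, hpt z K k hk hT⟩
    exact (Set.eq_univ_iff_forall.1 huniv) v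
  choose V hV s hs using fun v => hnear v (hall v)
  obtain ⟨M, hM, hiso⟩ := PicGlue.exists_glue_of_joint_iso (κ := PUnit.{u + 1}) (fun _ => f) (L := fun _ => L)
    (fun t => ⟨t, hV t⟩) (e := fun _ t => s t) (fun _ t => hs t) ⊤ (fun _ _ _ => le_top) fun W _ => by
    have hb := GammaDescent.bijective_app f (RigidApply.constFibres_of_geometricallyIntegral f) W
    refine ⟨fun a b hab => hb.1 (congrFun hab ⟨⟩), fun c => ?_⟩
    obtain ⟨a, ha⟩ := hb.2 (c ⟨⟩)
    exact ⟨a, funext fun _ => ha⟩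
  exact ⟨M, hM, ⟨(hiso ⟨⟩).some.symm⟩⟩

/-- Pullback along a morphism with constant functions detects triviality. -/
theorem triv_of_triv_pullback {M : S.Modules} (hM : PicF.IsInvertible M)
    (h : Triv ((Scheme.Modules.pullback f).obj M)) : Triv M := by
  have hb : ∀ W : S.Opens, Function.Bijective (f.app W) := fun W =>
    GammaDescent.bijective_app f (RigidApply.constFibres_of_geometricallyIntegral f) W
  obtain ⟨e, he⟩ := h.exists_frame
  choose U hU m hm using InvX.exists_frame hM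
  have hc : ∀ x, ∃ b : Γ(S, U x), IsUnit b ∧
      AModX.res _ (le_top : f ⁻¹ᵁ U x ≤ ⊤) e = f.app (U x) b • InvX.pullElt f (m x) := fun x => by
    obtain ⟨r, hr⟩ := (InvX.isFrame_pullElt f (hm x)).exists_coord le_rfl (AModX.res _ (le_top : f ⁻¹ᵁ U x ≤ ⊤) e)
    rw [AModX.res_self] at hr
    obtain ⟨r', hr'⟩ := (he.res (le_top : f ⁻¹ᵁ U x ≤ ⊤)).exists_coord le_rfl (InvX.pullElt f (m x))
    rw [AModX.res_self] at hr'
    have h1 : r' * r = 1 := by
      refine (he.res (le_top : f ⁻¹ᵁ U x ≤ ⊤)).coord_unique le_rfl ?_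
      rw [AModX.res_self, mul_comm, mul_smul, ← hr', ← hr, one_smul]
    obtain ⟨b, hb'⟩ := (hb (U x)).2 r
    obtain ⟨b', hb''⟩ := (hb (U x)).2 r'
    refine ⟨b, IsUnit.of_mul_eq_one b' ((hb (U x)).1 ?_), hb' ▸ hr⟩
    rw [map_mul, hb', hb'', map_one, mul_comm, h1]
  choose b hbu hb' using hc
  obtain ⟨F, hF, -⟩ := AModX.existsUnique_glue (M := M) (V := ⊤) U (fun _ => le_top)
    (fun p _ => ⟨p, hU p⟩) (fun x => b x • m x) fun x y => by
      have hfr : InvX.IsFrame (InvX.pullElt f (AModX.res M (inf_le_left : U x ⊓ U y ≤ U x) (m x))) :=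
        InvX.isFrame_pullElt f ((hm x).res _)
      obtain ⟨a, ha⟩ := (hm x).exists_coord (inf_le_left : U x ⊓ U y ≤ U x)
        (AModX.res M (inf_le_left : U x ⊓ U y ≤ U x) (b x • m x) -
          AModX.res M (inf_le_right : U x ⊓ U y ≤ U y) (b y • m y))
      have h0 : InvX.pullElt f (AModX.res M (inf_le_left : U x ⊓ U y ≤ U x) (b x • m x)) =
          InvX.pullElt f (AModX.res M (inf_le_right : U x ⊓ U y ≤ U y) (b y • m y)) := by
        rw [← InvX.res_pullElt, ← InvX.res_pullElt, InvX.pullElt_smul, InvX.pullElt_smul, ← hb', ← hb',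
          AModX.res_res, AModX.res_res]
      have h2 : InvX.pullElt f (a • AModX.res M (inf_le_left : U x ⊓ U y ≤ U x) (m x)) = 0 := by
        rw [← ha]
        exact (map_sub ((Scheme.Modules.pullbackPushforwardAdjunction f).unit.app M |>.app _).hom _ _).trans (sub_eq_zero.2 h0)
      rw [InvX.pullElt_smul] at h2
      have h3 : f.app _ a = 0 := hfr.coord_unique le_rfl (by rw [AModX.res_self, h2, zero_smul])
      have h4 : a = 0 := (hb _).1 (h3.trans (map_zero _).symm)
      rw [h4, zero_smul, sub_eq_zero] at ha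
      exact ha
  refine triv_of_frame (e := F) (isFrame_of_germwise fun p _ => ?_)
  exact ⟨U p, le_top, hU p, by rw [hF p]; exact (hm p).isUnit_smul (hbu p)⟩

end

end Groth.Agent.RelCube
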