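import Groth.Agent.RelCube.Artin
import Groth.Agent.RelCube.CoboundHH
import Groth.Agent.AVTheta.SeesawDescend
import Groth.Agent.H9Existence.ProjLift
import Groth.Agent.CurveBC.Coh

/-!
The seesaw principle for fibres without first cohomology: deformations of the trivial module are trivial.
-/

set_option autoImplicit false
set_option linter.style.haveILetI false
set_option linter.unusedSectionVars false
set_option backward.isDefEq.respectTransparency false
set_option backward.isDefEq.respectTransparency.types false
set_option maxHeartbeats 1000000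

universe u

open CategoryTheory CategoryTheory.Limits AlgebraicGeometry TopologicalSpace
open Groth.Agent.H23 Groth.Agent.H23.TrivBasic Groth.Agent.H23.SeesawGlobal

attribute [-instance] CategoryTheory.catToReflQuiver

namespace Groth.Agent.RelCube

open Groth.Agent KunnethH1

local notation "t[" f "]" => Spec.map (CommRingCat.ofHom f)

/-- No first cohomology on the fibre over a point with values in a field. -/
def NoH1 {P S : Scheme.{u}} (p : P ⟶ S) {K : Type u} [Field K] (k : Spec (CommRingCat.of K) ⟶ S) : Prop :=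
  Subsingleton (Coh.HH (pullback p k) (Coh.structureModule (pullback p k)) 1)

/-- Vanishing of the first cohomology of the structure sheaf passes along isomorphisms over a field. -/
theorem subsingleton_HH_structure_iso {K : Type u} [Field K] {Y Y' : Scheme.{u}} (q : Y ⟶ Spec (CommRingCat.of K))
    [IsProper q] (g : Y' ⟶ Y) [IsIso g] (h : Subsingleton (Coh.HH Y (Coh.structureModule Y) 1)) :
    Subsingleton (Coh.HH Y' (Coh.structureModule Y') 1) :=
  QCoh.subsingleton_HH_of_iso (CurveBC.unitIso g) 1 (H9Existence.subsingleton_HH_pullback_iso q g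
    (ProjUPX.isQCoh_of_isInvertible InvX.isInvertible_structureModule) 1 h)

/-- The small step without slices. -/
theorem triv_step_single {R R' K : Type u} [CommRing R] [IsLocalRing R] [CommRing R'] [Field K]
    (φ : R →+* K) (hφ : Function.Surjective φ) (q : R →+* R') (hq : Function.Surjective q) (ε : R)
    (hker : RingHom.ker q = Ideal.span {ε}) (hε0 : ε ≠ 0)
    (hεm : ∀ a ∈ IsLocalRing.maximalIdeal R, a * ε = 0) (hε : ε ∈ IsLocalRing.maximalIdeal R)
    {P : Scheme.{u}} (p : P ⟶ Spec (CommRingCat.of R)) [IsProper p] [Flat p] (hH : NoH1 p t[φ])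
    (L : P.Modules) (hL : PicF.IsInvertible L)
    (h' : Triv ((Scheme.Modules.pullback (pullback.fst p t[q])).obj L)) : Triv L := by
  let E := smallExt φ hφ q hq ε hker hε0 hεm hε p _ _ (IsPullback.of_hasPullback p t[q]) (pullback.fst p t[φ]) _
    (IsPullback.of_hasPullback p t[φ])
  haveI : P.IsSeparated := ⟨by rw [← terminal.comp_from p]; infer_instance⟩
  haveI : IsProper (pullback.snd p t[φ]) := inferInstance
  haveI : (pullback p t[φ]).IsSeparated := ⟨by rw [← terminal.comp_from (pullback.snd p t[φ])]; infer_instance⟩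
  haveI : IsClosedImmersion t[φ] := IsClosedImmersion.spec_of_surjective (CommRingCat.ofHom φ) hφ
  haveI : IsClosedImmersion (pullback.fst p t[φ]) :=
    MorphismProperty.of_isPullback (P := @IsClosedImmersion) (IsPullback.of_hasPullback p t[φ]).flip inferInstance
  haveI : CompactSpace P := QuasiCompact.compactSpace_of_compactSpace p
  obtain ⟨ι, _, U, hU, hUσ⟩ := QCoh.exists_affine_cover (X := P)
  have hU1 : ∀ i, IsAffineOpen (U i) := fun i => by simpa using hUσ (p := 0) fun _ => i
  have hcU : ∀ z : P, ∃ i, z ∈ U i := fun z => Opens.mem_iSup.1 (hU.ge trivial)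
  refine triv_step E U hU1 hcU (S := fun s : PEmpty.{1} => s.elim) (fun c hc _ => ?_) L hL h' (fun s => s.elim)
  exact isCobound_of_HH (fun a => pullback.fst p t[φ] ⁻¹ᵁ U a) (fun a => (hU1 a).preimage _)
    (fun z => hcU _) hH c hc

/-- Deformations over an Artinian local ring of the trivial module are trivial. -/
theorem triv_artin_single {B K : Type u} [CommRing B] [IsLocalRing B] [IsNoetherianRing B] [Field K]
    (φ : B →+* K) (hφ : Function.Surjective φ) {P : Scheme.{u}} (p : P ⟶ Spec (CommRingCat.of B))
    [IsProper p] [Flat p] (hm : IsNilpotent (IsLocalRing.maximalIdeal B)) (hH : NoH1 p t[φ])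
    (L : P.Modules) (hL : PicF.IsInvertible L)
    (h₀ : Triv ((Scheme.Modules.pullback (pullback.fst p t[φ])).obj L)) : Triv L := by
  have main : ∀ J : Ideal B, J ≤ IsLocalRing.maximalIdeal B →
      Triv ((Scheme.Modules.pullback (pullback.fst p t[Ideal.Quotient.mk J])).obj L) := by
    intro J
    induction J using WellFoundedGT.induction with
    | _ J ih =>
    intro hJ
    by_cases hmJ : IsLocalRing.maximalIdeal B ≤ J
    · have hk : ∀ a, φ a = 0 → Ideal.Quotient.mk J a = 0 := fun a ha => by
        refine Ideal.Quotient.eq_zero_iff_mem.2 (hmJ ?_)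
        rw [← RigidInf.ker_eq_maximalIdeal φ hφ]
        exact ha
      let e : K →+* B ⧸ J := RingHom.liftOfSurjective φ hφ ⟨Ideal.Quotient.mk J, fun a ha => hk a ha⟩
      have he : t[e] ≫ t[φ] = t[Ideal.Quotient.mk J] := by
        rw [← Spec.map_comp, ← CommRingCat.ofHom_comp]
        exact congrArg _ (congrArg _ (RingHom.ext fun a => RingHom.liftOfSurjective_comp_apply φ hφ ⟨Ideal.Quotient.mk J, fun a ha => hk a ha⟩ a))
      refine SeesawGlobal.triv_of_factor (pullback.lift (pullback.fst _ _) (pullback.snd _ _ ≫ t[e]) ?_)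
        (pullback.lift_fst _ _ _) h₀
      rw [pullback.condition, Category.assoc, he]
    · classical
      obtain ⟨N, hN⟩ := hm
      have hex : ∃ n, IsLocalRing.maximalIdeal B ^ n ≤ J := ⟨N, by rw [hN]; exact bot_le⟩
      have h1 : 2 ≤ Nat.find hex := by
        by_contra h
        have h' := Nat.find_spec hex
        rcases (show Nat.find hex = 0 ∨ Nat.find hex = 1 by omega) with h0 | h0 <;>
          rw [h0] at h'
        · rw [pow_zero, Ideal.one_eq_top] at h'
          exact hmJ (le_top.trans h')
        · exact hmJ (by simpa using h')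
      obtain ⟨ε, hε, hεJ⟩ := SetLike.not_le_iff_exists.mp
        (Nat.find_min hex (show Nat.find hex - 1 < Nat.find hex by omega))
      have hεm : ε ∈ IsLocalRing.maximalIdeal B := Ideal.pow_le_self (by omega) hε
      have hεJm : ∀ a ∈ IsLocalRing.maximalIdeal B, a * ε ∈ J := fun a ha => by
        refine Nat.find_spec hex ?_
        rw [show Nat.find hex = (Nat.find hex - 1) + 1 by omega, pow_succ']
        exact Ideal.mul_mem_mul ha hε
      have hJ' : J ⊔ Ideal.span {ε} ≤ IsLocalRing.maximalIdeal B :=
        sup_le hJ ((Ideal.span_singleton_le_iff_mem _).2 hεm)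
      have h' := ih _ (lt_of_le_not_ge le_sup_left fun hle =>
          hεJ (hle (Ideal.mem_sup_right (Ideal.mem_span_singleton_self ε)))) hJ'
      let π := Ideal.Quotient.mk J
      haveI : Nontrivial (B ⧸ J) := Ideal.Quotient.nontrivial_iff.2 fun h =>
        (IsLocalRing.maximalIdeal.isMaximal B).ne_top (top_le_iff.1 (h.ge.trans hJ))
      haveI : IsLocalRing (B ⧸ J) := IsLocalRing.of_surjective' π Ideal.Quotient.mk_surjective
      have hmR : IsLocalRing.maximalIdeal (B ⧸ J) = (IsLocalRing.maximalIdeal B).map π :=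
        (IsLocalRing.map_maximalIdeal_of_surjective π Ideal.Quotient.mk_surjective).symm
      have hkφ : J ≤ RingHom.ker φ := by rw [RigidInf.ker_eq_maximalIdeal φ hφ]; exact hJ
      let φR : B ⧸ J →+* K := Ideal.Quotient.lift J φ fun a ha => hkφ ha
      let q : B ⧸ J →+* B ⧸ (J ⊔ Ideal.span {ε}) := Ideal.Quotient.factor le_sup_left
      have hφR : Function.Surjective φR := fun c => by
        obtain ⟨a, rfl⟩ := hφ c
        exact ⟨π a, rfl⟩
      have htφ : t[φR] ≫ t[π] = t[φ] := by rw [← Spec.map_comp, ← CommRingCat.ofHom_comp]; rfl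
      have htq : t[q] ≫ t[π] = t[Ideal.Quotient.mk (J ⊔ Ideal.span {ε})] := by
        rw [← Spec.map_comp, ← CommRingCat.ofHom_comp]; rfl
      refine triv_step_single φR hφR q (Ideal.Quotient.factor_surjective le_sup_left) (π ε) ?_
        (fun h => hεJ (Ideal.Quotient.eq_zero_iff_mem.1 h)) ?_ ?_ (pullback.snd p t[π]) ?_ _
        (PicClLib.isInvertible_pullback _ hL) ?_
      · rw [Ideal.Quotient.factor_ker, Ideal.map_sup, Ideal.map_quotient_self, bot_sup_eq, Ideal.map_span,
          Set.image_singleton]
      · intro a ha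
        rw [hmR] at ha
        obtain ⟨a, ha', rfl⟩ := (Ideal.mem_map_iff_of_surjective π Ideal.Quotient.mk_surjective).1 ha
        rw [← map_mul]
        exact Ideal.Quotient.eq_zero_iff_mem.2 (hεJm a ha')
      · rw [hmR]; exact Ideal.mem_map_of_mem π hεm
      · exact subsingleton_HH_structure_iso (pullback.snd p t[φ])
          (pullbackLeftPullbackSndIso p t[π] t[φR] ≪≫ pullback.congrHom rfl htφ).hom hH
      · refine (triv_comp_iff _ _).2 (SeesawGlobal.triv_of_factor
          (pullback.lift (pullback.fst _ _ ≫ pullback.fst p t[π]) (pullback.snd _ _) ?_) (pullback.lift_fst _ _ _) h')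
        rw [Category.assoc, pullback.condition (f := p), ← Category.assoc, pullback.condition, Category.assoc, htq]
  have h := main ⊥ bot_le
  haveI : IsIso t[Ideal.Quotient.mk (⊥ : Ideal B)] := by
    haveI : IsIso (CommRingCat.ofHom (Ideal.Quotient.mk (⊥ : Ideal B))) :=
      (ConcreteCategory.isIso_iff_bijective _).2 ⟨fun a b hab => by
        simpa [sub_eq_zero] using Ideal.Quotient.eq.1 hab, Ideal.Quotient.mk_surjective⟩
    infer_instance
  exact TrivBasic.triv_of_isIso _ h

theorem noH1_comp_iff {P S : Scheme.{u}} (f : P ⟶ S) [IsProper f] {K K' : Type u} [Field K] [Field K']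
    (a : K →+* K') (k : Spec (CommRingCat.of K) ⟶ S) : NoH1 f (t[a] ≫ k) ↔ NoH1 f k := by
  letI : Algebra K K' := a.toAlgebra
  let F := pullback f k
  letI : F.Over (Spec (CommRingCat.of K)) := ⟨pullback.snd f k⟩
  haveI : IsProper (F ↘ Spec (CommRingCat.of K)) := inferInstanceAs (IsProper (pullback.snd f k))
  haveI : F.IsSeparated := ⟨by rw [← terminal.comp_from (pullback.snd f k)]; infer_instance⟩
  haveI : CompactSpace F := QuasiCompact.compactSpace_of_compactSpace (pullback.snd f k)
  let G := pullback f (t[a] ≫ k)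
  letI : G.Over (Spec (CommRingCat.of K')) := ⟨pullback.snd f (t[a] ≫ k)⟩
  let g : G ⟶ F := pullback.lift (pullback.fst _ _) (pullback.snd _ _ ≫ t[a])
    (by rw [Category.assoc]; exact pullback.condition)
  have h : IsPullback g (G ↘ Spec (CommRingCat.of K')) (F ↘ Spec (CommRingCat.of K))
      (Spec.map (CommRingCat.ofHom (algebraMap K K'))) := by
    refine IsPullback.of_right ?_ (pullback.lift_snd _ _ _) (IsPullback.of_hasPullback f k)
    rw [pullback.lift_fst]
    exact IsPullback.of_hasPullback f (t[a] ≫ k)
  obtain ⟨e⟩ := QCoh.nonempty_HH_flat_bc g h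
    (ProjUPX.isQCoh_of_isInvertible (InvX.isInvertible_structureModule (X := F))) 1
  show Subsingleton (Coh.HH G (Coh.structureModule G) 1) ↔ Subsingleton (Coh.HH F (Coh.structureModule F) 1)
  refine Iff.trans ?_ (Module.FaithfullyFlat.subsingleton_tensorProduct_iff_right K K')
  rw [← e.toEquiv.subsingleton_congr]
  exact ⟨QCoh.subsingleton_HH_of_iso (CurveBC.unitIso g).symm 1,
    QCoh.subsingleton_HH_of_iso (CurveBC.unitIso g) 1⟩

/-- Vanishing over one field point gives vanishing over all field points over the same point. -/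
theorem noH1_iff_residue {P S : Scheme.{u}} (f : P ⟶ S) [IsProper f] {v : S} {K : Type u} [Field K]
    (k : Spec (CommRingCat.of K) ⟶ S) (hk : k (IsLocalRing.closedPoint K) = v) :
    NoH1 f k ↔ NoH1 f (S.fromSpecResidueField v) := by
  subst hk
  have h := noH1_comp_iff f (K := S.residueField (k (IsLocalRing.closedPoint K))) (K' := K)
    (Scheme.descResidueField (Scheme.stalkClosedPointTo k)).hom (S.fromSpecResidueField _)
  have he : t[(Scheme.descResidueField (Scheme.stalkClosedPointTo k)).hom] ≫
      S.fromSpecResidueField (k (IsLocalRing.closedPoint K)) = k :=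
    Scheme.descResidueField_stalkClosedPointTo_fromSpecResidueField K S k
  rwa [he] at h

/-- Over a locally Noetherian base a module trivial on a fibre without first cohomology is trivial near it. -/
theorem exists_frame_near1 {P S : Scheme.{u}} (p : P ⟶ S) [IsProper p] [Flat p] [IsLocallyNoetherian S]
    [GeometricallyIntegral p] (L : P.Modules) (hL : PicF.IsInvertible L) (z : S)
    (hH : NoH1 p (S.fromSpecResidueField z)) (hT : FieldTriv p L z) :
    ∃ V : S.Opens, z ∈ V ∧ ∃ s : Γ(L, p ⁻¹ᵁ V), InvX.IsFrame s := by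
  obtain ⟨A, _, _, g, _, a, rfl⟩ := exists_chart z
  haveI : (a : PrimeSpectrum A).asIdeal.IsPrime := PrimeSpectrum.isPrime a
  have h0 : FieldH0 p (g a) := fun K _ k' _ => Rigid.bijective_appTop (k := K) (pullback.snd p k')
  refine SeesawGlobal.exists_frame_of_thick p hL g a h0 hT fun n => ?_
  let B := SeesawMod.Thick a.asIdeal (n + 1)
  let m := IsLocalRing.maximalIdeal (Localization.AtPrime a.asIdeal)
  haveI : IsNoetherianRing (Localization.AtPrime a.asIdeal) :=
    IsLocalization.isNoetherianRing a.asIdeal.primeCompl _ inferInstance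
  haveI : Nontrivial B := Ideal.Quotient.nontrivial_iff.2 fun h =>
    (IsLocalRing.maximalIdeal.isMaximal (Localization.AtPrime a.asIdeal)).ne_top
      (top_le_iff.1 (h.ge.trans (Ideal.pow_le_self (Nat.succ_ne_zero n))))
  haveI : IsLocalRing B := IsLocalRing.of_surjective' (Ideal.Quotient.mk _) Ideal.Quotient.mk_surjective
  haveI : IsNoetherianRing B :=
    isNoetherianRing_of_surjective _ B (Ideal.Quotient.mk _) Ideal.Quotient.mk_surjective
  have hm : IsNilpotent (IsLocalRing.maximalIdeal B) := by
    refine ⟨n + 1, ?_⟩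
    rw [Submodule.zero_eq_bot, ← le_bot_iff,
      ← IsLocalRing.map_maximalIdeal_of_surjective (Ideal.Quotient.mk (m ^ (n + 1))) Ideal.Quotient.mk_surjective,
      ← Ideal.map_pow]
    exact (Ideal.map_quotient_self _).le
  let φ : B →+* IsLocalRing.ResidueField B := IsLocalRing.residue B
  have hφ : Function.Surjective φ := IsLocalRing.residue_surjective
  let t : Spec (CommRingCat.of B) ⟶ S := Seesaw.specAlg A B ≫ g
  let k : Spec (CommRingCat.of (IsLocalRing.ResidueField B)) ⟶ S := Spec.map (CommRingCat.ofHom φ) ≫ t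
  have hk : k (IsLocalRing.closedPoint (IsLocalRing.ResidueField B)) = g a := by
    show g (Spec.map (CommRingCat.ofHom (algebraMap A B)) (Spec.map (CommRingCat.ofHom φ)
      (IsLocalRing.closedPoint (IsLocalRing.ResidueField B)))) = g a
    congr 1
    refine PrimeSpectrum.ext (Ideal.ext fun c => ?_)
    show φ (algebraMap A B c) ∈ IsLocalRing.maximalIdeal (IsLocalRing.ResidueField B) ↔ c ∈ a.asIdeal
    rw [IsLocalRing.maximalIdeal_eq_bot, Submodule.mem_bot]
    change IsLocalRing.residue B (algebraMap A B c) = 0 ↔ _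
    rw [IsLocalRing.residue_eq_zero_iff, IsLocalRing.mem_maximalIdeal, mem_nonunits_iff]
    constructor
    · intro hc
      by_contra hn
      exact hc (SeesawMod.isUnit_thick a.asIdeal hn)
    · intro hc hu
      rw [IsScalarTower.algebraMap_apply A (Localization.AtPrime a.asIdeal) B] at hu
      have h1 : algebraMap A (Localization.AtPrime a.asIdeal) c ∈ m :=
        (IsLocalization.AtPrime.to_map_mem_maximal_iff (Localization.AtPrime a.asIdeal) a.asIdeal c).2 hc
      have h2 : Ideal.Quotient.mk (m ^ (n + 1)) (algebraMap A _ c) ∈ IsLocalRing.maximalIdeal B := by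
        rw [← IsLocalRing.map_maximalIdeal_of_surjective (Ideal.Quotient.mk (m ^ (n + 1))) Ideal.Quotient.mk_surjective]
        exact Ideal.mem_map_of_mem _ h1
      exact (IsLocalRing.mem_maximalIdeal _).1 h2 hu
  have hH' : NoH1 (pullback.snd p t) t[φ] :=
    subsingleton_HH_structure_iso (pullback.snd p k) (pullbackLeftPullbackSndIso p t t[φ]).hom
      ((noH1_iff_residue p k hk).2 hH)
  have hB : Triv ((Scheme.Modules.pullback (pullback.fst p t)).obj L) := by
    refine triv_artin_single φ hφ (pullback.snd p t) hm hH' _ (PicClLib.isInvertible_pullback _ hL) ?_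
    refine (triv_comp_iff _ _).2 (SeesawGlobal.triv_of_factor
      (pullback.lift (pullback.fst _ _ ≫ pullback.fst p t) (pullback.snd _ _) ?_) (pullback.lift_fst _ _ _)
      (hT _ k hk))
    rw [Category.assoc, pullback.condition, ← Category.assoc, pullback.condition, Category.assoc]
  constructor
  · refine SeesawGlobal.triv_pullback_of_factor
      (Spec.map (CommRingCat.ofHom (Ideal.Quotient.factor
        (Ideal.pow_le_pow_right (Nat.le_succ n) : m ^ (n + 1) ≤ m ^ n)))) ?_ hB
    show _ ≫ Spec.map _ ≫ g = Spec.map _ ≫ g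
    rw [← Category.assoc, ← Spec.map_comp]
    rfl
  · exact (AVTheta.SeesawScheme.bijective_app_snd p _ ⊤).1

end Groth.Agent.RelCube
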