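import Groth.Agent.H23.InfLift

/-!
Triviality of an invertible module along a small extension of schemes.
-/

set_option linter.style.haveILetI false

universe u

open CategoryTheory CategoryTheory.Limits AlgebraicGeometry TopologicalSpace Opposite

namespace Groth.Agent.RelCube

open Groth.Agent.AModX Groth.Agent.InvX Groth.Agent.H23 TrivBasic KunnethH1

section Lemmas

variable {X Y Z : Scheme.{u}}

theorem app_resR (f : Y ⟶ X) {U W : X.Opens} (h : W ≤ U) (g : Γ(X, U)) :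
    f.app W (resR h g) = resR (f.preimage_mono h) (f.app U g) :=
  ConcreteCategory.congr_hom (f.naturality (homOfLE h).op) g

theorem appLE_congr_hom {f f' : Y ⟶ X} (h : f = f') {U : X.Opens} {V : Y.Opens} (e : V ≤ f ⁻¹ᵁ U)
    (e' : V ≤ f' ⁻¹ᵁ U) (g : Γ(X, U)) : f.appLE U V e g = f'.appLE U V e' g := by
  subst h; rfl

theorem app_app_eq_one_congr {f f' : Y ⟶ X} (h : f = f') {U : X.Opens} {g : Γ(X, U)}
    (h1 : f.app U g = 1) : f'.app U g = 1 := by
  subst h; exact h1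

theorem appLE_eq_resR (f : Y ⟶ X) {U : X.Opens} {V : Y.Opens} (e : V ≤ f ⁻¹ᵁ U) (g : Γ(X, U)) :
    f.appLE U V e g = resR e (f.app U g) := rfl

theorem isCobound_congr {I : Type*} {B B' : I → X.Opens} (h : B = B')
    (H : ∀ c : ∀ a b, Γ(X, B a ⊓ B b), IsCocycle B c → IsCobound B c) :
    ∀ c : ∀ a b, Γ(X, B' a ⊓ B' b), IsCocycle B' c → IsCobound B' c := by
  subst h; exact H

end Lemmas

/-- A small extension: `P'` is cut out by the square-zero function `e`, and `e * a = 0` exactly for the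
functions vanishing on `P₀`. -/
structure SmallExt (P P' P₀ : Scheme.{u}) where
  /-- the closed thickened subscheme -/
  j : P' ⟶ P
  /-- the special fibre -/
  i : P₀ ⟶ P
  /-- the small element -/
  e : Γ(P, ⊤)
  hjc : IsClosedImmersion j
  hic : IsClosedImmersion i
  hjs : Function.Surjective j
  he : e * e = 0
  hj : ∀ {U : P.Opens}, IsAffineOpen U → ∀ b : Γ(P, U),
    j.app U b = 0 ↔ ∃ a : Γ(P, U), b = resR le_top e * a
  hi : ∀ {U : P.Opens}, IsAffineOpen U → ∀ a : Γ(P, U),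
    i.app U a = 0 ↔ resR le_top e * a = 0

namespace SmallExt

variable {P P' P₀ : Scheme.{u}} (E : SmallExt P P' P₀)

theorem e_mul_e (U : P.Opens) (a b : Γ(P, U)) :
    (resR le_top E.e * a) * (resR le_top E.e * b) = 0 := by
  rw [mul_mul_mul_comm, ← map_mul, E.he, map_zero, zero_mul]

theorem res_e {U W : P.Opens} (h : W ≤ U) (a : Γ(P, U)) :
    resR h (resR le_top E.e * a) = resR le_top E.e * resR h a := by
  rw [map_mul, resR_resR]

theorem isUnit_one_add (U : P.Opens) (a : Γ(P, U)) : IsUnit (1 + resR le_top E.e * a) :=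
  IsUnit.of_mul_eq_one (1 - resR le_top E.e * a) (by linear_combination -(E.e_mul_e U a a))

end SmallExt

/-- A slice of a small extension. -/
structure Slice {P P' P₀ : Scheme.{u}} (E : SmallExt P P' P₀) where
  /-- the slice -/
  Q : Scheme.{u}
  /-- its thickened subscheme -/
  Q' : Scheme.{u}
  /-- its special fibre -/
  Q₀ : Scheme.{u}
  /-- the small extension of the slice -/
  F : SmallExt Q Q' Q₀
  /-- the slice map -/
  σ : Q ⟶ P
  /-- the slice map of the thickened subschemes -/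
  σ' : Q' ⟶ P'
  /-- the slice map of the special fibres -/
  σ₀ : Q₀ ⟶ P₀
  hσ : IsAffineHom σ
  hsep : Q.IsSeparated
  w' : σ' ≫ E.j = F.j ≫ σ
  w₀ : σ₀ ≫ E.i = F.i ≫ σ
  we : σ.app ⊤ E.e = F.e
  lift_unit : ∀ u : Γ(Q', ⊤), IsUnit u → ∃ v : Γ(Q, ⊤), IsUnit v ∧ F.j.app ⊤ v = u

variable {P P' P₀ : Scheme.{u}} [P.IsSeparated] (E : SmallExt P P' P₀)

omit [P.IsSeparated] in
/-- On a slice with trivial pullback the cocycle of the transition functions is a coboundary. -/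
theorem slice_cobound (T : Slice E) {J : Type u} (B : J → P.Opens) (hB : ∀ a, IsAffineOpen (B a))
    (hcov : ∀ x, ∃ a, x ∈ B a) (L : P.Modules) (e : ∀ a, Γ(L, B a)) (he : ∀ a, InvX.IsFrame (e a))
    (g : ∀ a b, Γ(P, B a ⊓ B b))
    (hg : ∀ a b, AModX.res L (inf_le_right : B a ⊓ B b ≤ B b) (e b) =
      g a b • AModX.res L (inf_le_left : B a ⊓ B b ≤ B a) (e a))
    (hg1 : ∀ a b, E.j.app _ (g a b) = 1) (x : ∀ a b, Γ(P, B a ⊓ B b))
    (hx : ∀ a b, g a b = 1 + resR le_top E.e * x a b)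
    (hσs : Triv ((Scheme.Modules.pullback T.σ).obj L)) :
    IsCobound (fun a => T.σ₀ ⁻¹ᵁ (E.i ⁻¹ᵁ B a)) (pullC (fun a => E.i ⁻¹ᵁ B a) T.σ₀ (fun a b =>
      resR (le_of_eq (Scheme.Hom.preimage_inf E.i).symm) (E.i.app _ (x a b)))) := by
  obtain ⟨Q, Q', Q₀, F, σ, σ', σ₀, hσa, hsep, w', w₀, we, lift_unit⟩ := T
  let C : J → P₀.Opens := fun a => E.i ⁻¹ᵁ B a
  let c : ∀ a b, Γ(P₀, C a ⊓ C b) := fun a b =>
    resR (le_of_eq (Scheme.Hom.preimage_inf E.i).symm) (E.i.app _ (x a b))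
  haveI := F.hjc
  haveI := hσa
  haveI := hsep
  obtain ⟨f, hf⟩ := hσs.exists_frame
  let B' := fun a => σ ⁻¹ᵁ B a
  have hfr : ∀ a, InvX.IsFrame (pullElt σ (e a)) := fun a => isFrame_pullElt σ (he a)
  have hh := fun a => (hfr a).exists_coord le_rfl (AModX.res _ (le_top : B' a ≤ ⊤) f)
  choose h hh using hh
  simp only [AModX.res_self] at hh
  have hUh : ∀ a, IsUnit (h a) := fun a => by
    obtain ⟨r, hr⟩ := (hf.res (le_top : B' a ≤ ⊤)).exists_coord le_rfl (pullElt σ (e a))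
    rw [AModX.res_self] at hr
    refine IsUnit.of_mul_eq_one r ((hfr a).coord_unique le_rfl ?_)
    rw [AModX.res_self, one_smul, mul_comm, mul_smul, ← hh a, ← hr]
  let gs : ∀ a b, Γ(Q, B' a ⊓ B' b) := fun a b => σ.app (B a ⊓ B b) (g a b)
  let xs : ∀ a b, Γ(Q, B' a ⊓ B' b) := fun a b => σ.app (B a ⊓ B b) (x a b)
  have hgx : ∀ a b, gs a b = 1 + resR le_top F.e * xs a b := fun a b => by
    have h2 : σ.app (B a ⊓ B b) (resR le_top E.e) = resR (le_top : σ ⁻¹ᵁ (B a ⊓ B b) ≤ ⊤) F.e := by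
      rw [← we]; exact app_resR σ le_top E.e
    show σ.app (B a ⊓ B b) (g a b) = _
    rw [hx, map_add, map_one, map_mul, h2]
    rfl
  have hrel : ∀ a b, resR (inf_le_right : B' a ⊓ B' b ≤ B' b) (h b) * gs a b =
      resR (inf_le_left : B' a ⊓ B' b ≤ B' a) (h a) := by
    intro a b
    refine (hfr a).coord_unique (inf_le_left : B' a ⊓ B' b ≤ B' a) ?_
    have h1 := congrArg (AModX.res _ (inf_le_left : B' a ⊓ B' b ≤ B' a)) (hh a)
    have h2 := congrArg (AModX.res _ (inf_le_right : B' a ⊓ B' b ≤ B' b)) (hh b)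
    rw [AModX.res_smul, AModX.res_res] at h1 h2
    have h3 : AModX.res _ (inf_le_right : B' a ⊓ B' b ≤ B' b) (pullElt σ (e b)) =
        gs a b • AModX.res _ (inf_le_left : B' a ⊓ B' b ≤ B' a) (pullElt σ (e a)) :=
      (res_pullElt σ inf_le_right (e b)).trans ((congrArg (pullElt σ) (hg a b)).trans
        ((pullElt_smul σ _ _).trans (congrArg (σ.app (B a ⊓ B b) (g a b) • ·) (res_pullElt σ inf_le_left (e a)).symm)))
    rw [mul_smul]
    refine (congrArg (resR (inf_le_right : B' a ⊓ B' b ≤ B' b) (h b) • ·) h3.symm).trans ?_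
    exact h2.symm.trans h1
  have hone : ∀ a b, F.j.app _ (gs a b) = 1 := fun a b =>
    app_app_eq_one_congr w' (by
      show σ'.app _ (E.j.app _ (g a b)) = 1
      rw [hg1, map_one])
  let u : ∀ a, Γ(Q', F.j ⁻¹ᵁ B' a) := fun a => F.j.app _ (h a)
  have hu : ∀ a b, resR (inf_le_left : F.j ⁻¹ᵁ B' a ⊓ F.j ⁻¹ᵁ B' b ≤ _) (u a) =
      resR (inf_le_right : F.j ⁻¹ᵁ B' a ⊓ F.j ⁻¹ᵁ B' b ≤ _) (u b) := fun a b => by
    have h1 := congrArg (F.j.app _) (hrel a b)
    rw [map_mul, hone, mul_one, app_resR, app_resR] at h1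
    exact h1.symm
  obtain ⟨G, hG, -⟩ := Q'.sheaf.existsUnique_gluing' (fun a => F.j ⁻¹ᵁ B' a) ⊤
    (fun a => homOfLE le_top) (fun z _ => Opens.mem_iSup.2 (hcov (σ (F.j z)))) u hu
  have hG' : ∀ a, resR (le_top : F.j ⁻¹ᵁ B' a ≤ ⊤) G = u a := hG
  have hGu : IsUnit G := by
    have hle : (⊤ : Q'.Opens) ≤ Q'.basicOpen G := fun z _ => by
      obtain ⟨a, ha⟩ := hcov (σ (F.j z))
      have h1 := Q'.basicOpen_res G (homOfLE (le_top : F.j ⁻¹ᵁ B' a ≤ ⊤)).op
      have h2 : Q'.basicOpen (resR (le_top : F.j ⁻¹ᵁ B' a ≤ ⊤) G) = F.j ⁻¹ᵁ B' a := by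
        rw [hG' a]; exact Q'.basicOpen_of_isUnit ((hUh a).map _)
      exact (h2.symm.trans h1).le ha |>.2
    have := isUnit_resR (le_refl ⊤) G hle
    exact resR_self (X := Q') (V := ⊤) G ▸ this
  obtain ⟨v, hv, hvG⟩ := lift_unit G hGu
  have hva : ∀ a, IsUnit (resR (le_top : B' a ≤ ⊤) v) := fun a => hv.map _
  let k : ∀ a, Γ(Q, B' a) := fun a => ↑(hva a).unit⁻¹ * h a
  have hk : ∀ a, F.j.app _ (k a) = 1 := fun a => by
    have h1 : F.j.app _ (resR (le_top : B' a ≤ ⊤) v) = u a := by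
      rw [app_resR, hvG]; exact hG' a
    rw [map_mul, show F.j.app _ (h a) = F.j.app _ (resR (le_top : B' a ≤ ⊤) v) from h1.symm,
      ← map_mul, IsUnit.val_inv_mul, map_one]
  have hrel' : ∀ a b, resR (inf_le_right : B' a ⊓ B' b ≤ B' b) (k b) * gs a b =
      resR (inf_le_left : B' a ⊓ B' b ≤ B' a) (k a) := by
    intro a b
    refine (hv.map (resR (le_top : B' a ⊓ B' b ≤ ⊤))).mul_left_cancel ?_
    have hkk : ∀ d (hd : B' a ⊓ B' b ≤ B' d),
        resR (le_top : B' a ⊓ B' b ≤ ⊤) v * resR hd (k d) = resR hd (h d) := fun d hd => by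
      rw [← resR_resR (le_top : B' d ≤ ⊤) hd, ← map_mul, ← mul_assoc, IsUnit.mul_val_inv, one_mul]
    rw [← mul_assoc, hkk b inf_le_right, hkk a inf_le_left, hrel]
  have hy : ∀ a, ∃ y : Γ(Q, B' a), k a = 1 + resR le_top F.e * y := fun a => by
    obtain ⟨y, hy⟩ := (F.hj ((hB a).preimage σ) (k a - 1)).1 (by rw [map_sub, hk, map_one, sub_self])
    exact ⟨y, by rw [← hy]; ring⟩
  choose y hy using hy
  refine ⟨fun a => - resR (le_of_eq (show σ₀ ⁻¹ᵁ (E.i ⁻¹ᵁ B a) = F.i ⁻¹ᵁ B' a by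
    rw [← Scheme.Hom.comp_preimage, w₀, Scheme.Hom.comp_preimage])) (F.i.app _ (y a)), fun a b => ?_⟩
  let W := B' a ⊓ B' b
  have hW : IsAffineOpen W := ((hB a).preimage σ).inf ((hB b).preimage σ)
  have key : F.i.app W (resR inf_le_right (y b) + xs a b -
      resR inf_le_left (y a)) = 0 := by
    rw [F.hi hW]
    have h1 := hrel' a b
    rw [hy, hy, hgx] at h1
    simp only [map_add, map_one, map_mul, resR_resR] at h1
    linear_combination h1 - F.e_mul_e W (resR inf_le_right (y b)) (xs a b)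
  let Z := σ₀ ⁻¹ᵁ C a ⊓ σ₀ ⁻¹ᵁ C b
  have hZW : Z ≤ F.i ⁻¹ᵁ W := fun z hz => by
    have : (σ₀ ≫ E.i) z ∈ B a ⊓ B b := hz
    rw [w₀] at this
    exact this
  have hA : pullC C σ₀ c a b = resR hZW (F.i.app W (σ.app (B a ⊓ B b) (x a b))) := by
    show σ₀.appLE _ Z _ (resR _ (E.i.app _ (x a b))) = _
    rw [appLE_eq_resR, app_resR, resR_resR]
    exact appLE_congr_hom w₀ (U := B a ⊓ B b) (V := Z) (fun z hz => hz) (fun z hz => hZW hz) (x a b)
  have h7 := congrArg (resR hZW) key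
  rw [map_sub, map_add, map_sub, map_add, map_zero, app_resR, app_resR, resR_resR, resR_resR] at h7
  rw [hA, map_neg, map_neg, resR_resR, resR_resR]
  linear_combination h7

/-- The step along a small extension: an invertible module trivial on the thickened subscheme and on
the slices is trivial, if cocycles on the special fibre which split on the slices split. -/
theorem triv_step {J : Type u} (B : J → P.Opens) (hB : ∀ a, IsAffineOpen (B a))
    (hcov : ∀ x, ∃ a, x ∈ B a) {N : Type*} (S : N → Slice E)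
    (hH : ∀ c : ∀ a b, Γ(P₀, E.i ⁻¹ᵁ B a ⊓ E.i ⁻¹ᵁ B b), IsCocycle (fun a => E.i ⁻¹ᵁ B a) c →
      (∀ s, IsCobound (fun a => (S s).σ₀ ⁻¹ᵁ (E.i ⁻¹ᵁ B a))
        (pullC (fun a => E.i ⁻¹ᵁ B a) (S s).σ₀ c)) → IsCobound (fun a => E.i ⁻¹ᵁ B a) c)
    (L : P.Modules) (hL : PicF.IsInvertible L)
    (h' : Triv ((Scheme.Modules.pullback E.j).obj L))
    (hσ : ∀ s, Triv ((Scheme.Modules.pullback (S s).σ).obj L)) : Triv L := by
  classical
  haveI := E.hjc
  haveI := E.hic
  obtain ⟨e₀, he₀⟩ := h'.exists_frame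
  have hab : ∀ a b, IsAffineOpen (B a ⊓ B b) := fun a b => (hB a).inf (hB b)
  -- frames
  have hframe : ∀ a, ∃ e : Γ(L, B a), InvX.IsFrame e ∧
      pullElt E.j e = AModX.res _ le_top e₀ := fun a => by
    obtain ⟨e, he⟩ := InfLift.exists_lift (ProjUPX.isQCoh_of_isInvertible hL) E.j (hB a)
      (AModX.res _ le_top e₀)
    exact ⟨e, InfLift.isFrame_of_pullElt hL E.j E.hjs e (he ▸ he₀.res le_top), he⟩
  choose e he hej using hframe
  have hg := fun a b => (he a).exists_coord (inf_le_left : B a ⊓ B b ≤ B a)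
    (AModX.res L (inf_le_right : B a ⊓ B b ≤ B b) (e b))
  choose g hg using hg
  have hg1 : ∀ a b, E.j.app _ (g a b) = 1 := fun a b => by
    have h1 := congrArg (fun t => pullElt E.j t) (hg a b)
    simp only [pullElt_smul, ← res_pullElt, hej, AModX.res_res] at h1
    refine he₀.coord_unique le_top ?_
    rw [one_smul]
    exact h1.symm
  have hx : ∀ a b, ∃ x : Γ(P, B a ⊓ B b), g a b = 1 + resR le_top E.e * x := fun a b => by
    obtain ⟨x, hx⟩ := (E.hj (hab a b) (g a b - 1)).1 (by rw [map_sub, hg1, map_one, sub_self])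
    exact ⟨x, by rw [← hx]; ring⟩
  choose x hx using hx
  let C : J → P₀.Opens := fun a => E.i ⁻¹ᵁ B a
  let c : ∀ a b, Γ(P₀, C a ⊓ C b) := fun a b =>
    resR (le_of_eq (Scheme.Hom.preimage_inf E.i).symm) (E.i.app _ (x a b))
  have hcoc : IsCocycle C c := by
    intro a b d Z h₁ h₂ h₃
    let W := B a ⊓ B b ⊓ B d
    have hW : IsAffineOpen W := (hab a b).inf (hB d)
    have k1 : W ≤ B a ⊓ B b := inf_le_left
    have k2 : W ≤ B b ⊓ B d := fun z hz => ⟨hz.1.2, hz.2⟩
    have k3 : W ≤ B a ⊓ B d := fun z hz => ⟨hz.1.1, hz.2⟩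
    have key : E.i.app W (resR k1 (x a b) + resR k2 (x b d) - resR k3 (x a d)) = 0 := by
      rw [E.hi hW]
      have h4 := congrArg (AModX.res L k2) (hg b d)
      have h5 := congrArg (AModX.res L k1) (hg a b)
      have h6 := congrArg (AModX.res L k3) (hg a d)
      rw [AModX.res_smul, AModX.res_res, AModX.res_res] at h4 h5 h6
      rw [h5, ← mul_smul, h6] at h4
      have hm := (he a).coord_unique _ h4
      rw [hx, hx, hx] at hm
      simp only [map_add, map_one, E.res_e] at hm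
      linear_combination -hm - E.e_mul_e W (resR k1 (x a b)) (resR k2 (x b d))
    have hZW : Z ≤ E.i ⁻¹ᵁ W := fun z hz => ⟨⟨(h₁ hz).1, (h₁ hz).2⟩, (h₂ hz).2⟩
    have h7 := congrArg (resR hZW) key
    rw [map_sub, map_add, map_sub, map_add, map_zero, sub_eq_zero, app_resR, app_resR, app_resR,
      resR_resR, resR_resR, resR_resR] at h7
    simp only [c, resR_resR]
    exact h7
  have hcs : ∀ s, IsCobound (fun a => (S s).σ₀ ⁻¹ᵁ C a) (pullC C (S s).σ₀ c) := fun s =>
    slice_cobound E (S s) B hB hcov L e he g hg hg1 x hx (hσ s)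
  obtain ⟨η, hη⟩ := hH c hcoc hcs
  have hz : ∀ a, ∃ z, E.i.app (B a) z = η a := fun a => E.i.app_surjective (B a) (hB a) (η a)
  choose z hz using hz
  have hxz : ∀ a b, resR le_top E.e * x a b =
      resR le_top E.e * (resR inf_le_right (z b) - resR inf_le_left (z a)) := fun a b => by
    have h1 : E.i.app (B a ⊓ B b) (x a b - (resR inf_le_right (z b) - resR inf_le_left (z a))) = 0 := by
      have h2 := congrArg (resR (le_of_eq (Scheme.Hom.preimage_inf E.i) :
        E.i ⁻¹ᵁ (B a ⊓ B b) ≤ E.i ⁻¹ᵁ B a ⊓ E.i ⁻¹ᵁ B b)) (hη a b)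
      simp only [c, map_sub, resR_resR, resR_self] at h2
      rw [map_sub, map_sub, app_resR, app_resR, hz, hz, h2, sub_self]
    rw [E.hi (hab a b), mul_sub, sub_eq_zero] at h1
    exact h1
  let ne : ∀ a, Γ(L, B a) := fun a => (1 + resR le_top E.e * -z a) • e a
  obtain ⟨F, hF, -⟩ := AModX.existsUnique_glue (M := L) (V := ⊤) B (fun _ => le_top)
    (fun p _ => hcov p) ne fun a b => by
      simp only [ne, AModX.res_smul, map_add, map_one, E.res_e, map_neg]
      rw [hg a b, ← mul_smul, hx a b, hxz a b]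
      congr 1
      linear_combination E.e_mul_e (B a ⊓ B b) (resR inf_le_right (z b))
        (resR inf_le_right (z b) - resR inf_le_left (z a))
  refine triv_of_frame (e := F) (isFrame_of_germwise fun p _ => ?_)
  obtain ⟨a, ha⟩ := hcov p
  refine ⟨B a, le_top, ha, ?_⟩
  rw [hF]
  exact (he a).isUnit_smul (E.isUnit_one_add _ _)

end Groth.Agent.RelCube
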