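import Groth.Agent.RelCube.SmallExt
import Groth.Agent.H23.RigidInf
import Groth.Agent.H23.InfArtin

/-!
The small step for a product of two flat proper schemes over an Artinian local ring.
-/

set_option linter.style.haveILetI false
set_option linter.unusedSectionVars false
set_option maxHeartbeats 2000000

universe u

open CategoryTheory CategoryTheory.Limits AlgebraicGeometry TopologicalSpace Opposite MonoidalCategory
  CartesianMonoidalCategory

namespace Groth.Agent.RelCube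

open Groth.Agent.AModX Groth.Agent.InvX Groth.Agent.H23 TrivBasic KunnethH1

variable {R R' K : Type u} [CommRing R] [IsLocalRing R] [CommRing R'] [Field K]
  (φ : R →+* K) (hφ : Function.Surjective φ) (q : R →+* R') (hq : Function.Surjective q)
  (ε : R) (hker : RingHom.ker q = Ideal.span {ε}) (hε0 : ε ≠ 0)
  (hεm : ∀ a ∈ IsLocalRing.maximalIdeal R, a * ε = 0) (hε : ε ∈ IsLocalRing.maximalIdeal R)

omit [IsLocalRing R] in
theorem app_α {A : Type u} [CommRing A] (ψ : R →+* A) {P Q : Scheme.{u}} {p : P ⟶ Spec (CommRingCat.of R)}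
    {p' : Q ⟶ Spec (CommRingCat.of A)} {i : Q ⟶ P} (w : i ≫ p = p' ≫ Spec.map (CommRingCat.ofHom ψ))
    (U : P.Opens) (a : R) : i.app U (RigidInf.α p U a) = RigidInf.α p' (i ⁻¹ᵁ U) (ψ a) := by
  have e1 : (Scheme.ΓSpecIso (CommRingCat.of R)).inv ≫ p.appLE ⊤ U le_top ≫ i.app U =
      CommRingCat.ofHom ψ ≫ (Scheme.ΓSpecIso (CommRingCat.of A)).inv ≫ p'.appLE ⊤ (i ⁻¹ᵁ U) le_top := by
    rw [Scheme.Hom.app_eq_appLE]
    erw [Scheme.Hom.appLE_comp_appLE]
    rw [Scheme.ΓSpecIso_inv_naturality_assoc,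
      show (Spec.map (CommRingCat.ofHom ψ)).appTop = (Spec.map (CommRingCat.ofHom ψ)).appLE ⊤ ⊤ le_top from
        (Scheme.Hom.appLE_eq_app _).symm]
    erw [Scheme.Hom.appLE_comp_appLE]
    congr 2
  exact ConcreteCategory.congr_hom e1 a

omit [IsLocalRing R] in
theorem app_eq_zero_iff {A : Type u} [CommRing A] (ψ : R →+* A) (hψ : Function.Surjective ψ)
    {P Q : Scheme.{u}} {p : P ⟶ Spec (CommRingCat.of R)} {p' : Q ⟶ Spec (CommRingCat.of A)} {i : Q ⟶ P}
    (h : IsPullback i p' p (Spec.map (CommRingCat.ofHom ψ))) {U : P.Opens} (hU : IsAffineOpen U)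
    (b : Γ(P, U)) : i.app U b = 0 ↔ b ∈ (RingHom.ker ψ).map (RigidInf.α p U) := by
  constructor
  · intro hb
    refine RigidInf.mem_of_app_eq_zero p ψ hψ hU b ?_
    have h1 : h.isoPullback.inv ≫ i = pullback.fst p _ := h.isoPullback_inv_fst
    have h2 : ∀ {f : pullback p (Spec.map (CommRingCat.ofHom ψ)) ⟶ P} (_ : h.isoPullback.inv ≫ i = f),
        f.app U b = 0 := by
      rintro f rfl
      show (h.isoPullback.inv.app _) (i.app U b) = 0
      rw [hb, map_zero]
    exact h2 h1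
  · intro hb
    have : (RingHom.ker ψ).map (RigidInf.α p U) ≤ RingHom.ker (i.app U).hom :=
      Ideal.map_le_iff_le_comap.mpr fun a ha => by
        rw [Ideal.mem_comap, RingHom.mem_ker]
        refine (app_α ψ h.w U a).trans ?_
        rw [(RingHom.mem_ker).mp ha, map_zero]
    exact this hb

include hφ hq hker hε0 hεm hε in
theorem surjective_of_isPullback {P P' : Scheme.{u}} {p : P ⟶ Spec (CommRingCat.of R)}
    {p' : P' ⟶ Spec (CommRingCat.of R')} {j : P' ⟶ P}
    (hj : IsPullback j p' p (Spec.map (CommRingCat.ofHom q))) : Function.Surjective j := by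
  haveI : Surjective (Spec.map (CommRingCat.ofHom q)) := by
    refine ⟨fun (x : PrimeSpectrum R) => ?_⟩
    have h : RingHom.ker q ≤ x.asIdeal := by
      rw [hker, Ideal.span_singleton_le_iff_mem]
      exact x.isPrime.mem_of_pow_mem 2 (by rw [pow_two, hεm ε hε]; exact zero_mem _)
    exact (range_comap_of_surjective _ _ hq).ge h
  exact (MorphismProperty.of_isPullback (P := @Surjective) hj.flip inferInstance).surj

include hφ hq hker hε0 hεm hε in
/-- The small extension of a flat scheme. -/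
noncomputable def smallExt {P P' P₀ : Scheme.{u}} (p : P ⟶ Spec (CommRingCat.of R)) [Flat p]
    (j : P' ⟶ P) (p' : P' ⟶ Spec (CommRingCat.of R'))
    (hj : IsPullback j p' p (Spec.map (CommRingCat.ofHom q)))
    (i : P₀ ⟶ P) (p₀ : P₀ ⟶ Spec (CommRingCat.of K))
    (hi : IsPullback i p₀ p (Spec.map (CommRingCat.ofHom φ))) : SmallExt P P' P₀ where
  j := j
  i := i
  e := RigidInf.α p ⊤ ε
  hjc := MorphismProperty.of_isPullback (P := @IsClosedImmersion) hj.flip
    (IsClosedImmersion.spec_of_surjective (CommRingCat.ofHom q) hq)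
  hic := MorphismProperty.of_isPullback (P := @IsClosedImmersion) hi.flip
    (IsClosedImmersion.spec_of_surjective (CommRingCat.ofHom φ) hφ)
  hjs := surjective_of_isPullback φ hφ q hq ε hker hε0 hεm hε hj
  he := by rw [← map_mul, hεm ε hε, map_zero]
  hj := fun {U} hU b => by
    rw [app_eq_zero_iff q hq hj hU, hker, Ideal.map_span, Set.image_singleton, Ideal.mem_span_singleton',
      show resR le_top (RigidInf.α p ⊤ ε) = RigidInf.α p U ε from RigidInf.map_α p le_top ε]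
    exact ⟨fun ⟨a, ha⟩ => ⟨a, ha.symm.trans (mul_comm _ _)⟩, fun ⟨a, ha⟩ => ⟨a, (mul_comm _ _).trans ha.symm⟩⟩
  hi := fun {U} hU a => by
    rw [app_eq_zero_iff φ hφ hi hU, RigidInf.ker_eq_maximalIdeal φ hφ,
      show resR le_top (RigidInf.α p ⊤ ε) = RigidInf.α p U ε from RigidInf.map_α p le_top ε]
    constructor
    · intro ha
      refine Submodule.span_induction (p := fun x _ => RigidInf.α p U ε * x = 0) ?_ (mul_zero _) ?_ ?_ ha
      · rintro _ ⟨c, hc, rfl⟩
        rw [← map_mul, mul_comm, hεm c hc, map_zero]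
      · intro x y _ _ hx hy; rw [mul_add, hx, hy, add_zero]
      · intro r x _ hx; rw [smul_eq_mul, mul_left_comm, hx, mul_zero]
    · intro ha
      exact RigidInf.mem_maximal_map_of_mul_mem (RigidInf.α p U) (RigidInf.flat_α p hU) (J := ⊥)
        (by simpa using hε0) (by rw [Ideal.map_bot, Submodule.mem_bot, mul_comm, ha])

omit [IsLocalRing R] in
theorem app_top_α {P Q : Scheme.{u}} (p : P ⟶ Spec (CommRingCat.of R)) (σ : Q ⟶ P)
    {pQ : Q ⟶ Spec (CommRingCat.of R)} (w : σ ≫ p = pQ) (a : R) :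
    σ.app ⊤ (RigidInf.α p ⊤ a) = RigidInf.α pQ ⊤ a := by
  subst w
  exact app_α (RingHom.id R) (p := p) (p' := σ ≫ p) (i := σ) (by
    rw [show CommRingCat.ofHom (RingHom.id R) = 𝟙 _ from rfl, Spec.map_id, Category.comp_id]) ⊤ a

theorem appTop_surjective_units {X : Scheme.{u}} {R A : Type u} [CommRing R] [CommRing A]
    (ψ : R →+* A) (hψ : Function.Surjective ψ) [IsLocalRing R]
    (pX : X ⟶ Spec (CommRingCat.of R)) {X' : Scheme.{u}} {p' : X' ⟶ Spec (CommRingCat.of A)} {j : X' ⟶ X}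
    (w : j ≫ pX = p' ≫ Spec.map (CommRingCat.ofHom ψ)) (hb : Function.Bijective p'.appTop)
    (u : Γ(X', ⊤)) (hu : IsUnit u) : ∃ v : Γ(X, ⊤), IsUnit v ∧ j.app ⊤ v = u := by
  let e := Scheme.ΓSpecIso (CommRingCat.of A)
  obtain ⟨c, hc⟩ := hb.2 u
  have hcu : IsUnit c := by
    have h := hu.map (RingEquiv.ofBijective p'.appTop.hom hb).symm
    rwa [show (RingEquiv.ofBijective p'.appTop.hom hb).symm u = c from
      (RingEquiv.ofBijective p'.appTop.hom hb).injective (by rw [RingEquiv.apply_symm_apply]; exact hc.symm)] at h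
  obtain ⟨r, hr, hru⟩ : ∃ r, ψ r = e.hom c ∧ IsUnit r := by
    rcases subsingleton_or_nontrivial A with hA | hA
    · exact ⟨1, Subsingleton.elim _ _, isUnit_one⟩
    · obtain ⟨r, hr⟩ := hψ (e.hom c)
      refine ⟨r, hr, ?_⟩
      haveI := IsLocalHom.of_surjective ψ hψ
      exact isUnit_of_map_unit ψ r (hr ▸ hcu.map e.hom.hom)
  refine ⟨RigidInf.α pX ⊤ r, hru.map _, ?_⟩
  refine (app_α ψ w ⊤ r).trans ?_
  rw [hr]
  show p'.appLE ⊤ ⊤ le_top (e.inv (e.hom c)) = u
  rw [e.hom_inv_id_apply, ← hc, show p'.appTop = p'.appLE ⊤ ⊤ le_top from (Scheme.Hom.appLE_eq_app _).symm]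

theorem isCobound_congr₂ {P₀ Q₁ Q₂ : Scheme.{u}} (σ₁ : Q₁ ⟶ P₀) (σ₂ : Q₂ ⟶ P₀) {I : Type*}
    {B B' : I → P₀.Opens} (h : B = B')
    (H : ∀ c : ∀ a b, Γ(P₀, B a ⊓ B b), IsCocycle B c →
      IsCobound (fun a => σ₁ ⁻¹ᵁ B a) (pullC B σ₁ c) → IsCobound (fun a => σ₂ ⁻¹ᵁ B a) (pullC B σ₂ c) →
      IsCobound B c) :
    ∀ c : ∀ a b, Γ(P₀, B' a ⊓ B' b), IsCocycle B' c →
      IsCobound (fun a => σ₁ ⁻¹ᵁ B' a) (pullC B' σ₁ c) → IsCobound (fun a => σ₂ ⁻¹ᵁ B' a) (pullC B' σ₂ c) →
      IsCobound B' c := by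
  subst h; exact H

section Product

variable [IsNoetherianRing R] {X Y : Scheme.{u}} (pX : X ⟶ Spec (CommRingCat.of R))
  (pY : Y ⟶ Spec (CommRingCat.of R)) [IsProper pX] [IsProper pY] [Flat pX] [Flat pY]
  (x : Spec (CommRingCat.of R) ⟶ X) (hx : x ≫ pX = 𝟙 _)
  (y : Spec (CommRingCat.of R) ⟶ Y) (hy : y ≫ pY = 𝟙 _)

/-- The slice along a section of the second factor. -/
noncomputable abbrev sliceFst : X ⟶ pullback pX pY :=
  pullback.lift (𝟙 X) (pX ≫ y) (by rw [Category.id_comp, Category.assoc, hy, Category.comp_id])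

/-- The slice along a section of the first factor. -/
noncomputable abbrev sliceSnd : Y ⟶ pullback pX pY :=
  pullback.lift (pY ≫ x) (𝟙 Y) (by rw [Category.id_comp, Category.assoc, hx, Category.comp_id])

theorem bijective_snd_comp {Z S T T' : Scheme.{u}} (pZ : Z ⟶ S) (t : T ⟶ S) (t' : T' ⟶ T) (tK : T' ⟶ S)
    (h : t' ≫ t = tK) (hZ : Function.Bijective (pullback.snd pZ tK).appTop) :
    Function.Bijective (pullback.snd (pullback.snd pZ t) t').appTop := by
  subst h
  rw [← pullbackLeftPullbackSndIso_hom_snd pZ t t', Scheme.Hom.comp_appTop]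
  exact (SeesawGlobal.bijective_appTop_iso (pullbackLeftPullbackSndIso pZ t t')).comp hZ

omit [IsLocalRing R] [IsNoetherianRing R] in
/-- The special fibre of the product is the product of the special fibres. -/
theorem isPullback_special {K : Type u} [Field K] {tK : Spec (CommRingCat.of K) ⟶ Spec (CommRingCat.of R)}
    {V W : Over (Spec (CommRingCat.of K))} {iX : V.left ⟶ X} {iY : W.left ⟶ Y}
    (hVX : IsPullback iX V.hom pX tK) (hWY : IsPullback iY W.hom pY tK)
    {i : (V ⊗ W).left ⟶ pullback pX pY} (hi₁ : i ≫ pullback.fst pX pY = (fst V W).left ≫ iX)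
    (hi₂ : i ≫ pullback.snd pX pY = (snd V W).left ≫ iY) :
    IsPullback i ((fst V W).left ≫ V.hom) (pullback.fst pX pY ≫ pX) tK := by
  have h1 : IsPullback (snd V W).left (fst V W).left W.hom V.hom := (IsPullback.of_hasPullback V.hom W.hom).flip
  have hsq : IsPullback i (fst V W).left (pullback.fst pX pY) iX := by
    refine IsPullback.of_right ?_ hi₁ ((IsPullback.of_hasPullback pX pY).flip)
    rw [hi₂, hVX.w]
    exact h1.paste_horiz hWY
  exact hsq.paste_vert hVX

omit [IsLocalRing R] [IsNoetherianRing R] in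
/-- The Künneth splitting on the special fibre, for the boxes cut out by covers of the factors. -/
theorem isCobound_special {K : Type u} [Field K]
    {V W : Over (Spec (CommRingCat.of K))} [IsProper V.hom] [IsProper W.hom]
    (iX : V.left ⟶ X) (iY : W.left ⟶ Y) [IsAffineHom iX] [IsAffineHom iY]
    (hV : Function.Bijective V.hom.appTop) (hW : Function.Bijective W.hom.appTop)
    (x₀ : 𝟙_ (Over (Spec (CommRingCat.of K))) ⟶ V) (y₀ : 𝟙_ (Over (Spec (CommRingCat.of K))) ⟶ W)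
    (i : (V ⊗ W).left ⟶ pullback pX pY) (hi₁ : i ≫ pullback.fst pX pY = (fst V W).left ≫ iX)
    (hi₂ : i ≫ pullback.snd pX pY = (snd V W).left ≫ iY)
    {ι κ : Type u} [Finite ι] [Finite κ] (U : ι → X.Opens) (O : κ → Y.Opens)
    (hU : ∀ a, IsAffineOpen (U a)) (hO : ∀ b, IsAffineOpen (O b))
    (hcU : ∀ z, ∃ a, z ∈ U a) (hcO : ∀ z, ∃ b, z ∈ O b)
    (c : ∀ a b : ι × κ, Γ((V ⊗ W).left,
      i ⁻¹ᵁ (pullback.fst pX pY ⁻¹ᵁ U a.1 ⊓ pullback.snd pX pY ⁻¹ᵁ O a.2) ⊓
      i ⁻¹ᵁ (pullback.fst pX pY ⁻¹ᵁ U b.1 ⊓ pullback.snd pX pY ⁻¹ᵁ O b.2)))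
    (hc : IsCocycle (fun a : ι × κ => i ⁻¹ᵁ (pullback.fst pX pY ⁻¹ᵁ U a.1 ⊓ pullback.snd pX pY ⁻¹ᵁ O a.2)) c)
    (h₁ : IsCobound (fun a : ι × κ => (lift (toUnit W ≫ x₀) (𝟙 W)).left ⁻¹ᵁ
        (i ⁻¹ᵁ (pullback.fst pX pY ⁻¹ᵁ U a.1 ⊓ pullback.snd pX pY ⁻¹ᵁ O a.2)))
      (pullC (fun a : ι × κ => i ⁻¹ᵁ (pullback.fst pX pY ⁻¹ᵁ U a.1 ⊓ pullback.snd pX pY ⁻¹ᵁ O a.2))
        (lift (toUnit W ≫ x₀) (𝟙 W)).left c))
    (h₂ : IsCobound (fun a : ι × κ => (lift (𝟙 V) (toUnit V ≫ y₀)).left ⁻¹ᵁ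
        (i ⁻¹ᵁ (pullback.fst pX pY ⁻¹ᵁ U a.1 ⊓ pullback.snd pX pY ⁻¹ᵁ O a.2)))
      (pullC (fun a : ι × κ => i ⁻¹ᵁ (pullback.fst pX pY ⁻¹ᵁ U a.1 ⊓ pullback.snd pX pY ⁻¹ᵁ O a.2))
        (lift (𝟙 V) (toUnit V ≫ y₀)).left c)) :
    IsCobound (fun a : ι × κ => i ⁻¹ᵁ (pullback.fst pX pY ⁻¹ᵁ U a.1 ⊓ pullback.snd pX pY ⁻¹ᵁ O a.2)) c := by
  have hboxes : boxes (fun a => iX ⁻¹ᵁ U a) (fun b => iY ⁻¹ᵁ O b) =
      fun a : ι × κ => i ⁻¹ᵁ (pullback.fst pX pY ⁻¹ᵁ U a.1 ⊓ pullback.snd pX pY ⁻¹ᵁ O a.2) := by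
    funext a
    show (fst V W).left ⁻¹ᵁ (iX ⁻¹ᵁ U a.1) ⊓ (snd V W).left ⁻¹ᵁ (iY ⁻¹ᵁ O a.2) = _
    rw [Scheme.Hom.preimage_inf, ← Scheme.Hom.comp_preimage, ← Scheme.Hom.comp_preimage,
      ← Scheme.Hom.comp_preimage, ← Scheme.Hom.comp_preimage, hi₁, hi₂]
  exact isCobound_congr₂ _ _ hboxes (fun c hc s₁ s₂ =>
    KunnethH1.isCobound_of_slices (fun a => iX ⁻¹ᵁ U a) (fun b => iY ⁻¹ᵁ O b) (fun z => hcU (iX z))
      (fun z => hcO (iY z)) (fun a => (hU a).preimage iX) (fun b => (hO b).preimage iY) hV hW x₀ y₀ c hc s₁ s₂)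
    c hc h₁ h₂

/-- The slice along a section of the second factor, with its small extension. -/
noncomputable def sliceX {P' P₀ : Scheme.{u}} {E : SmallExt (pullback pX pY) P' P₀}
    {X' X₀ : Scheme.{u}} (F : SmallExt X X' X₀) [X.IsSeparated] (σ' : X' ⟶ P') (σ₀ : X₀ ⟶ P₀)
    (w' : σ' ≫ E.j = F.j ≫ sliceFst pX pY y hy) (w₀ : σ₀ ≫ E.i = F.i ≫ sliceFst pX pY y hy)
    (we : (sliceFst pX pY y hy).app ⊤ E.e = F.e)
    (hl : ∀ u : Γ(X', ⊤), IsUnit u → ∃ v : Γ(X, ⊤), IsUnit v ∧ F.j.app ⊤ v = u) : Slice E where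
  Q := X
  Q' := X'
  Q₀ := X₀
  F := F
  σ := sliceFst pX pY y hy
  σ' := σ'
  σ₀ := σ₀
  hσ := by
    haveI : IsClosedImmersion (sliceFst pX pY y hy ≫ pullback.fst pX pY) := by
      rw [show sliceFst pX pY y hy ≫ pullback.fst pX pY = 𝟙 X from pullback.lift_fst _ _ _]; infer_instance
    haveI := IsClosedImmersion.of_comp (sliceFst pX pY y hy) (pullback.fst pX pY)
    infer_instance
  hsep := inferInstance
  w' := w'
  w₀ := w₀
  we := we
  lift_unit := hl

/-- The slice along a section of the first factor, with its small extension. -/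
noncomputable def sliceY {P' P₀ : Scheme.{u}} {E : SmallExt (pullback pX pY) P' P₀}
    {Y' Y₀ : Scheme.{u}} (F : SmallExt Y Y' Y₀) [Y.IsSeparated] (σ' : Y' ⟶ P') (σ₀ : Y₀ ⟶ P₀)
    (w' : σ' ≫ E.j = F.j ≫ sliceSnd pX pY x hx) (w₀ : σ₀ ≫ E.i = F.i ≫ sliceSnd pX pY x hx)
    (we : (sliceSnd pX pY x hx).app ⊤ E.e = F.e)
    (hl : ∀ u : Γ(Y', ⊤), IsUnit u → ∃ v : Γ(Y, ⊤), IsUnit v ∧ F.j.app ⊤ v = u) : Slice E where
  Q := Y
  Q' := Y'
  Q₀ := Y₀
  F := F
  σ := sliceSnd pX pY x hx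
  σ' := σ'
  σ₀ := σ₀
  hσ := by
    haveI : IsClosedImmersion (sliceSnd pX pY x hx ≫ pullback.snd pX pY) := by
      rw [show sliceSnd pX pY x hx ≫ pullback.snd pX pY = 𝟙 Y from pullback.lift_snd _ _ _]; infer_instance
    haveI := IsClosedImmersion.of_comp (sliceSnd pX pY x hx) (pullback.snd pX pY)
    infer_instance
  hsep := inferInstance
  w' := w'
  w₀ := w₀
  we := we
  lift_unit := hl

include hφ hq hker hε0 hεm hε in
/-- The small step for the product, relative to given special fibres. -/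
theorem triv_step_aux (hm : IsNilpotent (IsLocalRing.maximalIdeal R))
    {V W : Over (Spec (CommRingCat.of K))} [IsProper V.hom] [IsProper W.hom]
    {iX : V.left ⟶ X} {iY : W.left ⟶ Y}
    (hVX : IsPullback iX V.hom pX (Spec.map (CommRingCat.ofHom φ)))
    (hWY : IsPullback iY W.hom pY (Spec.map (CommRingCat.ofHom φ)))
    (hV : Function.Bijective V.hom.appTop) (hW : Function.Bijective W.hom.appTop)
    (x₀ : 𝟙_ (Over (Spec (CommRingCat.of K))) ⟶ V) (y₀ : 𝟙_ (Over (Spec (CommRingCat.of K))) ⟶ W)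
    (hx₀ : x₀.left ≫ iX = Spec.map (CommRingCat.ofHom φ) ≫ x)
    (hy₀ : y₀.left ≫ iY = Spec.map (CommRingCat.ofHom φ) ≫ y)
    (hliftX : ∀ u : Γ(pullback pX (Spec.map (CommRingCat.ofHom q)), ⊤), IsUnit u →
      ∃ v : Γ(X, ⊤), IsUnit v ∧ (pullback.fst pX (Spec.map (CommRingCat.ofHom q))).app ⊤ v = u)
    (hliftY : ∀ u : Γ(pullback pY (Spec.map (CommRingCat.ofHom q)), ⊤), IsUnit u →
      ∃ v : Γ(Y, ⊤), IsUnit v ∧ (pullback.fst pY (Spec.map (CommRingCat.ofHom q))).app ⊤ v = u)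
    (L : (pullback pX pY).Modules) (hL : PicF.IsInvertible L)
    (h' : Triv ((Scheme.Modules.pullback
      (pullback.fst (pullback.fst pX pY ≫ pX) (Spec.map (CommRingCat.ofHom q)))).obj L))
    (h₁ : Triv ((Scheme.Modules.pullback (sliceSnd pX pY x hx)).obj L))
    (h₂ : Triv ((Scheme.Modules.pullback (sliceFst pX pY y hy)).obj L)) : Triv L := by
  have hiw : ((fst V W).left ≫ iX) ≫ pX = ((snd V W).left ≫ iY) ≫ pY := by
    rw [Category.assoc, Category.assoc, hVX.w, hWY.w, ← Category.assoc, ← Category.assoc]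
    exact congrArg (· ≫ Spec.map (CommRingCat.ofHom φ)) ((Over.w (fst V W)).trans (Over.w (snd V W)).symm)
  let i : (V ⊗ W).left ⟶ pullback pX pY := pullback.lift ((fst V W).left ≫ iX) ((snd V W).left ≫ iY) hiw
  have hi₁ : i ≫ pullback.fst pX pY = (fst V W).left ≫ iX := pullback.lift_fst _ _ _
  have hi₂ : i ≫ pullback.snd pX pY = (snd V W).left ≫ iY := pullback.lift_snd _ _ _
  have hP₀ := isPullback_special pX pY hVX hWY hi₁ hi₂
  have hax : ∀ {Z : Scheme.{u}} (pZ : Z ⟶ Spec (CommRingCat.of R)) [IsSeparated pZ], Z.IsSeparated :=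
    fun {Z} pZ _ => ⟨by rw [← terminal.comp_from pZ]; infer_instance⟩
  haveI := hax pX
  haveI := hax pY
  haveI := hax (pullback.fst pX pY ≫ pX)
  haveI : IsClosedImmersion (Spec.map (CommRingCat.ofHom φ)) :=
    IsClosedImmersion.spec_of_surjective (CommRingCat.ofHom φ) hφ
  haveI : IsClosedImmersion iX := MorphismProperty.of_isPullback (P := @IsClosedImmersion) hVX.flip inferInstance
  haveI : IsClosedImmersion iY := MorphismProperty.of_isPullback (P := @IsClosedImmersion) hWY.flip inferInstance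
  let E := smallExt φ hφ q hq ε hker hε0 hεm hε (pullback.fst pX pY ≫ pX) _ _
    (IsPullback.of_hasPullback _ (Spec.map (CommRingCat.ofHom q))) i _ hP₀
  let SX : Slice E := sliceX pX pY y hy (smallExt φ hφ q hq ε hker hε0 hεm hε pX _ _
      (IsPullback.of_hasPullback pX (Spec.map (CommRingCat.ofHom q))) iX _ hVX)
    (pullback.lift (pullback.fst _ _ ≫ sliceFst pX pY y hy) (pullback.snd _ _)
      (by rw [Category.assoc, ← Category.assoc (sliceFst pX pY y hy), pullback.lift_fst, Category.id_comp]; exact pullback.condition))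
    (lift (𝟙 V) (toUnit V ≫ y₀)).left (pullback.lift_fst _ _ _)
    (by
      show _ ≫ i = iX ≫ _
      refine pullback.hom_ext ?_ ?_
      · rw [Category.assoc, Category.assoc, hi₁, pullback.lift_fst, Category.comp_id,
          ← Category.assoc, ← Over.comp_left, lift_fst]
        exact Category.id_comp _
      · rw [Category.assoc, Category.assoc, hi₂, pullback.lift_snd,
          ← Category.assoc, ← Over.comp_left, lift_snd, Over.comp_left, Category.assoc, hy₀,
          ← Category.assoc, ← Category.assoc, hVX.w]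
        rfl)
    (app_top_α _ _ (by rw [← Category.assoc, pullback.lift_fst, Category.id_comp]) ε)
    hliftX
  let SY : Slice E := sliceY pX pY x hx (smallExt φ hφ q hq ε hker hε0 hεm hε pY _ _
      (IsPullback.of_hasPullback pY (Spec.map (CommRingCat.ofHom q))) iY _ hWY)
    (pullback.lift (pullback.fst _ _ ≫ sliceSnd pX pY x hx) (pullback.snd _ _)
      (by rw [pullback.condition (f := pX), Category.assoc, ← Category.assoc (sliceSnd pX pY x hx),
            pullback.lift_snd, Category.id_comp]; exact pullback.condition))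
    (lift (toUnit W ≫ x₀) (𝟙 W)).left (pullback.lift_fst _ _ _)
    (by
      show _ ≫ i = iY ≫ _
      refine pullback.hom_ext ?_ ?_
      · rw [Category.assoc, Category.assoc, hi₁, pullback.lift_fst,
          ← Category.assoc, ← Over.comp_left, lift_fst, Over.comp_left, Category.assoc, hx₀,
          ← Category.assoc, ← Category.assoc, hWY.w]
        rfl
      · rw [Category.assoc, Category.assoc, hi₂, pullback.lift_snd, Category.comp_id,
          ← Category.assoc, ← Over.comp_left, lift_snd]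
        exact Category.id_comp _)
    (app_top_α _ _ (by rw [pullback.condition, ← Category.assoc, pullback.lift_snd, Category.id_comp]) ε)
    hliftY
  haveI : CompactSpace X := QuasiCompact.compactSpace_of_compactSpace pX
  haveI : CompactSpace Y := QuasiCompact.compactSpace_of_compactSpace pY
  obtain ⟨ι, _, U, hU, hUσ⟩ := QCoh.exists_affine_cover (X := X)
  obtain ⟨κ, _, O, hO, hOσ⟩ := QCoh.exists_affine_cover (X := Y)
  have hU1 : ∀ i, IsAffineOpen (U i) := fun i => by simpa using hUσ (p := 0) fun _ => i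
  have hO1 : ∀ j, IsAffineOpen (O j) := fun j => by simpa using hOσ (p := 0) fun _ => j
  have hcU : ∀ z : X, ∃ i, z ∈ U i := fun z => Opens.mem_iSup.1 (hU.ge trivial)
  have hcO : ∀ z : Y, ∃ j, z ∈ O j := fun z => Opens.mem_iSup.1 (hO.ge trivial)
  refine RelCube.triv_step E
    (fun a : ι × κ => pullback.fst pX pY ⁻¹ᵁ U a.1 ⊓ pullback.snd pX pY ⁻¹ᵁ O a.2) (fun a => ?_) (fun z => ?_)
    (fun b : Bool => cond b SY SX) (fun c hc hs => ?_) L hL h' (fun b => ?_)
  · exact Groth.Agent.S17858.isAffineOpen_inf_pullback pX pY (hU1 a.1) (hO1 a.2)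
      (isAffineOpen_top (Spec (CommRingCat.of R))) le_top le_top
  · obtain ⟨a, ha⟩ := hcU (pullback.fst pX pY z)
    obtain ⟨b, hb⟩ := hcO (pullback.snd pX pY z)
    exact ⟨(a, b), ha, hb⟩
  · exact isCobound_special pX pY iX iY hV hW x₀ y₀ i hi₁ hi₂ U O hU1 hO1 hcU hcO c hc (hs true) (hs false)
  · cases b
    · exact h₂
    · exact h₁

include hφ hq hker hε0 hεm hε in
/-- The small step for the product. -/
theorem triv_step_prod (hm : IsNilpotent (IsLocalRing.maximalIdeal R))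
    (hX : Function.Bijective (pullback.snd pX (Spec.map (CommRingCat.ofHom φ))).appTop)
    (hY : Function.Bijective (pullback.snd pY (Spec.map (CommRingCat.ofHom φ))).appTop)
    (L : (pullback pX pY).Modules) (hL : PicF.IsInvertible L)
    (h' : Triv ((Scheme.Modules.pullback
      (pullback.fst (pullback.fst pX pY ≫ pX) (Spec.map (CommRingCat.ofHom q)))).obj L))
    (h₁ : Triv ((Scheme.Modules.pullback (sliceSnd pX pY x hx)).obj L))
    (h₂ : Triv ((Scheme.Modules.pullback (sliceFst pX pY y hy)).obj L)) : Triv L := by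
  have h1q : (1 : R) ∉ RingHom.ker q := fun h1 => by
    rw [hker] at h1
    exact (IsLocalRing.maximalIdeal.isMaximal R).ne_top
      ((Ideal.eq_top_iff_one _).2 ((Ideal.span_singleton_le_iff_mem _).2 hε h1))
  haveI : Nontrivial R' := ⟨⟨0, 1, fun h => h1q (by rw [RingHom.mem_ker, map_one, ← h])⟩⟩
  haveI : IsLocalRing R' := IsLocalRing.of_surjective' q hq
  haveI : IsNoetherianRing R' := isNoetherianRing_of_surjective R R' q hq
  have hkφ : RingHom.ker q ≤ RingHom.ker φ := by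
    rw [RigidInf.ker_eq_maximalIdeal φ hφ, hker, Ideal.span_singleton_le_iff_mem]; exact hε
  let φ' : R' →+* K := RingHom.liftOfSurjective q hq ⟨φ, hkφ⟩
  have hφ' : φ'.comp q = φ := RingHom.ext fun a => RingHom.liftOfSurjective_comp_apply q hq _ a
  have hφ's : Function.Surjective φ' := fun c => by
    obtain ⟨a, rfl⟩ := hφ c
    exact ⟨q a, RingHom.congr_fun hφ' a⟩
  have hm' : IsNilpotent (IsLocalRing.maximalIdeal R') := by
    obtain ⟨n, hn⟩ := hm
    refine ⟨n, ?_⟩
    rw [Submodule.zero_eq_bot, ← le_bot_iff, ← IsLocalRing.map_maximalIdeal_of_surjective q hq, ← Ideal.map_pow, hn]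
    simp
  have htQK : Spec.map (CommRingCat.ofHom φ') ≫ Spec.map (CommRingCat.ofHom q) = Spec.map (CommRingCat.ofHom φ) := by
    rw [← Spec.map_comp, ← CommRingCat.ofHom_comp, hφ']
  have hlift : ∀ {Z : Scheme.{u}} (pZ : Z ⟶ Spec (CommRingCat.of R)) [Flat pZ],
      Function.Bijective (pullback.snd pZ (Spec.map (CommRingCat.ofHom φ))).appTop →
      ∀ u : Γ(pullback pZ (Spec.map (CommRingCat.ofHom q)), ⊤), IsUnit u → ∃ v : Γ(Z, ⊤), IsUnit v ∧
        (pullback.fst pZ (Spec.map (CommRingCat.ofHom q))).app ⊤ v = u := by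
    intro Z pZ _ hZ
    exact appTop_surjective_units q hq pZ pullback.condition
      (RigidInf.bijective_appTop _ φ' hφ's hm' (bijective_snd_comp pZ _ _ _ htQK hZ))
  haveI : IsProper (Over.mk (pullback.snd pX (Spec.map (CommRingCat.ofHom φ)))).hom :=
    inferInstanceAs (IsProper (pullback.snd pX (Spec.map (CommRingCat.ofHom φ))))
  haveI : IsProper (Over.mk (pullback.snd pY (Spec.map (CommRingCat.ofHom φ)))).hom :=
    inferInstanceAs (IsProper (pullback.snd pY (Spec.map (CommRingCat.ofHom φ))))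
  exact triv_step_aux φ hφ q hq ε hker hε0 hεm hε pX pY x hx y hy hm
    (V := Over.mk (pullback.snd pX (Spec.map (CommRingCat.ofHom φ))))
    (W := Over.mk (pullback.snd pY (Spec.map (CommRingCat.ofHom φ))))
    (IsPullback.of_hasPullback _ _) (IsPullback.of_hasPullback _ _) hX hY
    (Over.homMk (pullback.lift (Spec.map (CommRingCat.ofHom φ) ≫ x) (𝟙 _)
      (by rw [Category.assoc, hx, Category.comp_id, Category.id_comp])) (pullback.lift_snd _ _ _))
    (Over.homMk (pullback.lift (Spec.map (CommRingCat.ofHom φ) ≫ y) (𝟙 _)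
      (by rw [Category.assoc, hy, Category.comp_id, Category.id_comp])) (pullback.lift_snd _ _ _))
    (pullback.lift_fst _ _ _) (pullback.lift_fst _ _ _) (hlift pX hX) (hlift pY hY) L hL h' h₁ h₂

end Product

end Groth.Agent.RelCube
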